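import Cfsg.Agent.SpecFive.Basic
import Cfsg.Agent.OddChar.PF.OddOrder

/-!
Groups with element orders at most five: the Sylow subgroups for the odd primes are TI.
-/

set_option autoImplicit false
set_option linter.unusedSectionVars false

namespace Cfsg.Lib.SpecFive

open Subgroup Cfsg.Lib.Coprime
open scoped commutatorElement

universe u

variable {G : Type u} [Group G]

/-- A nontrivial solvable normal subgroup contains a nontrivial normal `q`-subgroup. -/
theorem exists_normal_qgroup [Finite G] (H : Subgroup G) [H.Normal] (hs : Group.IsSolvable H)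
    (h1 : H ≠ ⊥) : ∃ q : ℕ, q.Prime ∧ ∃ V : Subgroup G, V.Normal ∧ IsPGroup q V ∧ V ≠ ⊥ ∧ V ≤ H := by
  classical
  obtain ⟨n, hn⟩ := (Group.isSolvable_def H).1 hs
  have hex : ∃ m, derivedSeries H m = ⊥ := ⟨n, hn⟩
  have hm := Nat.find_spec hex
  have hm0 : Nat.find hex ≠ 0 := by
    intro e
    rw [e, derivedSeries_zero] at hm
    exact h1 (by
      rw [← Subgroup.card_eq_one, ← Subgroup.card_top (G := H), hm, card_bot])
  obtain ⟨m, hm'⟩ : ∃ m, Nat.find hex = m + 1 := ⟨Nat.find hex - 1, by omega⟩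
  have hne : derivedSeries H m ≠ ⊥ := Nat.find_min hex (by omega)
  rw [hm'] at hm
  set A := (derivedSeries H m).map H.subtype with hA
  haveI hAn : A.Normal := inferInstance
  have hAc : ∀ a ∈ A, ∀ b ∈ A, a * b = b * a := by
    rintro _ ⟨a, ha, rfl⟩ _ ⟨b, hb, rfl⟩
    have h2 : ⁅a, b⁆ ∈ derivedSeries H (m + 1) := commutator_mem_commutator ha hb
    rw [hm, mem_bot, commutatorElement_eq_one_iff_commute] at h2
    simp only [coe_subtype, ← Subgroup.coe_mul, h2.eq]
  have hA1 : A ≠ ⊥ := by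
    rw [hA, Ne, map_eq_bot_iff_of_injective _ H.subtype_injective]
    exact hne
  obtain ⟨q, hq, hqd⟩ := Nat.exists_prime_and_dvd (fun e : Nat.card A = 1 => hA1 (card_eq_one.1 e))
  haveI := Fact.mk hq
  obtain ⟨Q⟩ : Nonempty (Sylow q A) := inferInstance
  haveI : IsMulCommutative A := ⟨⟨fun a b => Subtype.ext (hAc a a.2 b b.2)⟩⟩
  haveI : (Q : Subgroup A).Normal := ⟨fun x hx g => by
    rwa [mul_comm' g x, mul_inv_cancel_right]⟩
  haveI : (Q : Subgroup A).Characteristic := Q.characteristic_of_normal inferInstance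
  refine ⟨q, hq, (Q : Subgroup A).map A.subtype, inferInstance, Q.2.map _, ?_,
    (map_subtype_le _).trans (map_subtype_le _)⟩
  rw [Ne, map_eq_bot_iff_of_injective _ A.subtype_injective]
  exact Q.ne_bot_of_dvd_card hqd

theorem exists_normalizing [Finite G] {p : ℕ} [Fact p.Prime] {P D : Subgroup G} (hP : IsPGroup p P)
    (hlt : D < P) : ∃ g ∈ P, g ∉ D ∧ g ∈ normalizer (D : Set G) := by
  haveI := hP.isNilpotent
  have hne : D.subgroupOf P < ⊤ := by
    rw [lt_top_iff_ne_top, Ne, subgroupOf_eq_top]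
    exact fun hle => hlt.not_ge hle
  obtain ⟨g, hg, hgD⟩ := Set.exists_of_ssubset
    (SetLike.coe_ssubset_coe.2 (Group.normalizerCondition_of_isNilpotent (D.subgroupOf P) hne))
  refine ⟨g, g.2, hgD, ?_⟩
  rw [mem_normalizer_iff]
  intro x
  constructor
  · intro hx
    have h1 := (mem_normalizer_iff.1 hg ⟨x, hlt.le hx⟩).1 (mem_subgroupOf.2 hx)
    exact mem_subgroupOf.1 h1
  · intro hx
    have hxP : x ∈ P := by
      have := mul_mem (mul_mem (inv_mem g.2) (hlt.le hx)) g.2
      simpa [mul_assoc] using this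
    have h1 := (mem_normalizer_iff.1 hg ⟨x, hxP⟩).2 (mem_subgroupOf.2 hx)
    exact mem_subgroupOf.1 h1

/-- An automorphism of order dividing `p` of a group of order `q` is trivial if `p ∤ q - 1`. -/
theorem commute_of_cyclic [Finite G] {p q : ℕ} [hp : Fact p.Prime] [hq : Fact q.Prime] {Q : Subgroup G}
    (hQ : Nat.card Q = q) {y : G} (hy : orderOf y ∣ p) (hn : y ∈ normalizer (Q : Set G))
    (hpq : ¬ p ∣ q - 1) : ∀ v ∈ Q, Commute y v := by
  haveI : IsCyclic Q := isCyclic_of_prime_card hQ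
  let φ : normalizer (Q : Set G) →* MulAut Q := Q.normalizerMonoidHom
  have h1 : orderOf (φ ⟨y, hn⟩) ∣ p :=
    (orderOf_map_dvd φ _).trans (by rwa [← Subgroup.orderOf_coe])
  have h2 : orderOf (φ ⟨y, hn⟩) ∣ q - 1 := by
    refine (_root_.orderOf_dvd_natCard _).trans ?_
    rw [IsCyclic.card_mulAut, hQ, Nat.totient_prime hq.out]
  rcases (Nat.dvd_prime hp.out).1 h1 with h3 | h3
  · intro v hv
    have h4 := congrArg (fun e : MulAut Q => ((e ⟨v, hv⟩ : Q) : G)) (orderOf_eq_one_iff.1 h3)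
    have h5 : y * v * y⁻¹ = v := h4
    exact mul_inv_eq_iff_eq_mul.1 h5
  · exact absurd (h3 ▸ h2) hpq

variable [Finite G]

/-- The normaliser of a nontrivial `p`-subgroup, `p` odd, has a normal Sylow `p`-subgroup. -/
theorem normalizer_pclosed (h : Le5 G) {p : ℕ} [hp : Fact p.Prime] (hp2 : p ≠ 2) {D : Subgroup G}
    (hD : IsPGroup p D) (hD1 : D ≠ ⊥) :
    ∃ W : Subgroup G, IsPGroup p W ∧ ∀ g ∈ normalizer (D : Set G), PE p g → g ∈ W := by
  classical
  have h3 : 3 ≤ p := by have := hp.out.two_le; omega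
  by_cases htN : ∃ t ∈ normalizer (D : Set G), orderOf t = 2
  · obtain ⟨t, htn, ht⟩ := htN
    have htt : t * t = 1 := by rw [← sq, ← ht, pow_orderOf_eq_one]
    have hti : t⁻¹ = t := inv_eq_of_mul_eq_one_right htt
    have hinv := inverts_odd h hp2 hD ht htn
    set W := centralizer (D : Set G) with hW
    have hWp : IsPGroup p W := centralizer_subgroup_pgroup h hD hD1
    have hnW : normalizer (D : Set G) ≤ normalizer (W : Set G) := by
      intro g hg
      rw [← conjMap_eq_self_iff]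
      ext x
      rw [mem_conjMap, hW, mem_centralizer_iff, mem_centralizer_iff]
      constructor
      · intro hx v hv
        have := hx _ ((mem_normalizer_iff''.1 hg v).1 hv)
        simpa [mul_assoc] using congrArg (g * · * g⁻¹) this
      · intro hx v hv
        have := hx _ ((mem_normalizer_iff.1 hg v).1 hv)
        calc v * (g⁻¹ * x * g) = g⁻¹ * (g * v * g⁻¹ * x) * g := by group
          _ = g⁻¹ * (x * (g * v * g⁻¹)) * g := by rw [this]
          _ = _ := by group
    refine ⟨W, hWp, fun y hy hyp => ?_⟩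
    have hcop : (orderOf t).Coprime (Nat.card W) := by
      obtain ⟨m, hm⟩ := IsPGroup.iff_card.1 hWp
      rw [ht, hm]
      exact Nat.Coprime.pow_right _ ((Nat.coprime_primes Nat.prime_two hp.out).2 (Ne.symm hp2))
    have hmem : y⁻¹ * t * y * t⁻¹ ∈ W := by
      have h1 := inv_mem (conj_mul_inv_mem_centralizer htt hinv (inv_mem hy))
      simpa [mul_assoc, hti] using h1
    obtain ⟨d, hd, hc⟩ := fixed_coset hcop (hnW htn) hmem
    have hY : IsPGroup p (zpowers y) := isPGroup_of_pe fun g hg => by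
      obtain ⟨k, hk⟩ := hyp
      obtain ⟨j, -, hj⟩ := (Nat.dvd_prime_pow hp.out).1 (hk ▸ orderOf_dvd_of_mem_zpowers hg)
      exact ⟨j, hj⟩
    have hsup : IsPGroup p (W ⊔ zpowers y : Subgroup G) :=
      IsPGroup.to_sup_of_normal_left' hWp hY (zpowers_le.2 (hnW hy))
    have hpe := pe_of_mem hsup (mul_mem (mem_sup_right (mem_zpowers y)) (mem_sup_left hd))
    by_cases h1 : y * d = 1
    · rw [eq_inv_of_mul_eq_one_left h1]; exact inv_mem hd
    · exact (not_commute_pe h hp.out Nat.prime_two hp2 hpe h1 (pe_of_prime ht)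
        (fun e => by rw [e, orderOf_one] at ht; omega) hc).elim
  · -- odd normaliser
    push Not at htN
    set N := normalizer (D : Set G) with hN
    have hodd : Odd (Nat.card N) := by
      rw [← Nat.not_even_iff_odd]
      intro he
      obtain ⟨t, ht⟩ := exists_prime_orderOf_dvd_card' (G := N) 2 (even_iff_two_dvd.1 he)
      exact htN t t.2 (by rw [Subgroup.orderOf_coe, ht])
    haveI hsol : Group.IsSolvable N := Cfsg.Agent.PF.isSolvable_of_odd N hodd
    obtain ⟨W0, ⟨hW0n, hW0p⟩, hW0max⟩ := WellFounded.has_min (wellFounded_gt (α := Subgroup N))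
      {V : Subgroup N | V.Normal ∧ IsPGroup p V} ⟨⊥, inferInstance, IsPGroup.of_bot⟩
    refine ⟨W0.map N.subtype, hW0p.map _, fun y hy hyp => ?_⟩
    by_contra hyW
    set y' : N := ⟨y, hy⟩ with hy'
    have hy0 : y' ∉ W0 := fun e => hyW ⟨y', e, rfl⟩
    have hb : (QuotientGroup.mk' W0 y') ≠ 1 := fun e => hy0 ((QuotientGroup.eq_one_iff _).1 e)
    have hlN : Le5 N := h.subgroup N
    have hlQ : Le5 (N ⧸ W0) := hlN.quot W0
    have hyo : orderOf (QuotientGroup.mk' W0 y') = p := by
      refine orderOf_eq_of_pe hlQ hp.out h3 ?_ hb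
      obtain ⟨k, hk⟩ := hyp
      have h1 := orderOf_map_dvd (QuotientGroup.mk' W0) y'
      rw [show orderOf y' = orderOf y from (Subgroup.orderOf_coe y').symm, hk] at h1
      obtain ⟨j, -, hj⟩ := (Nat.dvd_prime_pow hp.out).1 h1
      exact ⟨j, hj⟩
    obtain ⟨q, hq, V, hVn, hVq, hV1, -⟩ := exists_normal_qgroup (⊤ : Subgroup (N ⧸ W0)) inferInstance
      (fun e => hb (by rw [← mem_bot, ← e]; trivial))
    haveI := Fact.mk hq
    set K := V.comap (QuotientGroup.mk' W0) with hK
    have hWK : W0 ≤ K := fun x hx => by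
      rw [hK, mem_comap, QuotientGroup.mk'_apply, (QuotientGroup.eq_one_iff x).2 hx]
      exact one_mem V
    have hKV : K.map (QuotientGroup.mk' W0) = V :=
      map_comap_eq_self_of_surjective (QuotientGroup.mk'_surjective W0) V
    have hqp : q ≠ p := by
      intro e
      subst e
      have hKp : IsPGroup q K := hVq.comap_of_ker_isPGroup _ (by rwa [QuotientGroup.ker_mk'])
      rcases hWK.lt_or_eq with hlt | heq
      · exact hW0max K ⟨hVn.comap _, hKp⟩ hlt
      · exact hV1 (by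
          rw [← hKV, ← heq, Subgroup.map_eq_bot_iff, QuotientGroup.ker_mk'])
    obtain ⟨Q⟩ : Nonempty (Sylow q K) := inferInstance
    set Q1 := (Q : Subgroup K).map K.subtype with hQ1
    have hQp : IsPGroup q Q1 := Q.2.map _
    have hVQ : V ≤ Q1.map (QuotientGroup.mk' W0) := by
      intro v hv
      obtain ⟨g, rfl⟩ := QuotientGroup.mk'_surjective W0 v
      have hgK : g ∈ K := hv
      have hindex : (Q : Subgroup K).index.Coprime q :=
        ((hq.coprime_iff_not_dvd).2 Q.not_dvd_index).symm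
      by_contra hnot
      let f : K →* V := ((QuotientGroup.mk' W0).comp K.subtype).codRestrict V fun x => x.2
      have hf : Function.Surjective f := fun w => by
        obtain ⟨x, hx⟩ := QuotientGroup.mk'_surjective W0 w
        refine ⟨⟨x, ?_⟩, Subtype.ext hx⟩
        rw [hK, mem_comap, hx]
        exact w.2
      have htop : ((Q : Subgroup K).map f) = ⊤ := by
        rw [← index_eq_one]
        have h1 : ((Q : Subgroup K).map f).index ∣ (Q : Subgroup K).index := index_map_dvd _ hf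
        have h2 : ((Q : Subgroup K).map f).index ∣ Nat.card V := index_dvd_card _
        obtain ⟨m, hm⟩ := IsPGroup.iff_card.1 hVq
        rw [hm] at h2
        exact Nat.eq_one_of_dvd_coprimes (hindex.pow_right m) h1 h2
      obtain ⟨x, hx, hxe⟩ : (⟨_, hv⟩ : V) ∈ (Q : Subgroup K).map f := by rw [htop]; trivial
      exact hnot ⟨(x : N), ⟨x, hx, rfl⟩, congrArg Subtype.val hxe⟩
    have hq2 : q ≠ 2 := by
      intro e
      subst e
      obtain ⟨m, hm⟩ := IsPGroup.iff_card.1 hVq
      have h1 : Nat.card V ∣ Nat.card N := (card_subgroup_dvd_card V).trans (card_quotient_dvd_card W0)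
      rcases m with _ | m
      · exact hV1 (card_eq_one.1 (by rw [hm, pow_zero]))
      · rw [hm] at h1
        exact (Nat.not_even_iff_odd.2 hodd) (even_iff_two_dvd.2 ((dvd_pow_self 2 (by omega)).trans h1))
    have hQc : Nat.card Q1 ∣ q := by
      have := card_dvd_of_normalizes h hqp hq2 (hQp.map N.subtype) hD hD1 (map_subtype_le Q1)
      rwa [card_map_of_injective N.subtype_injective] at this
    have hVc : Nat.card V = q := by
      have h1 : Nat.card (Q1.map (QuotientGroup.mk' W0)) ∣ q :=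
        (card_map_dvd Q1 (QuotientGroup.mk' W0)).trans hQc
      have h2 := (card_dvd_of_le hVQ).trans h1
      exact ((Nat.dvd_prime hq).1 h2).resolve_left fun e => hV1 (card_eq_one.1 e)
    have hq5 : q ≤ 5 := by
      obtain ⟨v, hv⟩ := exists_prime_orderOf_dvd_card' (G := V) q (by rw [hVc])
      have := hlQ (v : N ⧸ W0)
      rwa [Subgroup.orderOf_coe, hv] at this
    have hp5 : p ≤ 5 := hyo ▸ hlQ _
    have hpq : ¬ p ∣ q - 1 := by
      rcases odd_prime hp.out hp2 hp5 with rfl | rfl <;> rcases odd_prime hq hq2 hq5 with rfl | rfl <;>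
        first | omega | decide
    obtain ⟨v, hv, hv1⟩ := (bot_or_exists_ne_one V).resolve_left hV1
    have hc := commute_of_cyclic hVc (y := QuotientGroup.mk' W0 y') (by rw [hyo])
      (by rw [normalizer_eq_top]; trivial) hpq v hv
    exact not_commute_pe hlQ hp.out hq hqp.symm (pe_of_prime hyo) hb (pe_of_mem hVq hv) hv1 hc

/-- Any two distinct Sylow `p`-subgroups meet trivially. -/
def IsTI (p : ℕ) (G : Type u) [Group G] : Prop :=
  ∀ (P P' : Sylow p G) (x : G), x ≠ 1 → x ∈ (P : Subgroup G) → x ∈ (P' : Subgroup G) → P = P'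

/-- A subgroup whose normaliser has a normal Sylow `p`-subgroup. -/
def Closed (p : ℕ) (D : Subgroup G) : Prop :=
  ∃ W : Subgroup G, IsPGroup p W ∧ ∀ g ∈ normalizer (D : Set G), PE p g → g ∈ W

theorem isTI_of_closed {p : ℕ} [hp : Fact p.Prime]
    (hcl : ∀ D : Subgroup G, IsPGroup p D → D ≠ ⊥ → Closed p D) : IsTI p G := by
  intro P P' x hx1 hx hx'
  by_contra hne
  obtain ⟨D, ⟨hD1, P₁, P₂, h12, hDeq⟩, hmax⟩ := WellFounded.has_min (wellFounded_gt (α := Subgroup G))
    {D : Subgroup G | D ≠ ⊥ ∧ ∃ A B : Sylow p G, A ≠ B ∧ D = (A : Subgroup G) ⊓ (B : Subgroup G)}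
    ⟨_, fun e => hx1 (by rw [← mem_bot, ← e]; exact ⟨hx, hx'⟩), P, P', hne, rfl⟩
  have hDp : IsPGroup p D := hDeq ▸ P₁.2.to_le inf_le_left
  obtain ⟨W, hW, hWmem⟩ := hcl D hDp hD1
  obtain ⟨P₃, hP₃⟩ := hW.exists_le_sylow
  have hkey : ∀ A B : Sylow p G, A ≠ B → D = (A : Subgroup G) ⊓ (B : Subgroup G) → A = P₃ := by
    intro A B hAB he
    by_contra hA3
    have hlt : D < (A : Subgroup G) := by
      rw [he]
      refine inf_le_left.lt_of_ne fun e => hAB ?_
      exact Sylow.ext (A.3 B.2 (by rw [← e]; exact inf_le_right)).symm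
    have hDA3 : D ≤ (A : Subgroup G) ⊓ (P₃ : Subgroup G) := by
      refine le_inf hlt.le fun d hd => hP₃ (hWmem d (le_normalizer hd) (pe_of_mem hDp hd))
    obtain ⟨g, hgA, hgD, hgn⟩ := exists_normalizing A.2 hlt
    have hg3 : g ∈ (A : Subgroup G) ⊓ (P₃ : Subgroup G) :=
      ⟨hgA, hP₃ (hWmem g hgn (pe_of_mem A.2 hgA))⟩
    refine hmax _ ⟨fun e => hD1 (eq_bot_iff.2 (e ▸ hDA3)), A, P₃, hA3, rfl⟩ ?_
    exact hDA3.lt_of_ne fun e => hgD (e ▸ hg3)
  exact h12 ((hkey P₁ P₂ h12 hDeq).trans (hkey P₂ P₁ h12.symm (by rw [hDeq, inf_comm])).symm)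

theorem sylow_ti (h : Le5 G) {p : ℕ} [hp : Fact p.Prime] (hp2 : p ≠ 2) : IsTI p G :=
  isTI_of_closed fun _ hD hD1 => normalizer_pclosed h hp2 hD hD1

theorem IsTI.mem_normalizer {p : ℕ} [hp : Fact p.Prime] (hti : IsTI p G)
    (P : Sylow p G) {x g : G} (hx1 : x ≠ 1) (hx : x ∈ (P : Subgroup G))
    (hg : g * x * g⁻¹ ∈ (P : Subgroup G)) : g ∈ normalizer ((P : Subgroup G) : Set G) := by
  have h1 : g * x * g⁻¹ ∈ ((g • P : Sylow p G) : Subgroup G) := by
    rw [Sylow.coe_subgroup_smul, conj_smul_eq, mem_conjMap]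
    simpa [mul_assoc] using hx
  have h2 := hti (g • P) P _ (fun e => hx1 (conj_eq_one_iff.1 e)) h1 hg
  exact Sylow.smul_eq_iff_mem_normalizer.1 h2

theorem mem_of_mem_normalizer {p : ℕ} [hp : Fact p.Prime] (P : Sylow p G) {g : G}
    (hg : g ∈ normalizer ((P : Subgroup G) : Set G)) (hgp : PE p g) : g ∈ (P : Subgroup G) := by
  have h1 : IsPGroup p (zpowers g) := by
    obtain ⟨k, hk⟩ := hgp
    exact IsPGroup.of_card (n := k) (by rw [Nat.card_zpowers, hk])
  have h2 : IsPGroup p ((P : Subgroup G) ⊔ zpowers g : Subgroup G) :=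
    IsPGroup.to_sup_of_normal_left' P.2 h1 (zpowers_le.2 hg)
  rw [← P.3 h2 le_sup_left]
  exact mem_sup_right (mem_zpowers g)

end Cfsg.Lib.SpecFive
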