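import Cfsg.Agent.SpecFive.Count
import Cfsg.Agent.S3331
import Cfsg.Agent.Components.PComponents
import Cfsg.Agent.Classical.Misc.SmallPSL

/-!
Groups whose element orders are `1, 2, 3, 4, 5`.
-/

set_option autoImplicit false
set_option linter.unusedSectionVars false

namespace Cfsg.Lib.SpecFive

open Subgroup Cfsg.Lib.Coprime
open scoped Pointwise

universe u

variable {G : Type u} [Group G] [Finite G]

theorem card_psl_card_seven {F : Type} [Field F] [Fintype F] (hF : Fintype.card F = 7) :
    Nat.card (Matrix.ProjectiveSpecialLinearGroup (Fin 2) F) = 168 := by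
  have h1 := Cfsg.Lib.Classical.SmallPSL.card_psl (F := F) (q := 7) hF
  norm_num at h1
  omega

theorem card_psl_seven :
    Nat.card (Matrix.ProjectiveSpecialLinearGroup (Fin 2) (ZMod 7)) = 168 :=
  haveI : Fact (Nat.Prime 7) := ⟨by norm_num⟩
  card_psl_card_seven (ZMod.card 7)

theorem no_seven (h : Le5 G) : ¬ 7 ∣ Nat.card G := fun hd => by
  rcases primes h (by norm_num : Nat.Prime 7) hd with e | e | e <;> omega

theorem Hyp.card_eq (h : Hyp G) : Nat.card G = 360 ∧ Nonempty (G ≃* alternatingGroup (Fin 6)) := by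
  obtain ⟨z, r, u, hS⟩ := setup_exists h
  have hc : Nat.card G = 360 := (Cfsg.Lib.DihedralCent.order_cases hS).resolve_left fun e =>
    no_seven h.le5 (by rw [e]; norm_num)
  refine ⟨hc, (Cfsg.Lib.DihedralCent.main hS).resolve_right ?_⟩
  rintro ⟨F, _, _, hF, ⟨e⟩⟩
  rw [Nat.card_congr e.toEquiv, card_psl_card_seven hF] at hc
  omega

theorem card_sylow_eq {p : ℕ} [Fact p.Prime] (P Q : Sylow p G) :
    Nat.card (P : Subgroup G) = Nat.card (Q : Subgroup G) := by
  rw [P.card_eq_multiplicity, Q.card_eq_multiplicity]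

/-- The case of a Sylow 3-subgroup of order three. -/
theorem small_three (h : Le5 G) (h2 : 2 ∣ Nat.card G) (h3 : 3 ∣ Nat.card G) (h5 : 5 ∣ Nat.card G)
    (R : Sylow 3 G) (hR : Nat.card (R : Subgroup G) = 3) :
    ∃ (N : Subgroup G) (_ : N.Normal), Cfsg.IsElementaryAbelian 2 N ∧
      Nonempty (G ⧸ N ≃* alternatingGroup (Fin 5)) := by
  haveI : Fact (Nat.Prime 3) := ⟨Nat.prime_three⟩
  haveI : Fact (Nat.Prime 5) := ⟨by norm_num⟩
  have hR1 : (R : Subgroup G) ≠ ⊥ := fun e => by rw [e, card_bot] at hR; omega
  have hC : centralizer ((R : Subgroup G) : Set G) = (R : Subgroup G) := by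
    haveI : IsCyclic (R : Subgroup G) := isCyclic_of_prime_card hR
    refine R.3 (centralizer_subgroup_pgroup h R.2 hR1) fun x hx => mem_centralizer_iff.2 fun y hy => ?_
    exact congrArg Subtype.val (mul_comm' (⟨y, hy⟩ : (R : Subgroup G)) ⟨x, hx⟩)
  rcases Cfsg.Agent.S3331.result (R : Subgroup G) hR hC with ⟨N, hN, hNnil, -, hidx⟩ | ⟨N, hN, hc, hsq, he⟩ | ⟨⟨e⟩⟩
  · exfalso
    haveI := hNnil
    obtain ⟨Q⟩ : Nonempty (Sylow 5 N) := inferInstance
    have hQn : (Q : Subgroup N).Normal :=
      Q.normal_of_normalizerCondition Group.normalizerCondition_of_isNilpotent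
    haveI := Q.characteristic_of_normal hQn
    have h5N : 5 ∣ Nat.card N := by
      have hd : 5 ∣ Nat.card (G ⧸ N) * Nat.card N := by rw [← card_eq_card_quotient_mul_card_subgroup]; exact h5
      refine ((Nat.Prime.dvd_mul (by norm_num)).1 hd).resolve_left fun hq => ?_
      rcases hidx with e | ⟨⟨e⟩⟩
      · rw [e] at hq; norm_num at hq
      · rw [Nat.card_congr e.toEquiv, Nat.card_perm, Nat.card_fin] at hq
        norm_num [Nat.factorial] at hq
    have h1 := no_normal_odd h h2 (r := 5) (s := 3) (by norm_num) (by norm_num) (by norm_num) h3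
      ((Q : Subgroup N).map N.subtype) (Q.2.map _)
    rw [map_eq_bot_iff_of_injective _ N.subtype_injective] at h1
    exact Q.ne_bot_of_dvd_card h5N h1
  · exact ⟨N, hN, ⟨hc, hsq⟩, he⟩
  · exact absurd (by rw [Nat.card_congr e.toEquiv, card_psl_seven]; norm_num) (no_seven h)

/-- The overgroup argument: nothing lies above `A₆`. -/
theorem top_of_setup (h : Le5 G) (S : Subgroup G) [S.Normal] {z r u : S}
    (hs : Cfsg.Lib.DihedralCent.Setup z r u) : S = ⊤ := by
  classical
  haveI : Fact (Nat.Prime 2) := ⟨Nat.prime_two⟩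
  by_contra hne
  set zz : G := (z : G) with hzz
  set rr : G := (r : G) with hrr
  set uu : G := (u : G) with huu
  obtain ⟨PS, hPS⟩ := hs.syl
  set T := (centralizer ({z} : Set S)).map S.subtype with hT
  have hTS : T ≤ S := map_subtype_le _
  have hTmem : ∀ g : S, (g : G) ∈ T → g ∈ centralizer ({z} : Set S) := fun g hg =>
    (mem_map_iff_mem S.subtype_injective).1 hg
  have hzT : zz ∈ T := ⟨z, mem_centralizer_singleton_iff.2 rfl, rfl⟩
  have huT : uu ∈ T := ⟨u, Cfsg.Lib.DihedralCent.u_mem hs, rfl⟩
  have hrT : rr ∈ T := ⟨r, Cfsg.Lib.DihedralCent.r_mem hs, rfl⟩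
  have hzo : orderOf zz = 2 := by rw [hzz, Subgroup.orderOf_coe, hs.hz]
  have hzc : ∀ t ∈ T, t * zz = zz * t := by
    rintro _ ⟨g, hg, rfl⟩
    exact congrArg Subtype.val (mem_centralizer_singleton_iff.1 hg)
  -- an element normalising `T` fixes `z`
  have hfixz : ∀ y ∈ normalizer (T : Set G), y * zz * y⁻¹ = zz := by
    intro y hy
    have hm : y * zz * y⁻¹ ∈ T := (mem_normalizer_iff.1 hy zz).1 hzT
    have hcen : ∀ t ∈ T, t * (y * zz * y⁻¹) = y * zz * y⁻¹ * t := by
      intro t ht
      have h1 := hzc _ ((mem_normalizer_iff''.1 hy t).1 ht)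
      calc t * (y * zz * y⁻¹) = y * (y⁻¹ * t * y * zz) * y⁻¹ := by group
        _ = y * (zz * (y⁻¹ * t * y)) * y⁻¹ := by rw [h1]
        _ = _ := by group
    set c : S := ⟨_, hTS hm⟩ with hc
    have hcr : c ∈ zpowers r := by
      rw [← Cfsg.Lib.DihedralCent.cent_r hs, mem_centralizer_singleton_iff]
      exact Subtype.ext (hcen rr hrT).symm
    have hcu : u * c = c * u := Subtype.ext (hcen uu huT)
    have hco : orderOf c = 2 := by
      rw [← Subgroup.orderOf_coe]
      show orderOf (y * zz * y⁻¹) = 2
      rw [show y * zz * y⁻¹ = MulAut.conj y zz from rfl, MulEquiv.orderOf_eq, hzo]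
    rcases Cfsg.Lib.DihedralCent.zpowers_cases hs hcr with e | e | e | e
    · rw [e, orderOf_one] at hco; omega
    · rw [e, Cfsg.Lib.DihedralCent.r_four hs] at hco; omega
    · exact congrArg Subtype.val e
    · exfalso
      have h1 : (z * r) ^ 2 = 1 := by rw [← e, ← hco, pow_orderOf_eq_one]
      rw [sq, Cfsg.Lib.DihedralCent.zr_sq hs] at h1
      exact Cfsg.Lib.DihedralCent.z_ne hs h1
  have hfr : normalizer (T : Set G) ⊔ S = ⊤ := by
    have := Sylow.normalizer_sup_eq_top PS
    rwa [hPS] at this
  -- the index is a power of two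
  have hidx : ∀ p : ℕ, p.Prime → p ∣ Nat.card (G ⧸ S) → p = 2 := by
    intro p hp hpd
    by_contra hp2
    haveI := Fact.mk hp
    obtain ⟨q, hq⟩ := exists_prime_orderOf_dvd_card' (G := G ⧸ S) p hpd
    obtain ⟨g, hg⟩ := QuotientGroup.mk'_surjective S q
    obtain ⟨a, ha, b, hb, hab⟩ := (mem_sup_of_normal_right (s := normalizer (T : Set G)) (t := S) (x := g)).1
      (hfr ▸ trivial)
    have hpa : p ∣ orderOf a := by
      have h1 := orderOf_map_dvd (QuotientGroup.mk' S) a
      have h2' : QuotientGroup.mk' S a = q := by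
        rw [← hg, ← hab, map_mul]
        have : QuotientGroup.mk' S b = 1 := (QuotientGroup.eq_one_iff b).2 hb
        rw [this, mul_one]
      rwa [h2', hq] at h1
    exact not_commute h (show Commute a zz from mul_inv_eq_iff_eq_mul.1 (hfixz a ha)) hp Nat.prime_two hp2 hpa
      (by rw [hzo])
  have hidx2 : 2 ∣ Nat.card (G ⧸ S) := by
    obtain ⟨p, hp, hpd⟩ := Nat.exists_prime_and_dvd (n := Nat.card (G ⧸ S)) fun e =>
      hne (index_eq_one.1 (by rw [index_eq_card]; exact e))
    exact hidx p hp hpd ▸ hpd
  obtain ⟨P, hP⟩ := (PS.2.map S.subtype).exists_le_sylow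
  have hTP : T ≤ (P : Subgroup G) := by rw [hT, ← hPS]; exact hP
  have hTc : Nat.card T = 8 := by rw [hT, card_map_of_injective S.subtype_injective, hs.hC]
  have hPS' : ∀ g ∈ (P : Subgroup G), g ∈ S → g ∈ T := by
    intro g hg hgS
    have h1 : (P : Subgroup G).subgroupOf S = (PS : Subgroup S) := PS.3
      ((P.2.to_le inf_le_left).of_equiv ((subgroupOfEquivOfLe (inf_le_right : (P : Subgroup G) ⊓ S ≤ S)).symm.trans
        (MulEquiv.subgroupCongr (inf_subgroupOf_right _ _)))) (fun x hx => hP ⟨x, hx, rfl⟩)
    refine ⟨⟨g, hgS⟩, ?_, rfl⟩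
    rw [← hPS, ← h1]
    exact mem_subgroupOf.2 hg
  have hlt : T < (P : Subgroup G) := by
    refine hTP.lt_of_ne fun e => ?_
    have h1 : Nat.card (P : Subgroup G) = 8 := e ▸ hTc
    have h8S : 8 ∣ Nat.card S := hTc ▸ card_dvd_of_le hTS
    have h16 : 2 ^ 4 ∣ Nat.card G := by
      rw [card_eq_card_quotient_mul_card_subgroup S]
      exact (show 2 ^ 4 = 2 * 8 by norm_num) ▸ Nat.mul_dvd_mul hidx2 h8S
    have h2 := Nat.le_of_dvd Nat.card_pos (P.pow_dvd_card_of_pow_dvd_card h16)
    change 2 ^ 4 ≤ Nat.card (P : Subgroup G) at h2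
    omega
  obtain ⟨y, hyP, hyS, hyn, hy2S⟩ : ∃ y ∈ (P : Subgroup G), y ∉ S ∧ y ∈ normalizer (T : Set G) ∧ y * y ∈ S := by
    obtain ⟨g, hgP, hgT, hgn⟩ := exists_normalizing P.2 hlt
    have hgS : g ∉ S := fun e => hgT (hPS' g hgP e)
    by_cases hg2 : g * g ∈ S
    · exact ⟨g, hgP, hgS, hgn, hg2⟩
    · refine ⟨g * g, mul_mem hgP hgP, hg2, mul_mem hgn hgn, ?_⟩
      rw [show g * g * (g * g) = g ^ 4 by simp only [pow_succ, pow_zero, one_mul, mul_assoc],
        pow_four_of_pe h (pe_of_mem P.2 hgP)]
      exact one_mem S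
  have hyz := hfixz y hyn
  have hy2T : y * y ∈ T := hPS' _ (mul_mem hyP hyP) hy2S
  -- the image of `u`
  set g : S := ⟨y * uu * y⁻¹, hTS ((mem_normalizer_iff.1 hyn uu).1 huT)⟩ with hg
  have hgC : g ∈ centralizer ({z} : Set S) := hTmem g ((mem_normalizer_iff.1 hyn uu).1 huT)
  have hgo : orderOf g = 2 := by
    rw [← Subgroup.orderOf_coe]
    show orderOf (y * uu * y⁻¹) = 2
    rw [show y * uu * y⁻¹ = MulAut.conj y uu from rfl, MulEquiv.orderOf_eq, huu, Subgroup.orderOf_coe, hs.hu]
  have huz' : uu ≠ zz := fun e => Cfsg.Lib.DihedralCent.u_notMem_zpowers hs (by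
    rw [Subtype.ext e, ← hs.hrz]
    exact mul_mem (mem_zpowers r) (mem_zpowers r))
  have hgr : g ∉ zpowers r := by
    intro hgr
    rcases Cfsg.Lib.DihedralCent.zpowers_cases hs hgr with e | e | e | e
    · rw [e, orderOf_one] at hgo; omega
    · rw [e, Cfsg.Lib.DihedralCent.r_four hs] at hgo; omega
    · refine huz' ?_
      have h1 : y * uu * y⁻¹ = y * zz * y⁻¹ := by rw [hyz]; exact congrArg Subtype.val e
      exact mul_left_cancel (mul_right_cancel h1)
    · have h1 : (z * r) ^ 2 = 1 := by rw [← e, ← hgo, pow_orderOf_eq_one]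
      rw [sq, Cfsg.Lib.DihedralCent.zr_sq hs] at h1
      exact Cfsg.Lib.DihedralCent.z_ne hs h1
  have hug := (Cfsg.Lib.DihedralCent.mem_cases hs hgC).resolve_left hgr
  have huu2 : u * u = 1 := Cfsg.Lib.DihedralCent.uu hs
  -- the case of a fixed Klein group
  have hKlein : ∀ w : G, w ∉ S → w * zz * w⁻¹ = zz → w * uu * w⁻¹ = uu → False := by
    intro w hwS hwz hwu
    let V : Subgroup G :=
      { carrier := {v | v = 1 ∨ v = zz ∨ v = uu ∨ v = uu * zz}
        one_mem' := Or.inl rfl
        mul_mem' := fun {a b} ha hb => by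
          have h1 : zz * zz = 1 := congrArg Subtype.val (Cfsg.Lib.DihedralCent.zz hs)
          have h2 : uu * uu = 1 := congrArg Subtype.val huu2
          have h3 : uu * zz = zz * uu := congrArg Subtype.val hs.huz
          have h4 : ∀ c : G, uu * (uu * c) = c := fun c => by rw [← mul_assoc, h2, one_mul]
          have h5 : ∀ c : G, zz * (zz * c) = c := fun c => by rw [← mul_assoc, h1, one_mul]
          have h6 : ∀ c : G, zz * (uu * c) = uu * (zz * c) := fun c => by rw [← mul_assoc, ← h3, mul_assoc]
          simp only [Set.mem_ofPred_eq] at ha hb ⊢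
          rcases ha with rfl | rfl | rfl | rfl <;> rcases hb with rfl | rfl | rfl | rfl <;>
            simp [mul_assoc, h1, h2, h4, h5, h6, h3.symm]
        inv_mem' := fun {a} ha => by
          have h1 : zz⁻¹ = zz := inv_eq_of_mul_eq_one_right (congrArg Subtype.val (Cfsg.Lib.DihedralCent.zz hs))
          have h2 : uu⁻¹ = uu := inv_eq_of_mul_eq_one_right (congrArg Subtype.val huu2)
          simp only [Set.mem_ofPred_eq] at ha ⊢
          rcases ha with rfl | rfl | rfl | rfl
          · exact Or.inl inv_one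
          · exact Or.inr (Or.inl h1)
          · exact Or.inr (Or.inr (Or.inl h2))
          · exact Or.inr (Or.inr (Or.inr (by
              rw [mul_inv_rev, h1, h2]; exact (congrArg Subtype.val hs.huz).symm))) }
    have hzV : zz ∈ V := Or.inr (Or.inl rfl)
    have huV : uu ∈ V := Or.inr (Or.inr (Or.inl rfl))
    have hVT : V ≤ T := by
      rintro v (rfl | rfl | rfl | rfl)
      · exact one_mem T
      · exact hzT
      · exact huT
      · exact mul_mem huT hzT
    set W := centralizer (V : Set G) with hW
    have hWp : IsPGroup 2 W := centralizer_subgroup_pgroup h ((PS.2.map S.subtype).to_le (by rw [hPS]; exact hVT))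
      fun e => by rw [e, mem_bot] at hzV; rw [hzV, orderOf_one] at hzo; omega
    have hwW : w ∈ W := by
      rw [hW, mem_centralizer_iff]
      have h1 : Commute w zz := mul_inv_eq_iff_eq_mul.1 hwz
      have h2 : Commute w uu := mul_inv_eq_iff_eq_mul.1 hwu
      rintro v (rfl | rfl | rfl | rfl)
      · simp
      · exact h1.eq.symm
      · exact h2.eq.symm
      · exact (h2.mul_right h1).eq.symm
    -- elements of `T` fixing `u`
    have hTu : ∀ t ∈ T, Commute t uu → t ∈ V := by
      rintro _ ⟨t, ht, rfl⟩ htu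
      have htu' : t * u = u * t := Subtype.ext htu.eq
      have hzu : u * z = z * u := hs.huz
      have hbad : ∀ c : S, c = r ∨ c = z * r → c * u ≠ u * c := by
        intro c hc e1
        have h4 : orderOf r = 4 := Cfsg.Lib.DihedralCent.r_four hs
        have hru : r * u = u * r := by
          rcases hc with rfl | rfl
          · exact e1
          · rw [mul_assoc, ← mul_assoc u, hzu, mul_assoc] at e1
            exact mul_left_cancel e1
        have h1 := hs.hur
        rw [← hru, mul_assoc, huu2, mul_one] at h1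
        have h2 : r * r = 1 := eq_inv_iff_mul_eq_one.1 h1
        rw [hs.hrz] at h2
        exact Cfsg.Lib.DihedralCent.z_ne hs h2
      rcases Cfsg.Lib.DihedralCent.mem_cases hs ht with hr | hr
      · rcases Cfsg.Lib.DihedralCent.zpowers_cases hs hr with e | e | e | e
        · exact Or.inl (by rw [e]; rfl)
        · exact absurd htu' (hbad t (Or.inl e))
        · exact Or.inr (Or.inl (by rw [e]; rfl))
        · exact absurd htu' (hbad t (Or.inr e))
      · have hc : (u * t) * u = u * (u * t) := by rw [mul_assoc, htu']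
        rcases Cfsg.Lib.DihedralCent.zpowers_cases hs hr with e | e | e | e
        · refine Or.inr (Or.inr (Or.inl ?_))
          have : t = u := by rw [← mul_one u, ← e, ← mul_assoc, huu2, one_mul]
          rw [this]; rfl
        · exact absurd hc (hbad _ (Or.inl e))
        · refine Or.inr (Or.inr (Or.inr ?_))
          have : t = u * z := by rw [← e, ← mul_assoc, huu2, one_mul]
          rw [this]; rfl
        · exact absurd hc (hbad _ (Or.inr e))
    -- an element of odd prime order normalising `V`
    obtain ⟨x, hxS, hxV, p, hp, hp2, hxp⟩ : ∃ x ∈ S, x ∈ normalizer (V : Set G) ∧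
        ∃ p, p.Prime ∧ p ≠ 2 ∧ orderOf x = p := by
      obtain ⟨a, ha⟩ := isConj_iff.1 (Cfsg.Lib.DihedralCent.inv_conj hs hs.hu)
      set C' := conjMap (a : G) T with hC'
      have hzaz : (a : G) * zz * (a : G)⁻¹ = uu := congrArg Subtype.val ha
      have hC'c : ∀ c ∈ C', c * uu = uu * c := by
        intro c hc
        have h1 := hzc _ (mem_conjMap.1 hc)
        rw [← hzaz]
        calc c * ((a : G) * zz * (a : G)⁻¹) = (a : G) * ((a : G)⁻¹ * c * a * zz) * (a : G)⁻¹ := by group
          _ = (a : G) * (zz * ((a : G)⁻¹ * c * a)) * (a : G)⁻¹ := by rw [h1]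
          _ = _ := by group
      have hC'S : C' ≤ S := fun c hc => by
        have := Subgroup.Normal.conj_mem inferInstance _ (hTS (mem_conjMap.1 hc)) (a : G)
        simpa [mul_assoc] using this
      have hcard4 : ∀ K : Subgroup G, Nat.card K = 8 → V ≤ K → K ≤ normalizer (V : Set G) := by
        intro K hK hVK
        have hVc : Nat.card V = 4 := by
          have e1 : Nat.card V = Nat.card ({1, zz, uu, uu * zz} : Set G) := Nat.card_congr
            (Equiv.setCongr (by ext v; simp [V, Set.mem_insert_iff, Set.mem_singleton_iff]))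
          rw [e1, Nat.card_eq_fintype_card, ← Set.toFinset_card]
          have n1 : zz ≠ 1 := fun e => by rw [e, orderOf_one] at hzo; omega
          have n2 : uu ≠ 1 := fun e => by
            have := hs.hu
            rw [← Subgroup.orderOf_coe, ← huu, e, orderOf_one] at this; omega
          have n3 : uu * zz ≠ 1 := fun e => huz' (by
            rw [eq_inv_of_mul_eq_one_left e]
            exact inv_eq_of_mul_eq_one_right (congrArg Subtype.val (Cfsg.Lib.DihedralCent.zz hs)))
          simp only [Set.toFinset_insert, Set.toFinset_singleton]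
          rw [Finset.card_insert_of_notMem, Finset.card_insert_of_notMem, Finset.card_insert_of_notMem,
            Finset.card_singleton]
          · simp only [Finset.mem_singleton]
            intro e; exact n1 (left_eq_mul.1 e)
          · simp only [Finset.mem_insert, Finset.mem_singleton]
            rintro (e | e)
            · exact huz' e.symm
            · exact n2 (right_eq_mul.1 e)
          · simp only [Finset.mem_insert, Finset.mem_singleton]
            rintro (e | e | e)
            · exact n1 e.symm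
            · exact n2 e.symm
            · exact n3 e.symm
        have h1 := (V.subgroupOf K).card_mul_index
        rw [Nat.card_congr (subgroupOfEquivOfLe hVK).toEquiv, hVc, hK] at h1
        haveI := normal_of_index_eq_two (H := V.subgroupOf K) (by omega)
        exact (normal_subgroupOf_iff_le_normalizer hVK).1 inferInstance
      have hTN := hcard4 T hTc hVT
      have hC'8 : Nat.card C' = 8 := by rw [hC', card_conjMap, hTc]
      have hVC' : V ≤ C' := by
        have huC : uu ∈ C' := by rw [← hzaz]; exact mem_conjMap.2 (by simpa [mul_assoc] using hzT)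
        -- `z` centralises `u`, so lies in `C'`
        have hzC : zz ∈ C' := by
          refine mem_conjMap.2 ⟨⟨(a : G)⁻¹ * zz * a, by
            have := Subgroup.Normal.conj_mem inferInstance _ (hTS hzT) (a : G)⁻¹
            simpa using this⟩, ?_, rfl⟩
          refine mem_centralizer_singleton_iff.2 (Subtype.ext ?_)
          show (a : G)⁻¹ * zz * a * zz = zz * ((a : G)⁻¹ * zz * a)
          have h1 : zz * uu = uu * zz := (congrArg Subtype.val hs.huz).symm
          calc (a : G)⁻¹ * zz * a * zz = (a : G)⁻¹ * (zz * ((a : G) * zz * (a : G)⁻¹)) * a := by group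
            _ = (a : G)⁻¹ * (((a : G) * zz * (a : G)⁻¹) * zz) * a := by rw [hzaz, h1]
            _ = _ := by group
        rintro v (rfl | rfl | rfl | rfl)
        · exact one_mem C'
        · exact hzC
        · exact huC
        · exact mul_mem huC hzC
      have hC'N := hcard4 C' hC'8 hVC'
      set M := S ⊓ normalizer (V : Set G) with hM
      by_contra hall
      have hM2 : IsPGroup 2 M := isPGroup_of_pe fun m hm => by
        by_contra hnot
        obtain ⟨q, hq, hqd, hqne⟩ : ∃ q, q.Prime ∧ q ∣ orderOf m ∧ q ≠ 2 := by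
          by_contra hh
          push Not at hh
          exact hnot ⟨_, Nat.eq_prime_pow_of_unique_prime_dvd (orderOf_pos m).ne' fun {q} hq hd => hh q hq hd⟩
        exact hall ⟨m ^ (orderOf m / q), pow_mem hm.1 _, pow_mem hm.2 _, q, hq, hqne,
          orderOf_pow_orderOf_div (orderOf_pos m).ne' hqd⟩
      have hTM : T ≤ M := le_inf hTS hTN
      have h1 : M.subgroupOf S = (PS : Subgroup S) := PS.3 (hM2.of_equiv (subgroupOfEquivOfLe (inf_le_left : M ≤ S)).symm)
        (fun x hx => by
          rw [mem_subgroupOf]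
          exact hTM ⟨x, by rwa [← hPS], rfl⟩)
      have hrC' : rr ∈ C' := by
        have hCM : C' ≤ M := le_inf hC'S hC'N
        have hMT : M = T := by
          rw [hT, ← hPS, ← h1, map_subgroupOf_eq_of_le inf_le_left]
        have : C' = T := eq_of_le_of_card_ge (hMT ▸ hCM) (by rw [hTc, hC'8])
        rw [this]; exact hrT
      have h2 := hC'c rr hrC'
      have h3 : r * u = u * r := Subtype.ext h2
      have h4 := hs.hur
      rw [← h3, mul_assoc, huu2, mul_one] at h4
      have h5 := eq_inv_iff_mul_eq_one.1 h4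
      rw [hs.hrz] at h5
      exact Cfsg.Lib.DihedralCent.z_ne hs h5
    have hxW : x ∈ normalizer (W : Set G) := by
      rw [← conjMap_eq_self_iff]
      refine eq_of_le_of_card_ge (fun c hc => ?_) (card_conjMap _ _).ge
      rw [hW, mem_centralizer_iff]
      intro v hv
      have h1 := mem_centralizer_iff.1 (mem_conjMap.1 hc) _ ((mem_normalizer_iff''.1 hxV v).1 hv)
      calc v * c = x * (x⁻¹ * v * x * (x⁻¹ * c * x)) * x⁻¹ := by group
        _ = x * (x⁻¹ * c * x * (x⁻¹ * v * x)) * x⁻¹ := by rw [h1]
        _ = _ := by group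
    have hVp : IsPGroup 2 V := (PS.2.map S.subtype).to_le (by rw [hPS]; exact hVT)
    have hmem : w⁻¹ * x * w * x⁻¹ ∈ V := by
      have h1 : w⁻¹ * x * w * x⁻¹ ∈ W := by
        have h2 := mul_mem (inv_mem hwW) ((mem_normalizer_iff.1 hxW w).1 hwW)
        simpa [mul_assoc] using h2
      have h2 : w⁻¹ * x * w * x⁻¹ ∈ S := by
        have h3 := mul_mem (Subgroup.Normal.conj_mem inferInstance x hxS w⁻¹) (inv_mem hxS)
        simpa [mul_assoc] using h3
      have h3 : w⁻¹ * x * w * x⁻¹ ∈ T :=
        ⟨⟨_, h2⟩, mem_centralizer_singleton_iff.2 (Subtype.ext (mem_centralizer_iff.1 h1 zz hzV).symm), rfl⟩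
      exact hTu _ h3 (mem_centralizer_iff.1 h1 uu huV).symm
    obtain ⟨d, hd, hcd⟩ := fixed_coset (W := V) (a := x) (y := w) (by
      obtain ⟨j, hj⟩ := IsPGroup.iff_card.1 hVp
      rw [hxp, hj]
      exact Nat.Coprime.pow_right _ ((Nat.coprime_primes hp Nat.prime_two).2 hp2)) hxV hmem
    have hdW : d ∈ W := mem_centralizer_iff.2 fun v hv => by
      have hcomm : ∀ a ∈ V, ∀ b ∈ V, a * b = b * a := by
        intro a ha b hb
        have h3 : Commute uu zz := congrArg Subtype.val hs.huz
        rcases ha with rfl | rfl | rfl | rfl <;> rcases hb with rfl | rfl | rfl | rfl <;>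
          first
            | exact (Commute.one_left _).eq
            | exact (Commute.one_right _).eq
            | exact (Commute.refl _).eq
            | exact h3.eq
            | exact h3.eq.symm
            | exact ((Commute.refl uu).mul_right h3).eq
            | exact ((Commute.refl uu).mul_right h3).eq.symm
            | exact (h3.symm.mul_right (Commute.refl zz)).eq
            | exact (h3.symm.mul_right (Commute.refl zz)).eq.symm
      exact hcomm v hv d hd
    exact not_commute_pe h Nat.prime_two hp hp2.symm (pe_of_mem hWp (mul_mem hwW hdW))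
      (fun e => hwS (by rw [eq_inv_of_mul_eq_one_left e]; exact inv_mem (hTS (hVT hd))))
      (pe_of_prime hxp) (fun e => by rw [e, orderOf_one] at hxp; exact hp.one_lt.ne hxp) hcd
  have hgval : (g : G) = y * uu * y⁻¹ := rfl
  have hrot : rr * (uu * zz) * rr⁻¹ = uu := by
    have e1 : r * (u * z) * r⁻¹ = u := by
      have h1 : u * r⁻¹ = r * u := by
        rw [← hs.hur, show u * (u * r * u) = u * u * r * u by group, huu2, one_mul]
      calc r * (u * z) * r⁻¹ = r * u * (z * r⁻¹) := by group
        _ = r * u * r := by rw [← hs.hrz, mul_inv_cancel_right]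
        _ = u * r⁻¹ * r := by rw [h1]
        _ = u := inv_mul_cancel_right u r
    exact congrArg Subtype.val e1
  have hyr : y * rr * y⁻¹ = rr ∨ y * rr * y⁻¹ = zz * rr := by
    set c : S := ⟨y * rr * y⁻¹, hTS ((mem_normalizer_iff.1 hyn rr).1 hrT)⟩ with hc
    have hcC : c ∈ centralizer ({z} : Set S) := hTmem c ((mem_normalizer_iff.1 hyn rr).1 hrT)
    have hco : orderOf c = 4 := by
      rw [← Subgroup.orderOf_coe]
      show orderOf (y * rr * y⁻¹) = 4
      rw [show y * rr * y⁻¹ = MulAut.conj y rr from rfl, MulEquiv.orderOf_eq, hrr, Subgroup.orderOf_coe,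
        Cfsg.Lib.DihedralCent.r_four hs]
    have hcr : c ∈ zpowers r := by
      by_contra hn
      have h1 : orderOf c ∣ 2 := orderOf_dvd_of_pow_eq_one (by
        rw [sq]; exact (Cfsg.Lib.DihedralCent.outside_sq hs hcC hn).1)
      rw [hco] at h1
      norm_num at h1
    rcases Cfsg.Lib.DihedralCent.zpowers_cases hs hcr with e | e | e | e
    · rw [e, orderOf_one] at hco; omega
    · exact Or.inl (congrArg Subtype.val e)
    · rw [e, hs.hz] at hco; omega
    · exact Or.inr (congrArg Subtype.val e)
  -- the four possibilities for `g`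
  have hgu : ∀ c : S, u * g = c → (g : G) = uu * (c : G) := fun c hc => by
    have : g = u * c := by rw [← hc, ← mul_assoc, huu2, one_mul]
    rw [this]; rfl
  rcases Cfsg.Lib.DihedralCent.zpowers_cases hs hug with e | e | e | e
  · refine hKlein y hyS hyz ?_
    rw [← hgval, hgu _ e]
    exact mul_one uu
  swap
  · -- `g = u z`
    refine hKlein (rr * y) (fun hm => hyS ((Subgroup.mul_mem_cancel_left S r.2).1 hm)) ?_ ?_
    · rw [show rr * y * zz * (rr * y)⁻¹ = rr * (y * zz * y⁻¹) * rr⁻¹ by group, hyz, hzc rr hrT]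
      group
    · rw [show rr * y * uu * (rr * y)⁻¹ = rr * (y * uu * y⁻¹) * rr⁻¹ by group, ← hgval, hgu _ e]
      exact hrot
  all_goals
    -- `g = u c` with `c` of order four
    have hc4 : ∃ c : S, u * g = c ∧ c ∈ zpowers r ∧ c * c = z ∧ (c = r ∨ c = z * r) := by
      first
        | exact ⟨r, e, mem_zpowers r, hs.hrz, Or.inl rfl⟩
        | exact ⟨z * r, e, by rw [← hs.hrz]; exact mul_mem (mul_mem (mem_zpowers r) (mem_zpowers r)) (mem_zpowers r),
            Cfsg.Lib.DihedralCent.zr_sq hs, Or.inr rfl⟩
    obtain ⟨c, hc, hcr, hcc, hcases⟩ := hc4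
    set s2 : S := ⟨y * y, hy2S⟩ with hs2
    have hs2C : s2 ∈ centralizer ({z} : Set S) := hTmem s2 hy2T
    have hy4 : y ^ 4 = 1 := pow_four_of_pe h (pe_of_mem P.2 hyP)
    have hy4' : y * y * (y * y) = 1 := by rw [← hy4]; simp only [pow_succ, pow_zero, one_mul, mul_assoc]
    have hs2cases : s2 = 1 ∨ s2 = z := by
      by_cases hin : s2 ∈ zpowers r
      · rcases Cfsg.Lib.DihedralCent.zpowers_cases hs hin with e1 | e1 | e1 | e1
        · exact Or.inl e1
        · exfalso
          have h1 : r ^ 2 = 1 := by
            rw [sq, ← e1]; exact Subtype.ext hy4'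
          rw [sq, hs.hrz] at h1
          exact Cfsg.Lib.DihedralCent.z_ne hs h1
        · exact Or.inr e1
        · exfalso
          have h1 : z * r * (z * r) = 1 := by rw [← e1]; exact Subtype.ext hy4'
          rw [Cfsg.Lib.DihedralCent.zr_sq hs] at h1
          exact Cfsg.Lib.DihedralCent.z_ne hs h1
      · exfalso
        have hk := (Cfsg.Lib.DihedralCent.mem_cases hs hs2C).resolve_left hin
        -- `y` fixes `s2`
        have hval : ∀ d : S, u * s2 = d → y * (uu * (d : G)) * y⁻¹ = uu * (d : G) := fun d hd => by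
          have : s2 = u * d := by rw [← hd, ← mul_assoc, huu2, one_mul]
          have h1 : y * y = uu * (d : G) := congrArg Subtype.val this
          rw [← h1]; group
        have hgc : y * uu * y⁻¹ = uu * (c : G) := by rw [← hgval]; exact hgu c hc
        have hcu : ∀ d : G, y * (uu * d) * y⁻¹ = uu * ((c : G) * (y * d * y⁻¹)) := fun d => by
          rw [show y * (uu * d) * y⁻¹ = y * uu * y⁻¹ * (y * d * y⁻¹) by group, hgc, mul_assoc]
        have hne1 : c ≠ 1 := fun e1 => by
          rw [e1, one_mul] at hcc; exact Cfsg.Lib.DihedralCent.z_ne hs hcc.symm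
        rcases Cfsg.Lib.DihedralCent.zpowers_cases hs hk with e1 | e1 | e1 | e1
        all_goals
          have h1 := hval _ e1
          rw [hcu] at h1
          have h2 := mul_left_cancel h1
        · refine hne1 (Subtype.ext ?_)
          simpa using h2
        · -- the fixed element is `u r`
          rcases hyr with hy' | hy' <;> rw [← hrr, hy'] at h2
          · exact hne1 (Subtype.ext (mul_eq_right.1 h2))
          · rw [← mul_assoc] at h2
            have h3 : (c : G) * zz = 1 := mul_eq_right.1 h2
            have h4 : c * z = 1 := Subtype.ext h3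
            rw [eq_inv_of_mul_eq_one_left h4, inv_eq_of_mul_eq_one_right (Cfsg.Lib.DihedralCent.zz hs)] at hcc
            rw [Cfsg.Lib.DihedralCent.zz hs] at hcc
            exact Cfsg.Lib.DihedralCent.z_ne hs hcc.symm
        · refine hne1 (Subtype.ext ?_)
          rw [← hzz, hyz] at h2
          exact mul_eq_right.1 h2
        · -- the fixed element is `u z r`
          have hyzr : y * (zz * rr) * y⁻¹ = zz * (y * rr * y⁻¹) := by
            rw [show y * (zz * rr) * y⁻¹ = y * zz * y⁻¹ * (y * rr * y⁻¹) by group, hyz]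
          have h2' : (c : G) * (zz * (y * rr * y⁻¹)) = zz * rr := by rw [← hyzr]; exact h2
          rcases hyr with hy' | hy' <;> rw [hy'] at h2'
          · exact hne1 (Subtype.ext (mul_eq_right.1 h2'))
          · rw [← mul_assoc (c : G)] at h2'
            have h3 : (c : G) * zz = 1 := mul_eq_right.1 h2'
            have h4 : c * z = 1 := Subtype.ext h3
            rw [eq_inv_of_mul_eq_one_left h4, inv_eq_of_mul_eq_one_right (Cfsg.Lib.DihedralCent.zz hs)] at hcc
            rw [Cfsg.Lib.DihedralCent.zz hs] at hcc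
            exact Cfsg.Lib.DihedralCent.z_ne hs hcc.symm
    have hup : uu * y ∈ (P : Subgroup G) := mul_mem (hTP huT) hyP
    have h4 := pow_four_of_pe h (pe_of_mem P.2 hup)
    have hsq : uu * y * (uu * y) = (c : G) * (y * y) := by
      rw [show uu * y * (uu * y) = uu * (y * uu * y⁻¹) * (y * y) by group, ← hgval, hgu c hc, ← mul_assoc uu uu,
        show uu * uu = 1 from congrArg Subtype.val huu2, one_mul]
    rw [show (uu * y) ^ 4 = uu * y * (uu * y) * (uu * y * (uu * y)) by
      simp only [pow_succ, pow_zero, one_mul, mul_assoc], hsq] at h4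
    have h5 : c * s2 * (c * s2) = 1 := Subtype.ext h4
    refine Cfsg.Lib.DihedralCent.z_ne hs ?_
    rcases hs2cases with e1 | e1 <;> rw [e1] at h5
    · rw [mul_one, hcc] at h5; exact h5
    · have hcz : c * z = z * c := mem_centralizer_singleton_iff.1
        ((zpowers_le.2 (Cfsg.Lib.DihedralCent.r_mem hs)) hcr)
      rw [show c * z * (c * z) = c * (z * c) * z by group, ← hcz,
        show c * (c * z) * z = c * c * (z * z) by group, Cfsg.Lib.DihedralCent.zz hs, mul_one, hcc] at h5
      exact h5

/-- The case of a Sylow 3-subgroup of order at least nine. -/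
theorem large_three (h : Le5 G) (h2 : 2 ∣ Nat.card G) (h3 : 3 ∣ Nat.card G) (h5 : 5 ∣ Nat.card G)
    (hR : ∀ R : Sylow 3 G, 9 ≤ Nat.card (R : Subgroup G)) :
    Nonempty (G ≃* alternatingGroup (Fin 6)) := by
  classical
  haveI : Fact (Nat.Prime 2) := ⟨Nat.prime_two⟩
  haveI : Fact (Nat.Prime 3) := ⟨Nat.prime_three⟩
  haveI : Fact (Nat.Prime 5) := ⟨by norm_num⟩
  obtain ⟨R⟩ : Nonempty (Sylow 3 G) := inferInstance
  have hR9 := hR R
  have hsolv : ∀ N : Subgroup G, N.Normal → Group.IsSolvable N → N = ⊥ := by
    intro N hN hs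
    by_contra hne
    obtain ⟨q, hq, V, hVn, hVq, hV1, -⟩ := exists_normal_qgroup N hs hne
    haveI := Fact.mk hq
    obtain ⟨n, hn⟩ := IsPGroup.iff_card.1 hVq
    have hqd : q ∣ Nat.card G := by
      refine dvd_trans ?_ (card_subgroup_dvd_card V)
      rw [hn]
      exact dvd_pow_self q fun e => hV1 (card_eq_one.1 (by rw [hn, e, pow_zero]))
    rcases primes h hq hqd with rfl | rfl | rfl
    · have h1 := card_dvd_of_normalizes h (p := 3) (q := 2) (by norm_num) (by norm_num) R.2 hVq hV1
        (by rw [normalizer_eq_top]; exact le_top)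
      have := Nat.le_of_dvd (by norm_num) h1
      omega
    · exact hV1 (no_normal_odd h h2 (r := 3) (s := 5) (by norm_num) (by norm_num) (by norm_num) h5 V hVq)
    · exact hV1 (no_normal_odd h h2 (r := 5) (s := 3) (by norm_num) (by norm_num) (by norm_num) h3 V hVq)
  have htop : (⊤ : Subgroup G) ≠ ⊥ := fun e => by
    have hle : (R : Subgroup G) = ⊥ := eq_bot_iff.2 (e ▸ le_top)
    rw [hle, card_bot] at hR9
    omega
  obtain ⟨S, ⟨hSn, hS1⟩, hSmin⟩ := WellFounded.has_min (wellFounded_lt (α := Subgroup G))
    {N : Subgroup G | N.Normal ∧ N ≠ ⊥} ⟨⊤, inferInstance, htop⟩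
  haveI := hSn
  have hlS : Le5 S := h.subgroup S
  have hSns : ¬ Group.IsSolvable S := fun hs => hS1 (hsolv S hSn hs)
  -- simplicity
  obtain ⟨M, ⟨hMn, hM1⟩, hMmin⟩ := WellFounded.has_min (wellFounded_lt (α := Subgroup S))
    {N : Subgroup S | N.Normal ∧ N ≠ ⊥} ⟨⊤, inferInstance, fun e => hS1 (by
      rw [← card_eq_one, ← Subgroup.card_top (G := S), e, card_bot])⟩
  haveI := hMn
  have hMtop : M = ⊤ := by
    by_cases hall : ∀ g : G, M.map (MulAut.conjNormal g : MulAut S).toMonoidHom = M
    · have hn : (M.map S.subtype).Normal := ⟨fun x hx g => by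
        obtain ⟨m, hm, rfl⟩ := hx
        refine ⟨MulAut.conjNormal g m, ?_, MulAut.conjNormal_apply g m⟩
        rw [SetLike.mem_coe, ← hall g]
        exact ⟨m, hm, rfl⟩⟩
      have h1 : M.map S.subtype = S := by
        by_contra hne
        refine hSmin _ ⟨hn, fun e => hM1 ?_⟩ (lt_of_le_of_ne (map_subtype_le M) hne)
        rwa [map_eq_bot_iff_of_injective _ S.subtype_injective] at e
      rw [eq_top_iff]
      intro x _
      obtain ⟨m, hm, hmx⟩ : (x : G) ∈ M.map S.subtype := by rw [h1]; exact x.2
      rwa [← S.subtype_injective hmx]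
    · exfalso
      push Not at hall
      obtain ⟨g, hg⟩ := hall
      set φ : MulAut S := MulAut.conjNormal g with hφ
      set M' := M.map φ.toMonoidHom with hM'
      have hM'n : M'.Normal := hMn.map _ φ.surjective
      have hdis : M ⊓ M' = ⊥ := by
        by_contra hne
        have h1 : M ⊓ M' = M := (eq_or_lt_of_le (inf_le_left : M ⊓ M' ≤ M)).resolve_right
          fun hlt => hMmin _ ⟨inferInstance, hne⟩ hlt
        exact hg (eq_of_le_of_card_ge (inf_eq_left.1 h1) (card_map_of_injective φ.injective).le).symm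
      have hcomm : ∀ a ∈ M, ∀ b ∈ M', Commute a b := fun a ha b hb =>
        commute_of_normal_of_disjoint M M' hMn hM'n (disjoint_iff.2 hdis) a b ha hb
      obtain ⟨p, hp, hpd⟩ := Nat.exists_prime_and_dvd (fun e : Nat.card M = 1 => hM1 (card_eq_one.1 e))
      haveI := Fact.mk hp
      obtain ⟨a, ha⟩ := exists_prime_orderOf_dvd_card' (G := M) p hpd
      have hao : orderOf (a : S) = p := by rw [Subgroup.orderOf_coe, ha]
      have hMp : IsPGroup p M := isPGroup_of_pe fun b hb => by
        by_contra hb'
        obtain ⟨q, hq, hqd, hne⟩ : ∃ q, q.Prime ∧ q ∣ orderOf b ∧ q ≠ p := by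
          by_contra hh
          push Not at hh
          exact hb' ⟨_, Nat.eq_prime_pow_of_unique_prime_dvd (orderOf_pos b).ne' fun {q} hq hd => hh q hq hd⟩
        refine not_commute hlS (hcomm a a.2 (φ b) ⟨b, hb, rfl⟩) hp hq hne.symm (by rw [hao]) ?_
        rwa [MulEquiv.orderOf_eq]
      haveI : (Cfsg.pCore p S).Normal := inferInstance
      have hle : M ≤ Cfsg.pCore p S := Cfsg.Lib.Components.le_pCore hMp
      have hWp : IsPGroup p ((Cfsg.pCore p S).map S.subtype) :=
        (Cfsg.Lib.Components.isPGroup_pCore p).map _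
      haveI := hWp.isNilpotent
      have := hsolv ((Cfsg.pCore p S).map S.subtype) inferInstance inferInstance
      rw [map_eq_bot_iff_of_injective _ S.subtype_injective] at this
      exact hM1 (eq_bot_iff.2 (this ▸ hle))
  have hsimple : ∀ N : Subgroup S, N.Normal → N = ⊥ ∨ N = ⊤ := fun N hN => by
    by_contra! hcon
    exact hMmin N ⟨hN, hcon.1⟩ (hMtop ▸ lt_top_iff_ne_top.2 hcon.2)
  -- the three primes
  have hS2 : 2 ∣ Nat.card S := by
    by_contra hn
    exact hSns (Cfsg.Agent.PF.isSolvable_of_odd S (Nat.odd_iff.2 (Nat.two_dvd_ne_zero.1 hn)))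
  have hS5 : 5 ∣ Nat.card S := by
    by_contra hn
    obtain ⟨y, hy⟩ := exists_prime_orderOf_dvd_card' (G := G) 5 h5
    set φ : S →* S := (MulAut.conjNormal y : MulAut S).toMonoidHom with hφ
    have hfp : MonoidHom.FixedPointFree φ := fun v hv => by
      by_contra hv1
      have hc : Commute y (v : G) := by
        have h1 : y * (v : G) * y⁻¹ = v := by
          rw [← MulAut.conjNormal_apply]; exact congrArg Subtype.val hv
        exact mul_inv_eq_iff_eq_mul.1 h1
      obtain ⟨q, hq, hqd⟩ := Nat.exists_prime_and_dvd (fun e => hv1 (orderOf_eq_one_iff.1 e))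
      refine not_commute h hc (by norm_num : Nat.Prime 5) hq ?_ (by rw [hy])
        (by rw [Subgroup.orderOf_coe]; exact hqd)
      rintro rfl
      exact hn (hqd.trans (_root_.orderOf_dvd_natCard v))
    have hit : φ^[5] = _root_.id := funext fun v => Subtype.ext (by
      have h1 : ∀ j, ((φ^[j] v : S) : G) = y ^ j * v * (y ^ j)⁻¹ := by
        intro j
        induction j with
        | zero => simp
        | succ j ih =>
          rw [Function.iterate_succ_apply']
          show ((MulAut.conjNormal y (φ^[j] v) : S) : G) = _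
          rw [MulAut.conjNormal_apply, ih, pow_succ']
          group
      rw [h1, ← hy, pow_orderOf_eq_one]; simp)
    haveI : Group.IsNilpotent S :=
      Cfsg.Lib.Thompson.isNilpotent_of_fpf φ hfp (r := 5) (by norm_num) hit
    exact hSns inferInstance
  have hS3 : 3 ∣ Nat.card S := by
    by_contra hn
    have hcop : (Nat.card (R : Subgroup G)).Coprime (Nat.card S) := by
      obtain ⟨n, hn'⟩ := IsPGroup.iff_card.1 R.2
      rw [hn']
      exact Nat.Coprime.pow_left _ ((Nat.prime_three.coprime_iff_not_dvd).2 hn)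
    haveI := R.2.isNilpotent
    obtain ⟨Q, hQ⟩ := exists_invariant_sylow (A := (R : Subgroup G)) (K := S)
      (by rw [normalizer_eq_top]; exact le_top) hcop (Or.inl inferInstance) 2
    have hQ1 : (Q : Subgroup S).map S.subtype ≠ ⊥ := by
      rw [Ne, map_eq_bot_iff_of_injective _ S.subtype_injective]
      exact Q.ne_bot_of_dvd_card hS2
    have h1 := card_dvd_of_normalizes h (p := 3) (q := 2) (by norm_num) (by norm_num) R.2 (Q.2.map _) hQ1 hQ
    have := Nat.le_of_dvd (by norm_num) h1
    omega
  -- the Sylow 3-subgroups of `S`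
  have hnine : ∀ P : Sylow 3 S, 9 ≤ Nat.card (P : Subgroup S) := by
    intro P
    by_contra hlt
    obtain ⟨n, hn⟩ := IsPGroup.iff_card.1 P.2
    have h3P : 3 ∣ Nat.card (P : Subgroup S) := P.dvd_card_of_dvd_card hS3
    have hP3 : Nat.card (P : Subgroup S) = 3 := by
      rw [hn] at h3P hlt ⊢
      rcases n with _ | _ | n
      · simp at h3P
      · rfl
      · exfalso; exact hlt (le_trans (by norm_num) (Nat.pow_le_pow_right (by norm_num) (show 2 ≤ n + 1 + 1 by omega)))
    haveI : IsCyclic (P : Subgroup S) := isCyclic_of_prime_card hP3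
    have hP1 : (P : Subgroup S) ≠ ⊥ := fun e => by rw [e, card_bot] at hP3; omega
    obtain ⟨R', hR'⟩ := (P.2.map S.subtype).exists_le_sylow
    by_cases hinv : ∀ v ∈ normalizer ((P : Subgroup S) : Set S), v ∈ (P : Subgroup S)
    · have hburn : normalizer ((P : Subgroup S) : Set S) ≤ centralizer ((P : Subgroup S) : Set S) := fun v hv =>
        mem_centralizer_iff.2 fun w hw => congrArg Subtype.val (mul_comm' (⟨w, hw⟩ : (P : Subgroup S)) ⟨v, hinv v hv⟩)
      obtain ⟨K, hKn, hKc, hKm⟩ := Cfsg.Lib.SquareFreeClasses.hasCompl_of_burnside P hburn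
      obtain ⟨t, ht⟩ := exists_prime_orderOf_dvd_card' (G := S) 2 hS2
      have htK := hKm t (by rw [ht]; norm_num)
      rcases hsimple K hKn with e | e
      · rw [e, mem_bot] at htK
        rw [htK, orderOf_one] at ht; omega
      · rw [e, Subgroup.card_top] at hKc
        exact absurd hS3 ((Nat.prime_three.coprime_iff_not_dvd).1 hKc.symm)
    · push Not at hinv
      obtain ⟨v, hvn, hvP⟩ := hinv
      have hv2 : PE 2 v := by
        have hv5 := hlS v
        have hv0 := orderOf_pos v
        by_contra hnot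
        have hcases : orderOf v = 3 ∨ orderOf v = 5 := by
          have a1 : orderOf v ≠ 1 := fun e => hnot ⟨0, by rw [e, pow_zero]⟩
          have a2 : orderOf v ≠ 2 := fun e => hnot ⟨1, by rw [e, pow_one]⟩
          have a4 : orderOf v ≠ 4 := fun e => hnot ⟨2, by rw [e]; norm_num⟩
          omega
        rcases hcases with e | e
        · exact hvP (mem_of_mem_normalizer P hvn (pe_of_prime e))
        · obtain ⟨w, hw, hw1⟩ := (bot_or_exists_ne_one (P : Subgroup S)).resolve_left hP1
          exact not_commute_pe hlS (by norm_num : Nat.Prime 5) Nat.prime_three (by norm_num) (pe_of_prime e)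
            (fun e' => by rw [e', orderOf_one] at e; omega) (pe_of_mem P.2 hw) hw1
            (commute_of_cyclic (p := 5) hP3 (by rw [e]) hvn (by decide) w hw)
      obtain ⟨i, hio, hin⟩ : ∃ i : S, orderOf i = 2 ∧ i ∈ normalizer ((P : Subgroup S) : Set S) := by
        obtain ⟨k, hk⟩ := hv2
        rcases k with _ | k
        · exact absurd (orderOf_eq_one_iff.1 (by simpa using hk)) fun e => hvP (by rw [e]; exact one_mem _)
        · refine ⟨v ^ (orderOf v / 2), orderOf_pow_orderOf_div (orderOf_pos v).ne' ?_, pow_mem hvn _⟩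
          rw [hk]; exact dvd_pow_self 2 (Nat.succ_ne_zero k)
      -- `R'` permutes the involutions of `N_S(P)`
      have hRS : ∀ x ∈ (R' : Subgroup G), ∀ w : S, (MulAut.conjNormal x : MulAut S) w ∈ (P : Subgroup S) ↔
          w ∈ (P : Subgroup S) := by
        intro x hx w
        have hPeq : ((R' : Subgroup G).subgroupOf S) = (P : Subgroup S) := P.3
          ((R'.2.to_le inf_le_left).of_equiv ((subgroupOfEquivOfLe (inf_le_right : (R' : Subgroup G) ⊓ S ≤ S)).symm.trans
            (MulEquiv.subgroupCongr (inf_subgroupOf_right _ _)))) (fun v hv => hR' ⟨v, hv, rfl⟩)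
        rw [← hPeq, mem_subgroupOf, mem_subgroupOf, MulAut.conjNormal_apply]
        constructor
        · intro h1
          have := mul_mem (mul_mem (inv_mem hx) h1) hx
          simpa [mul_assoc] using this
        · intro h1
          exact mul_mem (mul_mem hx h1) (inv_mem hx)
      have hRN : ∀ x ∈ (R' : Subgroup G), ∀ w ∈ normalizer ((P : Subgroup S) : Set S),
          (MulAut.conjNormal x : MulAut S) w ∈ normalizer ((P : Subgroup S) : Set S) := by
        intro x hx w hw
        rw [mem_normalizer_iff]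
        intro q
        obtain ⟨q0, rfl⟩ := (MulAut.conjNormal x : MulAut S).surjective q
        rw [← map_mul, ← map_inv, ← map_mul, hRS x hx, hRS x hx]
        exact mem_normalizer_iff.1 hw q0
      have hI : ∀ j ∈ normalizer ((P : Subgroup S) : Set S), orderOf j = 2 → i * j ∈ (P : Subgroup S) := by
        intro j hj hjo
        have hii : i * i = 1 := by rw [← sq, ← hio, pow_orderOf_eq_one]
        have hjj : j * j = 1 := by rw [← sq, ← hjo, pow_orderOf_eq_one]
        have hpe : PE 3 (i * j) := by
          refine pe_of_commute hlS Nat.prime_three (pe_of_mem P.2 ?_) ?_ (x := (bot_or_exists_ne_one (P : Subgroup S)).resolve_left hP1 |>.choose) ?_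
          · exact ((bot_or_exists_ne_one (P : Subgroup S)).resolve_left hP1).choose_spec.1
          · exact ((bot_or_exists_ne_one (P : Subgroup S)).resolve_left hP1).choose_spec.2
          · generalize hw : ((bot_or_exists_ne_one (P : Subgroup S)).resolve_left hP1).choose = w
            have hwP : w ∈ (P : Subgroup S) := hw ▸ ((bot_or_exists_ne_one (P : Subgroup S)).resolve_left hP1).choose_spec.1
            have h1 := inverts_odd hlS (by norm_num) P.2 hio hin
            have h2 := inverts_odd hlS (by norm_num) P.2 hjo hj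
            show w * (i * j) = i * j * w
            calc w * (i * j) = i * (i * w * i) * j := by
                  rw [show i * (i * w * i) = i * i * w * i by group, hii, one_mul]; group
              _ = i * w⁻¹ * j := by rw [h1 w hwP]
              _ = i * (j * w * j) * j := by rw [h2 w hwP]
              _ = i * j * w * (j * j) := by group
              _ = _ := by rw [hjj, mul_one]
        exact mem_of_mem_normalizer P (mul_mem hin hj) hpe
      let f : ↥(R' : Subgroup G) → ↥(P : Subgroup S) := fun x => ⟨i * (MulAut.conjNormal (x : G) : MulAut S) i,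
        hI _ (hRN x x.2 i hin) (by rw [MulEquiv.orderOf_eq, hio])⟩
      have hf : Function.Injective f := by
        intro a b hab
        have h1 : (MulAut.conjNormal (a : G) : MulAut S) i = (MulAut.conjNormal (b : G) : MulAut S) i :=
          mul_left_cancel (congrArg Subtype.val hab)
        have h2 := congrArg Subtype.val h1
        rw [MulAut.conjNormal_apply, MulAut.conjNormal_apply] at h2
        by_contra hne
        have hc : Commute ((b : G)⁻¹ * a) (i : G) := by
          show (b : G)⁻¹ * a * i = i * ((b : G)⁻¹ * a)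
          calc (b : G)⁻¹ * a * i = (b : G)⁻¹ * ((a : G) * i * (a : G)⁻¹) * a := by group
            _ = (b : G)⁻¹ * ((b : G) * i * (b : G)⁻¹) * a := by rw [h2]
            _ = _ := by group
        exact not_commute_pe h Nat.prime_three Nat.prime_two (by norm_num)
          (pe_of_mem R'.2 (mul_mem (inv_mem b.2) a.2)) (fun e => hne (Subtype.ext (inv_mul_eq_one.1 e).symm))
          (pe_of_prime (by rw [Subgroup.orderOf_coe, hio]))
          (fun e => by rw [← Subgroup.orderOf_coe, e, orderOf_one] at hio; omega) hc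
      have := Nat.card_le_card_of_injective f hf
      rw [hP3] at this
      have := hR R'
      omega
  have hyp : Hyp S := ⟨hlS, hsimple, hS2, hS3, hS5, hnine⟩
  obtain ⟨z, r, u, hs⟩ := setup_exists hyp
  have hStop := top_of_setup h S hs
  obtain ⟨-, ⟨e⟩⟩ := hyp.card_eq
  exact ⟨((MulEquiv.subgroupCongr hStop).trans topEquiv).symm.trans e⟩

theorem structure_five (hr : Set.range (orderOf : G → ℕ) = {k : ℕ | 1 ≤ k ∧ k ≤ 5}) :
    Nonempty (G ≃* alternatingGroup (Fin 6)) ∨
      ∃ (N : Subgroup G) (_ : N.Normal), Cfsg.IsElementaryAbelian 2 N ∧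
        Nonempty (G ⧸ N ≃* alternatingGroup (Fin 5)) := by
  haveI : Fact (Nat.Prime 3) := ⟨Nat.prime_three⟩
  have h : Le5 G := fun g => by
    have h1 : orderOf g ∈ Set.range (orderOf : G → ℕ) := ⟨g, rfl⟩
    rw [hr] at h1
    exact h1.2
  have hmem : ∀ k, 1 ≤ k → k ≤ 5 → k ∣ Nat.card G := fun k hk hk' => by
    have h1 : k ∈ Set.range (orderOf : G → ℕ) := by rw [hr]; exact ⟨hk, hk'⟩
    obtain ⟨g, rfl⟩ := h1
    exact _root_.orderOf_dvd_natCard g
  have h3 := hmem 3 (by norm_num) (by norm_num)
  obtain ⟨R⟩ : Nonempty (Sylow 3 G) := inferInstance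
  obtain ⟨n, hn⟩ := IsPGroup.iff_card.1 R.2
  rcases n with _ | _ | n
  · exact absurd (card_eq_one.1 (by rw [hn, pow_zero])) (R.ne_bot_of_dvd_card h3)
  · exact Or.inr (small_three h (hmem 2 (by norm_num) (by norm_num)) h3 (hmem 5 (by norm_num) (by norm_num)) R
      (by rw [hn]; rfl))
  · refine Or.inl (large_three h (hmem 2 (by norm_num) (by norm_num)) h3 (hmem 5 (by norm_num) (by norm_num))
      fun Q => ?_)
    rw [card_sylow_eq Q R, hn]
    calc 9 = 3 ^ 2 := rfl
      _ ≤ 3 ^ (n + 1 + 1) := Nat.pow_le_pow_right (by norm_num) (by omega)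

end Cfsg.Lib.SpecFive
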