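import Cfsg.Agent.SpecFive.Main
import Cfsg.Agent.Presentations.BinaryIcosahedral
import Cfsg.Agent.Classical.Misc.SmallPSL

/-!
The critical groups with element orders `1, …, 5`: `A₆` and `2⁴ : SL(2,4)`.
-/

set_option autoImplicit false
set_option linter.unusedSectionVars false

namespace Cfsg.Lib.SpecFive

open Subgroup Cfsg.Lib.Coprime
open scoped IsMulCommutative

universe u

section Field

variable {F : Type} [Field F] [Fintype F]

theorem exists_omega (hF : Fintype.card F = 4) :
    ∃ w : F, w * w + w + 1 = 0 ∧ (∀ x : F, x + x = 0) ∧ ∀ x : F, x = 0 ∨ x = 1 ∨ x = w ∨ x = w + 1 := by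
  classical
  have h2 : ∀ x : F, x + x = 0 := by
    haveI : CharP F 2 := by
      obtain ⟨p, hp⟩ := CharP.exists F
      haveI := hp
      have hpp : p.Prime := (CharP.char_is_prime_or_zero F p).resolve_right (CharP.char_ne_zero_of_finite F p)
      obtain ⟨n, -, hn⟩ := FiniteField.card F p
      have : p = 2 := (Nat.prime_dvd_prime_iff_eq hpp Nat.prime_two).1 (hpp.dvd_of_dvd_pow (n := 2) (by
        rw [show (2 : ℕ) ^ 2 = Fintype.card F by rw [hF]; rfl, hn]; exact dvd_pow_self p n.2.ne'))
      exact this ▸ hp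
    exact fun x => CharTwo.add_self_eq_zero x
  obtain ⟨w, hw⟩ : ∃ w : F, w ∉ ({0, 1} : Finset F) := by
    by_contra! h
    have := Finset.card_le_card (show (Finset.univ : Finset F) ⊆ {0, 1} from fun x _ => h x)
    rw [Finset.card_univ, hF] at this
    have := Finset.card_le_two (a := (0 : F)) (b := 1)
    omega
  simp only [Finset.mem_insert, Finset.mem_singleton, not_or] at hw
  obtain ⟨hw0, hw1⟩ := hw
  have hw3 : w ^ 3 = 1 := by
    have := FiniteField.pow_card_sub_one_eq_one w hw0
    rwa [hF] at this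
  have hm1 : w - 1 ≠ 0 := sub_ne_zero.2 hw1
  have hq : w * w + w + 1 = 0 := by
    have : (w - 1) * (w * w + w + 1) = 0 := by linear_combination hw3
    exact (mul_eq_zero.1 this).resolve_left hm1
  refine ⟨w, hq, h2, fun x => ?_⟩
  by_contra! h
  obtain ⟨h0, h1, h3, h4⟩ := h
  have hn1 : w + 1 ≠ 0 := fun e => hw1 (by linear_combination e - h2 (1 : F))
  have hn2 : w + 1 ≠ 1 := fun e => hw0 (by linear_combination e)
  have hn3 : w + 1 ≠ w := fun e => one_ne_zero (α := F) (by linear_combination e)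
  have := Finset.card_le_univ ({0, 1, w, w + 1, x} : Finset F)
  rw [Finset.card_insert_of_notMem (by simp [zero_ne_one, Ne.symm hw0, Ne.symm hn1, Ne.symm h0]),
    Finset.card_insert_of_notMem (by simp [Ne.symm hw1, Ne.symm hn2, Ne.symm h1]),
    Finset.card_insert_of_notMem (by simp [Ne.symm hn3, Ne.symm h3]),
    Finset.card_insert_of_notMem (by simp [Ne.symm h4]), Finset.card_singleton, hF] at this
  omega

/-- The matrices of `SL(3, F)` with last row `(0, 0, 1)`. -/
def affineSet (F : Type) [Field F] : Set (Matrix.SpecialLinearGroup (Fin 3) F) :=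
  {M | (M : Matrix (Fin 3) (Fin 3) F) 2 0 = 0 ∧ (M : Matrix (Fin 3) (Fin 3) F) 2 1 = 0 ∧
    (M : Matrix (Fin 3) (Fin 3) F) 2 2 = 1}

theorem affine_closure_eq : ((Subgroup.closure (affineSet F) : Subgroup _) : Set _) = affineSet F := by
  refine Set.Subset.antisymm (fun M hM => ?_) subset_closure
  refine closure_induction (fun x hx => hx) ?_ ?_ ?_ hM
  · exact ⟨by simp, by simp, by simp⟩
  · intro x y _ _ hx hy
    obtain ⟨a, b, c⟩ := hx
    obtain ⟨d, e, f⟩ := hy
    refine ⟨?_, ?_, ?_⟩ <;>
      simp [Matrix.SpecialLinearGroup.coe_mul, Matrix.mul_apply, Fin.sum_univ_three, a, b, c, d, e, f]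
  · intro x _ hx
    have h1 : x⁻¹ ∈ Submonoid.closure (affineSet F) := by
      rw [← pow_card_mul_inv_eq x]
      exact pow_mem (Submonoid.subset_closure hx) _
    refine Submonoid.closure_induction (fun y hy => hy) ?_ ?_ h1
    · exact ⟨by simp, by simp, by simp⟩
    · intro y z _ _ hy hz
      obtain ⟨a, b, c⟩ := hy
      obtain ⟨d, e, f⟩ := hz
      refine ⟨?_, ?_, ?_⟩ <;>
        simp [Matrix.SpecialLinearGroup.coe_mul, Matrix.mul_apply, Fin.sum_univ_three, a, b, c, d, e, f]
where
  pow_card_mul_inv_eq (x : Matrix.SpecialLinearGroup (Fin 3) F) : x ^ (orderOf x - 1) = x⁻¹ := by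
    rw [eq_inv_iff_mul_eq_one, ← pow_succ, Nat.sub_add_cancel (orderOf_pos x), pow_orderOf_eq_one]

theorem card_affine_le (hF : Fintype.card F = 4) :
    Nat.card (Subgroup.closure (affineSet F) : Subgroup _) ≤ 960 := by
  classical
  have h1 : Nat.card (Subgroup.closure (affineSet F) : Subgroup _) = Nat.card (affineSet F) :=
    Nat.card_congr (Equiv.setCongr affine_closure_eq)
  rw [h1]
  have hblock : ∀ M : affineSet F, (!![(M.1 : Matrix (Fin 3) (Fin 3) F) 0 0, (M.1 : Matrix (Fin 3) (Fin 3) F) 0 1;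
      (M.1 : Matrix (Fin 3) (Fin 3) F) 1 0, (M.1 : Matrix (Fin 3) (Fin 3) F) 1 1]).det = 1 := by
    intro M
    obtain ⟨a, b, c⟩ := M.2
    have := M.1.2
    rw [Matrix.det_fin_three, a, b, c] at this
    rw [Matrix.det_fin_two_of]
    linear_combination this
  let f : affineSet F → (F × F) × Matrix.SpecialLinearGroup (Fin 2) F := fun M =>
    (((M.1 : Matrix (Fin 3) (Fin 3) F) 0 2, (M.1 : Matrix (Fin 3) (Fin 3) F) 1 2), ⟨_, hblock M⟩)
  have hf : Function.Injective f := by
    intro M M' he
    obtain ⟨a, b, c⟩ := M.2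
    obtain ⟨a', b', c'⟩ := M'.2
    simp only [f, Prod.ext_iff] at he
    obtain ⟨⟨e1, e2⟩, e3⟩ := he
    have e3' := congrArg (fun N : Matrix.SpecialLinearGroup (Fin 2) F => (N : Matrix (Fin 2) (Fin 2) F)) e3
    have g00 := congrArg (fun N : Matrix (Fin 2) (Fin 2) F => N 0 0) e3'
    have g01 := congrArg (fun N : Matrix (Fin 2) (Fin 2) F => N 0 1) e3'
    have g10 := congrArg (fun N : Matrix (Fin 2) (Fin 2) F => N 1 0) e3'
    have g11 := congrArg (fun N : Matrix (Fin 2) (Fin 2) F => N 1 1) e3'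
    simp at g00 g01 g10 g11
    refine Subtype.ext (Subtype.ext ?_)
    ext i j
    fin_cases i <;> fin_cases j <;> simp [g00, g01, g10, g11, e1, e2, a, b, c, a', b', c']
  refine (Nat.card_le_card_of_injective f hf).trans ?_
  rw [Nat.card_prod, Nat.card_prod, Cfsg.Lib.Classical.SLTwoTori.card_SL2, Nat.card_eq_fintype_card, hF]
  norm_num

end Field

/-- An endomorphism of `Additive N` from an element normalising `N`. -/
def conjAdd {G : Type u} [Group G] (N : Subgroup G) [N.Normal] [IsMulCommutative N] (g : G) :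
    AddMonoid.End (Additive N) :=
  AddMonoidHom.mk' (fun x => Additive.ofMul ⟨g * (Additive.toMul x : N) * g⁻¹, Subgroup.Normal.conj_mem inferInstance _ (Additive.toMul x).2 g⟩)
    fun x y => Additive.toMul.injective (Subtype.ext (by
      show g * (((Additive.toMul x : N) : G) * (Additive.toMul y : N)) * g⁻¹ = g * (Additive.toMul x : N) * g⁻¹ * (g * (Additive.toMul y : N) * g⁻¹)
      group))

theorem conjAdd_apply {G : Type u} [Group G] (N : Subgroup G) [N.Normal] [IsMulCommutative N] (g : G)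
    (x : Additive N) : ((Additive.toMul (conjAdd N g x) : N) : G) = g * (Additive.toMul x : N) * g⁻¹ := rfl

theorem conjAdd_mul {G : Type u} [Group G] (N : Subgroup G) [N.Normal] [IsMulCommutative N] (g h : G) :
    conjAdd N (g * h) = conjAdd N g * conjAdd N h := by
  refine AddMonoidHom.ext fun x => ?_
  refine Additive.toMul.injective (Subtype.ext ?_)
  show g * h * (Additive.toMul x : N) * (g * h)⁻¹ = g * (h * (Additive.toMul x : N) * h⁻¹) * g⁻¹
  group

theorem conjAdd_one {G : Type u} [Group G] (N : Subgroup G) [N.Normal] [IsMulCommutative N] :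
    conjAdd N 1 = 1 := by
  refine AddMonoidHom.ext fun x => ?_
  refine Additive.toMul.injective (Subtype.ext ?_)
  show 1 * (Additive.toMul x : N).1 * 1⁻¹ = (Additive.toMul x : N).1
  group

theorem end_mul_apply {V : Type u} [AddCommGroup V] (f g : AddMonoid.End V) (x : V) : (f * g) x = f (g x) := rfl

theorem end_add_apply {V : Type u} [AddCommGroup V] (f g : AddMonoid.End V) (x : V) : (f + g) x = f x + g x := rfl

theorem end_zero_apply {V : Type u} [AddCommGroup V] (x : V) : (0 : AddMonoid.End V) x = 0 := rfl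

theorem end_one_apply {V : Type u} [AddCommGroup V] (x : V) : (1 : AddMonoid.End V) x = x := rfl

variable {G : Type u} [Group G] [Finite G]

set_option maxHeartbeats 1600000 in
theorem iso_affine (h : Le5 G) (N : Subgroup G) [N.Normal] [IsMulCommutative N] (hN2 : ∀ x ∈ N, x * x = 1)
    (hN1 : N ≠ ⊥) (hmin : ∀ V : Subgroup G, V.Normal → V ≤ N → V ≠ ⊥ → V = N)
    (e : G ⧸ N ≃* alternatingGroup (Fin 5)) :
    ∃ (F : Type) (_ : Field F) (_ : Fintype F), Fintype.card F = 4 ∧
      Nonempty (G ≃* (Subgroup.closure (affineSet F) : Subgroup _)) := by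
  classical
  haveI : Fact (Nat.Prime 2) := ⟨Nat.prime_two⟩
  -- generators
  let pa : alternatingGroup (Fin 5) := ⟨Equiv.swap 0 1 * Equiv.swap 2 3, Equiv.Perm.mem_alternatingGroup.2 (by decide)⟩
  let pb : alternatingGroup (Fin 5) := ⟨Equiv.swap 0 2 * Equiv.swap 2 4, Equiv.Perm.mem_alternatingGroup.2 (by decide)⟩
  have hpa : orderOf pa = 2 := orderOf_eq_prime (by decide) (by decide)
  have hpb : orderOf pb = 3 := orderOf_eq_prime (hp := ⟨Nat.prime_three⟩) (by decide) (by decide)
  have hpab : orderOf (pa * pb) = 5 := orderOf_eq_prime (hp := ⟨by norm_num⟩) (by decide) (by decide)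
  have hA5 : Nat.card (alternatingGroup (Fin 5)) = 60 := by rw [nat_card_alternatingGroup, Nat.card_fin]; rfl
  have hlift : ∀ g : G, ∀ p : ℕ, p.Prime → 3 ≤ p → p ∣ orderOf (e (QuotientGroup.mk' N g)) → orderOf g = p := by
    intro g p hp hp3 hpd
    obtain ⟨c, hc⟩ : p ∣ orderOf g := by
      refine hpd.trans ?_
      rw [MulEquiv.orderOf_eq]
      exact orderOf_map_dvd (QuotientGroup.mk' N) g
    have h5 := h g
    have h0 := orderOf_pos g
    rw [hc] at h5 h0 ⊢
    rcases c with _ | _ | c
    · simp at h0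
    · simp
    · exfalso
      have : 3 * 2 ≤ p * (c + 1 + 1) := Nat.mul_le_mul hp3 (by omega)
      omega
  have hsurj : ∀ q : alternatingGroup (Fin 5), ∃ g : G, e (QuotientGroup.mk' N g) = q := fun q => by
    obtain ⟨g, hg⟩ := QuotientGroup.mk'_surjective N (e.symm q)
    exact ⟨g, by rw [hg, e.apply_symm_apply]⟩
  -- an involution above `pa`, from an element of order ten in the normaliser of a group of order five
  obtain ⟨a, haa, hae⟩ : ∃ a : G, a * a = 1 ∧ e (QuotientGroup.mk' N a) = pa := by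
    haveI : Fact (Nat.Prime 5) := ⟨by norm_num⟩
    obtain ⟨s, hs⟩ := hsurj pa
    -- an element of order five inverted by `pa`
    let pc : alternatingGroup (Fin 5) := ⟨Equiv.swap 0 2 * Equiv.swap 2 4 * (Equiv.swap 1 3 * Equiv.swap 3 4), Equiv.Perm.mem_alternatingGroup.2 (by decide)⟩
    have hex : ∃ q : alternatingGroup (Fin 5), orderOf q = 5 ∧ pa * q * pa⁻¹ = q⁻¹ := by
      refine ⟨⟨Equiv.swap 0 1 * Equiv.swap 1 2 * (Equiv.swap 2 4 * Equiv.swap 4 3), Equiv.Perm.mem_alternatingGroup.2 (by decide)⟩, ?_, ?_⟩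
      · exact orderOf_eq_prime (by decide) (by decide)
      · decide
    obtain ⟨q, hq, hqi⟩ := hex
    obtain ⟨g, hg⟩ := hsurj q
    have hgo : orderOf g = 5 := hlift g 5 (by norm_num) (by norm_num) (by rw [hg, hq])
    set Z := zpowers g with hZ
    have hcop : (Nat.card N).Coprime (Nat.card Z) := by
      obtain ⟨n, hn⟩ := IsPGroup.iff_card.1 (isPGroup_of_pe (p := 2) (H := N) fun x hx => by
        rcases eq_or_ne x 1 with rfl | hx1
        · exact ⟨0, by simp⟩
        · exact pe_of_prime (orderOf_eq_prime (by rw [sq]; exact hN2 x hx) hx1))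
      rw [hn, hZ, Nat.card_zpowers, hgo]
      exact Nat.Coprime.pow_left _ (by norm_num)
    have hK : conjMap s Z ≤ N ⊔ Z := by
      rw [hZ, conjMap, MonoidHom.map_zpowers, zpowers_le]
      show s * g * s⁻¹ ∈ N ⊔ zpowers g
      have h1 : s * g * s⁻¹ * g ∈ N := by
        rw [← QuotientGroup.eq_one_iff, ← QuotientGroup.mk'_apply]
        refine e.injective ?_
        rw [map_mul, map_mul, map_mul, map_inv, map_mul, map_mul, map_mul, map_inv, hs, hg, hqi, inv_mul_cancel, map_one]
      have h3 := mul_mem (mem_sup_left (T := zpowers g) h1) (mem_sup_right (S := N) (inv_mem (mem_zpowers g)))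
      rwa [mul_inv_cancel_right] at h3
    obtain ⟨k, hk, hkK⟩ := exists_conj_eq_of_coprime (N := N) (H := Z) (K := conjMap s Z)
      le_normalizer_of_normal hcop (Or.inr inferInstance) hK (card_conjMap _ _)
    set t := k⁻¹ * s with ht
    have hte : e (QuotientGroup.mk' N t) = pa := by
      have h1 : QuotientGroup.mk' N k = 1 := (QuotientGroup.eq_one_iff k).2 hk
      rw [ht, map_mul, map_inv, h1, inv_one, one_mul, hs]
    refine ⟨t, ?_, hte⟩
    have htn : t ∈ normalizer (Z : Set G) := by
      rw [← conjMap_eq_self_iff, ht, ← conjMap_mul, hkK, conjMap_inv_conjMap]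
    by_contra hne
    have htN : t * t ∈ N := by
      rw [← QuotientGroup.eq_one_iff, ← QuotientGroup.mk'_apply]
      refine e.injective ?_
      rw [map_mul, map_mul, hte, map_one]
      exact Subtype.ext (by decide)
    have hnor : t * t ∈ normalizer (Z : Set G) := mul_mem htn htn
    have hc : Commute (t * t) g := by
      have h1 : (t * t) * g * (t * t)⁻¹ * g⁻¹ ∈ N ⊓ Z := by
        refine Subgroup.mem_inf.2 ⟨?_, mul_mem ((mem_normalizer_iff.1 hnor g).1 (mem_zpowers g)) (inv_mem (mem_zpowers g))⟩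
        have h2 := mul_mem htN (Subgroup.Normal.conj_mem inferInstance _ (inv_mem htN) g)
        simpa [mul_assoc] using h2
      rw [Cfsg.Lib.Coprime.inf_eq_bot_of_coprime hcop, mem_bot] at h1
      exact mul_inv_eq_iff_eq_mul.1 (mul_inv_eq_one.1 h1)
    exact not_commute_pe h Nat.prime_two (by norm_num : Nat.Prime 5) (by norm_num)
      (pe_of_prime (orderOf_eq_prime (by rw [sq]; exact hN2 _ htN) hne)) hne (pe_of_prime hgo)
      (fun e' => by rw [e', orderOf_one] at hgo; omega) hc
  obtain ⟨b, hbe⟩ := hsurj pb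
  have hbo : orderOf b = 3 := hlift b 3 Nat.prime_three le_rfl (by rw [hbe, hpb])
  have hyo : orderOf (a * b) = 5 := hlift _ 5 (by norm_num) (by norm_num) (by rw [map_mul, map_mul, hae, hbe, hpab])
  -- the complement
  set C := Subgroup.closure ({a, b} : Set G) with hC
  have haC : a ∈ C := subset_closure (Set.mem_insert _ _)
  have hbC : b ∈ C := subset_closure (Set.mem_insert_of_mem _ rfl)
  have hCle : Nat.card C ≤ 60 := by
    obtain ⟨hfin, hle⟩ := Cfsg.Lib.Presentations.icosa_card
    let f : Fin 2 → G := ![b, b⁻¹ * a]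
    have hrel : ∀ r ∈ Cfsg.Lib.Presentations.icosaRels, FreeGroup.lift f r = 1 := by
      intro r hr
      simp only [Cfsg.Lib.Presentations.icosaRels, Set.mem_insert_iff, Set.mem_singleton_iff] at hr
      rcases hr with rfl | rfl | rfl
      · simp only [map_pow, FreeGroup.lift_apply_of, f, Matrix.cons_val_zero]
        rw [← hbo, pow_orderOf_eq_one]
      · simp only [map_pow, FreeGroup.lift_apply_of, f, Matrix.cons_val_one, Matrix.cons_val_zero]
        have h1 : b⁻¹ * a = (a * b)⁻¹ := by rw [mul_inv_rev, inv_eq_of_mul_eq_one_right haa]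
        rw [h1, inv_pow, ← hyo, pow_orderOf_eq_one, inv_one]
      · simp only [map_pow, map_mul, FreeGroup.lift_apply_of, f, Matrix.cons_val_one, Matrix.cons_val_zero]
        rw [mul_inv_cancel_left, sq, haa]
    let φ := PresentedGroup.toGroup hrel
    have hC' : C ≤ φ.range := by
      rw [hC, closure_le]
      intro x hx
      have hb' : b ∈ φ.range := ⟨PresentedGroup.of 0, by simp [φ, f]⟩
      have hba : b⁻¹ * a ∈ φ.range := ⟨PresentedGroup.of 1, by simp [φ, f]⟩
      rcases hx with rfl | rfl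
      · have := mul_mem hb' hba
        rwa [mul_inv_cancel_left] at this
      · exact hb'
    haveI := hfin
    exact (Nat.le_of_dvd Nat.card_pos (card_dvd_of_le hC')).trans
      ((Nat.card_le_card_of_surjective _ φ.rangeRestrict_surjective).trans hle)
  have himg : C.map (e.toMonoidHom.comp (QuotientGroup.mk' N)) = ⊤ := by
    set I := C.map (e.toMonoidHom.comp (QuotientGroup.mk' N)) with hI
    have ha' : pa ∈ I := ⟨a, haC, hae⟩
    have hb' : pb ∈ I := ⟨b, hbC, hbe⟩
    have h30 : 30 ∣ Nat.card I := by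
      have d2 : 2 ∣ Nat.card I := hpa ▸ Subgroup.orderOf_dvd_natCard I ha'
      have d3 : 3 ∣ Nat.card I := hpb ▸ Subgroup.orderOf_dvd_natCard I hb'
      have d5 : 5 ∣ Nat.card I := by
        have := Subgroup.orderOf_dvd_natCard I (mul_mem ha' hb')
        rwa [hpab] at this
      have d6 : 6 ∣ Nat.card I := Nat.Coprime.mul_dvd_of_dvd_of_dvd (by norm_num : Nat.Coprime 2 3) d2 d3
      exact Nat.Coprime.mul_dvd_of_dvd_of_dvd (by norm_num : Nat.Coprime 6 5) d6 d5
    rw [← index_eq_one]
    have hmul := I.card_mul_index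
    rw [hA5] at hmul
    obtain ⟨c, hc⟩ := h30
    rw [hc] at hmul
    have hc2 : c * I.index = 2 := by linarith
    by_contra hne
    have h2 : I.index = 2 := ((Nat.dvd_prime Nat.prime_two).1 (Dvd.intro_left c hc2)).resolve_left hne
    haveI := normal_of_index_eq_two h2
    haveI : IsSimpleGroup (alternatingGroup (Fin 5)) := alternatingGroup.isSimpleGroup (by simp)
    rcases (inferInstance : I.Normal).eq_bot_or_eq_top with e1 | e1
    · rw [e1, index_bot, hA5] at h2; omega
    · rw [e1, index_top] at h2; omega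
  have hidxN : Nat.card (G ⧸ N) = 60 := by rw [Nat.card_congr e.toEquiv, hA5]
  let π : C →* alternatingGroup (Fin 5) := (e.toMonoidHom.comp (QuotientGroup.mk' N)).comp C.subtype
  have hπsurj : Function.Surjective π := fun q => by
    obtain ⟨c, hc, hcq⟩ : q ∈ C.map (e.toMonoidHom.comp (QuotientGroup.mk' N)) := by rw [himg]; trivial
    exact ⟨⟨c, hc⟩, hcq⟩
  have hπ : Function.Bijective π := by
    refine (Nat.bijective_iff_surjective_and_card π).2 ⟨hπsurj, le_antisymm ?_ (Nat.card_le_card_of_surjective π hπsurj)⟩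
    rw [hA5]; exact hCle
  have hCN : ∀ x ∈ C, x ∈ N → x = 1 := by
    intro x hx hxN
    have h1 : π ⟨x, hx⟩ = π 1 := by
      show e (QuotientGroup.mk' N x) = π 1
      rw [show QuotientGroup.mk' N x = 1 from (QuotientGroup.eq_one_iff x).2 hxN, map_one, map_one]
    exact congrArg Subtype.val (hπ.1 h1)
  have hdec : ∀ g : G, ∃ n ∈ N, ∃ c ∈ C, g = n * c := by
    intro g
    obtain ⟨⟨c, hc⟩, hcg⟩ := hπsurj (e (QuotientGroup.mk' N g))
    refine ⟨g * c⁻¹, ?_, c, hc, by group⟩
    rw [← QuotientGroup.eq_one_iff, ← QuotientGroup.mk'_apply, map_mul, map_inv, mul_inv_eq_one]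
    exact (e.injective hcg).symm
  -- the ring relations
  set V := Additive N
  set A := conjAdd N a with hA
  set B := conjAdd N b with hB
  have hV2 : ∀ x : V, x + x = 0 := fun x =>
    Additive.toMul.injective (Subtype.ext (hN2 _ (Additive.toMul x).2))
  have hE2 : ∀ f : AddMonoid.End V, f + f = 0 := fun f => AddMonoidHom.ext fun x => hV2 (f x)
  have hAA : A * A = 1 := by rw [hA, ← conjAdd_mul, haa, conjAdd_one]
  have hnofix : ∀ (g : G) (p : ℕ), p.Prime → p ≠ 2 → orderOf g = p → ∀ x : V, conjAdd N g x = x → x = 0 := by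
    intro g p hp hp2 hgo x hx
    by_contra hx0
    have h1 : g * (Additive.toMul x : N) * g⁻¹ = (Additive.toMul x : N) := by
      rw [← conjAdd_apply, hx]
    have h2 : ((Additive.toMul x : N) : G) ≠ 1 := fun e1 => hx0 (Additive.toMul.injective (Subtype.ext e1))
    exact not_commute_pe h hp Nat.prime_two hp2 (pe_of_prime hgo)
      (fun e' => by rw [e', orderOf_one] at hgo; exact hp.one_lt.ne hgo)
      (pe_of_prime (orderOf_eq_prime (by rw [sq]; exact hN2 _ (Additive.toMul x).2) h2)) h2
      (mul_inv_eq_iff_eq_mul.1 h1)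
  have hB3 : B * B * B = 1 := by
    rw [hB, ← conjAdd_mul, ← conjAdd_mul, show b * b * b = b ^ 3 by simp only [pow_succ, pow_zero, one_mul],
      ← hbo, pow_orderOf_eq_one, conjAdd_one]
  have hBrel : B * B + B + 1 = 0 := by
    refine AddMonoidHom.ext fun x => ?_
    refine hnofix b 3 Nat.prime_three (by norm_num) hbo _ ?_
    show B ((B * B + B + 1) x) = (B * B + B + 1) x
    rw [← end_mul_apply, mul_add, mul_add, ← mul_assoc, hB3, mul_one]
    congr 1
    abel
  set y := conjAdd N (a * b) with hy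
  have hyAB : y = A * B := conjAdd_mul N a b
  have hy5 : y * y * y * y * y = 1 := by
    rw [hy, ← conjAdd_mul, ← conjAdd_mul, ← conjAdd_mul, ← conjAdd_mul,
      show a * b * (a * b) * (a * b) * (a * b) * (a * b) = (a * b) ^ 5 by
        simp only [pow_succ, pow_zero, one_mul], ← hyo, pow_orderOf_eq_one, conjAdd_one]
  have hyrel : y * y * y * y + y * y * y + y * y + y + 1 = 0 := by
    refine AddMonoidHom.ext fun x => ?_
    refine hnofix (a * b) 5 (by norm_num) (by norm_num) hyo _ ?_
    show y ((y * y * y * y + y * y * y + y * y + y + 1) x) = (y * y * y * y + y * y * y + y * y + y + 1) x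
    rw [← end_mul_apply, mul_add, mul_add, mul_add, mul_add, mul_one, ← mul_assoc, ← mul_assoc,
      ← mul_assoc, hy5]
    congr 1
    abel
  set W := A * B + B * A + A with hW
  have hneg : ∀ f : AddMonoid.End V, -f = f := fun f => neg_eq_of_add_eq_zero_left (hE2 f)
  have hBB : B * B = B + 1 := by
    have h1 : B * B = -(B + 1) := eq_neg_of_add_eq_zero_left (by rw [← add_assoc]; exact hBrel)
    rwa [hneg] at h1
  have hWA : A * W = W * A := by
    have e1 : A * W = B + A * B * A + 1 := by
      rw [hW, mul_add, mul_add, ← mul_assoc A A B, ← mul_assoc A B A, hAA, one_mul]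
    have e2 : W * A = A * B * A + B + 1 := by
      rw [hW, add_mul, add_mul, mul_assoc B A A, hAA, mul_one]
    rw [e1, e2]; abel
  have hWB : B * W = W * B := by
    have e1 : B * W = B * A * B + A := by
      rw [hW, mul_add, mul_add, ← mul_assoc B B A, hBB, add_mul, one_mul, ← mul_assoc B A B]
      have := hE2 (B * A)
      calc B * A * B + (B * A + A) + B * A = B * A * B + A + (B * A + B * A) := by abel
        _ = _ := by rw [this, add_zero]
    have e2 : W * B = B * A * B + A := by
      rw [hW, add_mul, add_mul, mul_assoc A B B, hBB, mul_add, mul_one]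
      have := hE2 (A * B)
      calc A * B + A + B * A * B + A * B = B * A * B + A + (A * B + A * B) := by abel
        _ = _ := by rw [this, add_zero]
    rw [e1, e2]
  have hWW : W * W + W + 1 = 0 := by
    have hy' : y * (B * B * A) = 1 := by
      rw [hyAB, show A * B * (B * B * A) = A * (B * B * B) * A by simp only [mul_assoc], hB3, mul_one, hAA]
    have hy4 : B * B * A = y * y * y * y := by
      calc B * B * A = y * y * y * y * y * (B * B * A) := by rw [hy5, one_mul]
        _ = y * y * y * y * (y * (B * B * A)) := by simp only [mul_assoc]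
        _ = _ := by rw [hy', mul_one]
    have hWy : W = y + y * y * y * y := by
      rw [← hy4, hW, hyAB, hBB, add_mul, one_mul]; abel
    have h5' : ∀ f, y * (y * (y * (y * (y * f)))) = f := fun f => by
      simp only [← mul_assoc, hy5, one_mul]
    have h5'' : y * (y * (y * (y * y))) = 1 := by simp only [← mul_assoc, hy5]
    rw [hWy]
    simp only [mul_add, add_mul, mul_assoc, h5', h5'']
    calc y * y + 1 + (1 + y * (y * y)) + (y + y * (y * (y * y))) + 1
        = (y * y * y * y + y * y * y + y * y + y + 1) + (1 + 1) := by simp only [mul_assoc]; abel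
      _ = 0 := by rw [hyrel, hE2, add_zero]
  -- a fixed vector
  obtain ⟨v, hv0, hAv⟩ : ∃ v : V, v ≠ 0 ∧ A v = v := by
    obtain ⟨x, hx, hx1⟩ := (bot_or_exists_ne_one N).resolve_left hN1
    let x' : V := Additive.ofMul ⟨x, hx⟩
    have hx' : x' ≠ 0 := fun e1 => hx1 (congrArg (fun z : V => ((Additive.toMul z : N) : G)) e1)
    by_cases hsum : x' + A x' = 0
    · refine ⟨x', hx', ?_⟩
      have h1 : A x' = -x' := eq_neg_of_add_eq_zero_right hsum
      rw [h1, neg_eq_of_add_eq_zero_left (hV2 x')]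
    · refine ⟨x' + A x', hsum, ?_⟩
      rw [map_add, ← end_mul_apply, hAA]
      exact add_comm _ _
  -- the field
  letI : Fintype (GaloisField 2 2) := Fintype.ofFinite _
  let F := GaloisField 2 2
  have hF : Fintype.card F = 4 := by
    rw [← Nat.card_eq_fintype_card, GaloisField.card 2 2 (by norm_num)]; rfl
  obtain ⟨w, hw, hF2, hFcases⟩ := exists_omega hF
  have hw0 : w ≠ 0 := fun e1 => by rw [e1] at hw; simp at hw
  have hw1 : w ≠ 1 := fun e1 => by
    rw [e1] at hw
    have := hF2 (1 : F)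
    rw [one_mul, this, zero_add] at hw
    exact one_ne_zero hw
  have hnw : w + 1 ≠ 0 := fun e1 => hw1 (by linear_combination e1 - hF2 (1 : F))
  let i : F → AddMonoid.End V := fun x => if x = 0 then 0 else if x = 1 then 1 else if x = w then W else W + 1
  have hi0 : i 0 = 0 := if_pos rfl
  have hi1 : i 1 = 1 := by simp [i]
  have hiw : i w = W := by simp [i, hw0, hw1]
  have hiw1 : i (w + 1) = W + 1 := by
    have hn2 : w + 1 ≠ 1 := fun e1 => hw0 (by linear_combination e1)
    have hn3 : w + 1 ≠ w := fun e1 => one_ne_zero (α := F) (by linear_combination e1)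
    simp only [i, if_neg hnw, if_neg hn2, if_neg hn3]
  have hWW' : W * W = W + 1 := by
    have h1 : W * W = -(W + 1) := eq_neg_of_add_eq_zero_left (by rw [← add_assoc]; exact hWW)
    rwa [hneg] at h1
  have hiadd : ∀ x z : F, i (x + z) = i x + i z := by
    have a2 : (1 : F) + w = w + 1 := add_comm _ _
    have a3 : w + (w + 1) = 1 := by rw [← add_assoc, hF2, zero_add]
    have a4 : (w + 1) + w = 1 := by rw [add_comm, a3]
    have a5 : (1 : F) + (w + 1) = w := by rw [add_comm, add_assoc, hF2, add_zero]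
    have a6 : (w + 1) + 1 = w := by rw [add_assoc, hF2, add_zero]
    intro x z
    rcases hFcases x with rfl | rfl | rfl | rfl <;> rcases hFcases z with rfl | rfl | rfl | rfl <;>
      simp only [zero_add, add_zero, hF2, a2, a3, a4, a5, a6, hi0, hi1, hiw, hiw1, hE2] <;>
      first
        | rfl
        | exact add_comm _ _
        | (rw [← add_assoc, hE2, zero_add])
        | (rw [add_comm W 1, ← add_assoc, hE2, zero_add])
        | (rw [add_assoc, hE2, add_zero])
        | (rw [add_comm W 1, add_assoc, hE2, add_zero])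
  have himul : ∀ x z : F, i (x * z) = i x * i z := by
    have m1 : w * w = w + 1 := by linear_combination hw - hF2 (w + 1)
    have m2 : w * (w + 1) = 1 := by linear_combination hw - hF2 (1 : F)
    have m3 : (w + 1) * w = 1 := by rw [mul_comm]; exact m2
    have m4 : (w + 1) * (w + 1) = w := by linear_combination hw + hF2 w - hF2 w
    have n2 : W * (W + 1) = 1 := by
      rw [mul_add, mul_one, hWW', add_comm W 1, add_assoc, hE2, add_zero]
    have n3 : (W + 1) * W = 1 := by
      rw [add_mul, one_mul, hWW', add_comm W 1, add_assoc, hE2, add_zero]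
    have n4 : (W + 1) * (W + 1) = W := by
      rw [mul_add, n3, mul_one, add_comm W 1, ← add_assoc, hE2, zero_add]
    intro x z
    rcases hFcases x with rfl | rfl | rfl | rfl <;> rcases hFcases z with rfl | rfl | rfl | rfl <;>
      simp only [zero_mul, mul_zero, one_mul, mul_one, m1, m2, m3, m4, hi0, hi1, hiw, hiw1, hWW', n2, n3, n4]
  have hicomm : ∀ x : F, A * i x = i x * A ∧ B * i x = i x * B := by
    intro x
    rcases hFcases x with rfl | rfl | rfl | rfl <;> simp only [hi0, hi1, hiw, hiw1]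
    · simp
    · simp
    · exact ⟨hWA, hWB⟩
    · exact ⟨by rw [mul_add, add_mul, hWA, mul_one, one_mul], by rw [mul_add, add_mul, hWB, mul_one, one_mul]⟩
  -- the coordinates
  let f : F × F → V := fun p => i p.1 v + i p.2 (B v)
  have hfadd : ∀ p q, f (p + q) = f p + f q := fun p q => by
    simp only [f, Prod.fst_add, Prod.snd_add, hiadd, end_add_apply]
    abel
  have hABv : A (B v) = W v + B v + v := by
    have h1 : W v = A (B v) + B (A v) + A v := rfl
    rw [h1, hAv]
    have h2 := hV2 (B v)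
    have h3 := hV2 v
    calc A (B v) = A (B v) + (B v + B v) + (v + v) := by rw [h2, h3, add_zero, add_zero]
      _ = _ := by abel
  have hBBv : B (B v) = B v + v := congrArg (fun g : AddMonoid.End V => g v) hBB
  have hfA : ∀ p : F × F, A (f p) = f (p.1 + (w + 1) * p.2, p.2) := by
    intro p
    have c1 : ∀ (x : F) (u : V), A (i x u) = i x (A u) := fun x u =>
      congrArg (fun g : AddMonoid.End V => g u) (hicomm x).1
    show A (i p.1 v + i p.2 (B v)) = i (p.1 + (w + 1) * p.2) v + i p.2 (B v)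
    rw [map_add, c1, c1, hAv, hABv, hiadd, mul_comm (w + 1), himul, hiw1]
    simp only [end_add_apply, end_mul_apply, end_one_apply, map_add]
    abel
  have hfB : ∀ p : F × F, B (f p) = f (p.2, p.1 + p.2) := by
    intro p
    have c1 : ∀ (x : F) (u : V), B (i x u) = i x (B u) := fun x u =>
      congrArg (fun g : AddMonoid.End V => g u) (hicomm x).2
    show B (i p.1 v + i p.2 (B v)) = i p.2 v + i (p.1 + p.2) (B v)
    rw [map_add, c1, c1, hBBv, hiadd]
    simp only [end_add_apply, map_add]
    abel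
  have hinv : ∀ x : F, x ≠ 0 → ∀ u, i x u = 0 → u = 0 := fun x hx u hu => by
    have h1 : i (x⁻¹ * x) u = 0 := by rw [himul, end_mul_apply, hu, map_zero]
    rwa [inv_mul_cancel₀ hx, hi1] at h1
  have hfker : ∀ p, f p = 0 → p = 0 := by
    rintro ⟨x, z⟩ hp
    have hp' : i x v + i z (B v) = 0 := hp
    rcases eq_or_ne z 0 with rfl | hz
    · rw [hi0] at hp'
      simp only [end_zero_apply, add_zero] at hp'
      rcases eq_or_ne x 0 with rfl | hx
      · rfl
      · exact absurd (hinv x hx v (by simpa using hp')) hv0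
    · exfalso
      have hBv : B v = i (z⁻¹ * x) v := by
        have h1 : i z (B v) = i x v := by
          rw [eq_neg_of_add_eq_zero_right hp', neg_eq_of_add_eq_zero_left (hV2 _)]
        rw [himul, end_mul_apply, ← h1, ← end_mul_apply, ← himul, inv_mul_cancel₀ hz, hi1]
        rfl
      have hfix : A (B v) = B v := by
        rw [hBv, ← end_mul_apply, (hicomm _).1, end_mul_apply, hAv]
      rw [hABv] at hfix
      refine hv0 (hinv _ hnw v ?_)
      rw [hiw1, end_add_apply]
      show W v + v = 0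
      calc W v + v = (W v + B v + v) + B v := by
            rw [show W v + B v + v + B v = W v + v + (B v + B v) by abel, hV2, add_zero]
        _ = 0 := by rw [hfix, hV2]
  have hfinj : Function.Injective f := fun p q hpq => by
    have : f (p + q) = 0 := by rw [hfadd, hpq, hV2]
    have h1 := hfker _ this
    have h2 : p + q + q = q := by rw [h1, zero_add]
    rwa [add_assoc, show q + q = 0 from Prod.ext (hF2 _) (hF2 _), add_zero] at h2
  -- the actions of the elements of `C`
  let P : G → Prop := fun g => ∃ M : Matrix.SpecialLinearGroup (Fin 2) F, ∀ p : F × F,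
    conjAdd N g (f p) = f ((M : Matrix (Fin 2) (Fin 2) F) 0 0 * p.1 + (M : Matrix (Fin 2) (Fin 2) F) 0 1 * p.2,
      (M : Matrix (Fin 2) (Fin 2) F) 1 0 * p.1 + (M : Matrix (Fin 2) (Fin 2) F) 1 1 * p.2)
  have hPmul : ∀ g g', P g → P g' → P (g * g') := by
    rintro g g' ⟨M, hM⟩ ⟨M', hM'⟩
    refine ⟨M * M', fun p => ?_⟩
    rw [conjAdd_mul, end_mul_apply, hM', hM]
    simp only [Matrix.SpecialLinearGroup.coe_mul, Matrix.mul_apply, Fin.sum_univ_two]
    congr 1
    exact Prod.ext (by ring) (by ring)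
  have hP1 : P 1 := ⟨1, fun p => by
    rw [conjAdd_one]
    show f p = _
    simp⟩
  have hPa : P a := ⟨⟨!![1, w + 1; 0, 1], by simp [Matrix.det_fin_two_of]⟩, fun p => by
    rw [← hA, hfA]; simp⟩
  have hPb : P b := ⟨⟨!![0, 1; 1, 1], by
    rw [Matrix.det_fin_two_of, zero_mul, zero_sub, one_mul]
    exact neg_eq_of_add_eq_zero_left (hF2 1)⟩, fun p => by
    rw [← hB, hfB]; simp⟩
  have hPC : ∀ c ∈ C, P c := by
    intro c hc
    have h1 : c ∈ Submonoid.closure ({a, b} : Set G) := by
      have h2 : C.toSubmonoid = Submonoid.closure ({a, b} : Set G) := by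
        rw [hC]; exact Subgroup.closure_toSubmonoid_of_finite
      rw [← h2]; exact hc
    refine Submonoid.closure_induction ?_ hP1 (fun x z _ _ hx hz => hPmul x z hx hz) h1
    rintro x (rfl | rfl)
    · exact hPa
    · exact hPb
  -- the image of `f` is a normal subgroup
  let U : Subgroup G :=
    { carrier := {g | ∃ p, ((Additive.toMul (f p) : N) : G) = g}
      one_mem' := ⟨0, by
        show ((Additive.toMul (f 0) : N) : G) = 1
        have : f 0 = 0 := by simp [f, hi0]
        rw [this]; rfl⟩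
      mul_mem' := fun {g g'} hg hg' => by
        obtain ⟨p, hp⟩ := hg
        obtain ⟨q, hq⟩ := hg'
        exact ⟨p + q, by rw [hfadd, toMul_add, Subgroup.coe_mul, hp, hq]⟩
      inv_mem' := fun {g} hg => by
        obtain ⟨p, hp⟩ := hg
        exact ⟨p, by rw [inv_eq_of_mul_eq_one_right (hN2 g (hp ▸ (Additive.toMul (f p) : N).2)), hp]⟩ }
  have hUn : U.Normal := ⟨by
    rintro u ⟨p, rfl⟩ g
    obtain ⟨n, hn, c, hc, rfl⟩ := hdec g
    obtain ⟨M, hM⟩ := hPC c hc
    refine ⟨((M : Matrix (Fin 2) (Fin 2) F) 0 0 * p.1 + (M : Matrix (Fin 2) (Fin 2) F) 0 1 * p.2,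
      (M : Matrix (Fin 2) (Fin 2) F) 1 0 * p.1 + (M : Matrix (Fin 2) (Fin 2) F) 1 1 * p.2), ?_⟩
    rw [← hM, conjAdd_apply]
    set x : G := ((Additive.toMul (f p) : N) : G) with hx
    have hxN : c * x * c⁻¹ ∈ N := Subgroup.Normal.conj_mem inferInstance _ (Additive.toMul (f p) : N).2 c
    have hcm : n * (c * x * c⁻¹) = c * x * c⁻¹ * n :=
      congrArg Subtype.val (mul_comm' (⟨n, hn⟩ : N) ⟨_, hxN⟩)
    calc c * x * c⁻¹ = (c * x * c⁻¹ * n) * n⁻¹ := by group
      _ = (n * (c * x * c⁻¹)) * n⁻¹ := by rw [hcm]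
      _ = _ := by group⟩
  have hUN : U = N := by
    refine hmin U hUn ?_ ?_
    · rintro u ⟨p, rfl⟩
      exact (Additive.toMul (f p) : N).2
    · intro e1
      have h1 : ((Additive.toMul (f (1, 0)) : N) : G) ∈ U := ⟨_, rfl⟩
      rw [e1, mem_bot] at h1
      have h2 := hfker _ (Additive.toMul.injective (Subtype.ext h1))
      exact one_ne_zero (congrArg Prod.fst h2)
  have hfsurj : Function.Surjective f := fun x => by
    obtain ⟨p, hp⟩ : ((Additive.toMul x : N) : G) ∈ U := by rw [hUN]; exact (Additive.toMul x : N).2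
    exact ⟨p, Additive.toMul.injective (Subtype.ext hp)⟩
  have hNcard : Nat.card N = 16 := by
    have h1 : Nat.card (F × F) = Nat.card N := Nat.card_congr
      ((Equiv.ofBijective f ⟨hfinj, hfsurj⟩).trans Additive.toMul)
    rw [← h1, Nat.card_prod, Nat.card_eq_fintype_card, hF]
  have hG : Nat.card G = 960 := by
    rw [card_eq_card_quotient_mul_card_subgroup N, hidxN, hNcard]
  -- uniqueness of the matrices
  have huniq : ∀ g : G, ∀ M M' : Matrix.SpecialLinearGroup (Fin 2) F,
      (∀ p : F × F, conjAdd N g (f p) = f ((M : Matrix (Fin 2) (Fin 2) F) 0 0 * p.1 + (M : Matrix (Fin 2) (Fin 2) F) 0 1 * p.2,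
        (M : Matrix (Fin 2) (Fin 2) F) 1 0 * p.1 + (M : Matrix (Fin 2) (Fin 2) F) 1 1 * p.2)) →
      (∀ p : F × F, conjAdd N g (f p) = f ((M' : Matrix (Fin 2) (Fin 2) F) 0 0 * p.1 + (M' : Matrix (Fin 2) (Fin 2) F) 0 1 * p.2,
        (M' : Matrix (Fin 2) (Fin 2) F) 1 0 * p.1 + (M' : Matrix (Fin 2) (Fin 2) F) 1 1 * p.2)) → M = M' := by
    intro g M M' hM hM'
    have h10 := hfinj ((hM (1, 0)).symm.trans (hM' (1, 0)))
    have h01 := hfinj ((hM (0, 1)).symm.trans (hM' (0, 1)))
    simp only [mul_one, mul_zero, add_zero, zero_add, Prod.mk.injEq] at h10 h01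
    refine Subtype.ext ?_
    ext r s
    fin_cases r <;> fin_cases s
    · exact h10.1
    · exact h01.1
    · exact h10.2
    · exact h01.2
  choose Ψ hΨ using fun c : C => hPC c c.2
  have hΨmul : ∀ c d : C, Ψ (c * d) = Ψ c * Ψ d := fun c d => huniq _ _ _ (hΨ (c * d)) fun p => by
    rw [Subgroup.coe_mul, conjAdd_mul, end_mul_apply, hΨ d, hΨ c]
    simp only [Matrix.SpecialLinearGroup.coe_mul, Matrix.mul_apply, Fin.sum_univ_two]
    congr 1
    exact Prod.ext (by ring) (by ring)
  choose nn hnn cc hcc hg using hdec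
  let co : G → F × F := fun g => (Equiv.ofBijective f ⟨hfinj, hfsurj⟩).symm (Additive.ofMul ⟨nn g, hnn g⟩)
  have hco : ∀ g, f (co g) = Additive.ofMul ⟨nn g, hnn g⟩ := fun g =>
    (Equiv.ofBijective f ⟨hfinj, hfsurj⟩).apply_symm_apply _
  let blk : (F × F) → Matrix.SpecialLinearGroup (Fin 2) F → Matrix.SpecialLinearGroup (Fin 3) F := fun p M =>
    ⟨!![(M : Matrix (Fin 2) (Fin 2) F) 0 0, (M : Matrix (Fin 2) (Fin 2) F) 0 1, p.1;
        (M : Matrix (Fin 2) (Fin 2) F) 1 0, (M : Matrix (Fin 2) (Fin 2) F) 1 1, p.2; 0, 0, 1], by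
      have h1 := M.2
      rw [Matrix.det_fin_two] at h1
      rw [Matrix.det_fin_three]
      simp [h1]⟩
  have hblk : ∀ p q M M', blk p M * blk q M' = blk
      ((M : Matrix (Fin 2) (Fin 2) F) 0 0 * q.1 + (M : Matrix (Fin 2) (Fin 2) F) 0 1 * q.2 + p.1,
       (M : Matrix (Fin 2) (Fin 2) F) 1 0 * q.1 + (M : Matrix (Fin 2) (Fin 2) F) 1 1 * q.2 + p.2) (M * M') := by
    intro p q M M'
    refine Subtype.ext ?_
    show (blk p M).1 * (blk q M').1 = _
    ext r s
    fin_cases r <;> fin_cases s <;>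
      simp [blk, Matrix.SpecialLinearGroup.coe_mul, Matrix.mul_apply, Fin.sum_univ_three, Fin.sum_univ_two]
  let Φ : G → Matrix.SpecialLinearGroup (Fin 3) F := fun g => blk (co g) (Ψ ⟨cc g, hcc g⟩)
  have hΦ : ∀ g g', Φ (g * g') = Φ g * Φ g' := by
    intro g g'
    set c : G := cc g with hc
    have e1 : g * g' = nn g * (c * nn g' * c⁻¹) * (c * cc g') := by
      conv_lhs => rw [hg g, hg g']
      simp only [hc]
      group
    have hx : c * nn g' * c⁻¹ ∈ N := Subgroup.Normal.conj_mem inferInstance _ (hnn g') c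
    have hn' : nn g * (c * nn g' * c⁻¹) ∈ N := mul_mem (hnn g) hx
    have hc' : c * cc g' ∈ C := mul_mem (hcc g) (hcc g')
    have h2 : (nn g * (c * nn g' * c⁻¹))⁻¹ * nn (g * g') = (c * cc g') * (cc (g * g'))⁻¹ := by
      rw [eq_mul_inv_iff_mul_eq, mul_assoc, ← hg (g * g'), inv_mul_eq_iff_eq_mul]
      exact e1
    have h3 : (c * cc g') * (cc (g * g'))⁻¹ = 1 :=
      hCN _ (mul_mem hc' (inv_mem (hcc _))) (h2 ▸ mul_mem (inv_mem hn') (hnn _))
    have hceq : (⟨cc (g * g'), hcc _⟩ : C) = ⟨c, hcc g⟩ * ⟨cc g', hcc g'⟩ :=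
      Subtype.ext (mul_inv_eq_one.1 h3).symm
    have hneq : nn (g * g') = nn g * (c * nn g' * c⁻¹) := by
      rw [h3, inv_mul_eq_one] at h2
      exact h2.symm
    show blk _ _ = blk _ _ * blk _ _
    rw [hblk, hceq, hΨmul]
    congr 1
    refine hfinj ?_
    have hm := hΨ ⟨c, hcc g⟩ (co g')
    rw [hco] at hm
    refine (hco (g * g')).trans ?_
    have hnew : f (co g) + conjAdd N c (Additive.ofMul ⟨nn g', hnn g'⟩) = Additive.ofMul ⟨nn (g * g'), hnn _⟩ := by
      rw [hco]
      exact Additive.toMul.injective (Subtype.ext hneq.symm)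
    rw [← hnew, hm, ← hfadd]
    exact congrArg f (Prod.ext (add_comm _ _) (add_comm _ _))
  let Φh : G →* Matrix.SpecialLinearGroup (Fin 3) F := MonoidHom.mk' Φ hΦ
  have hrange : Φh.range ≤ Subgroup.closure (affineSet F) := by
    rintro _ ⟨g, rfl⟩
    refine subset_closure ⟨?_, ?_, ?_⟩ <;> show (blk _ _).1 _ _ = _ <;> simp [blk]
  have hinjΦ : Function.Injective Φh := by
    rw [injective_iff_map_eq_one]
    intro g hg1
    have hm : ((Φ g : Matrix.SpecialLinearGroup (Fin 3) F) : Matrix (Fin 3) (Fin 3) F) = 1 :=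
      congrArg Subtype.val hg1
    have q : ∀ r s, ((Φ g : Matrix.SpecialLinearGroup (Fin 3) F) : Matrix (Fin 3) (Fin 3) F) r s =
        (1 : Matrix (Fin 3) (Fin 3) F) r s := fun r s => by rw [hm]
    have q02 := q 0 2
    have q12 := q 1 2
    have q00 := q 0 0
    have q01 := q 0 1
    have q10 := q 1 0
    have q11 := q 1 1
    simp [Φ, blk] at q02 q12 q00 q01 q10 q11
    have hco0 : co g = 0 := Prod.ext q02 q12
    have hn1' : nn g = 1 := by
      have h1 := hco g
      rw [hco0] at h1
      have h2 : f 0 = 0 := by simp [f, hi0]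
      rw [h2] at h1
      exact (congrArg (fun z : V => ((Additive.toMul z : N) : G)) h1).symm
    have hM1 : Ψ ⟨cc g, hcc g⟩ = 1 := by
      refine Subtype.ext ?_
      ext r s
      fin_cases r <;> fin_cases s <;> simp [q00, q01, q10, q11]
    have hcen : ∀ x ∈ N, cc g * x * (cc g)⁻¹ = x := by
      intro x hx
      obtain ⟨p, hp⟩ := hfsurj (Additive.ofMul (⟨x, hx⟩ : N))
      have h1 := hΨ ⟨cc g, hcc g⟩ p
      rw [hM1] at h1
      simp at h1
      rw [hp] at h1
      exact congrArg (fun z : V => ((Additive.toMul z : N) : G)) h1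
    obtain ⟨x, hx, hx1⟩ := (bot_or_exists_ne_one N).resolve_left hN1
    have hpe : PE 2 x := pe_of_prime (orderOf_eq_prime (by rw [sq]; exact hN2 x hx) hx1)
    obtain ⟨j, hj⟩ := pe_of_commute h Nat.prime_two hpe hx1
      (show Commute x (cc g) from (mul_inv_eq_iff_eq_mul.1 (hcen x hx)).symm)
    have h2C : ∀ z ∈ C, (∀ x ∈ N, z * x * z⁻¹ = x) → z = 1 := by
      intro z hz hzc
      let K : Subgroup G := C ⊓ centralizer (N : Set G)
      let K' : Subgroup (alternatingGroup (Fin 5)) := K.map (e.toMonoidHom.comp (QuotientGroup.mk' N))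
      have hK'n : K'.Normal := ⟨fun q hq r => by
        obtain ⟨k, hk, rfl⟩ := hq
        obtain ⟨⟨d, hd⟩, hdr⟩ := hπsurj r
        refine ⟨d * k * d⁻¹, Subgroup.mem_inf.2 ⟨mul_mem (mul_mem hd (Subgroup.mem_inf.1 hk).1) (inv_mem hd), mem_centralizer_iff.2 fun m hm' => ?_⟩, ?_⟩
        · have h1 := mem_centralizer_iff.1 (Subgroup.mem_inf.1 hk).2 _ ((inferInstance : N.Normal).conj_mem m hm' d⁻¹)
          calc m * (d * k * d⁻¹) = d * ((d⁻¹ * m * d⁻¹⁻¹) * k) * d⁻¹ := by group
            _ = d * (k * (d⁻¹ * m * d⁻¹⁻¹)) * d⁻¹ := by rw [h1]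
            _ = _ := by group
        · rw [map_mul, map_mul, map_inv]
          have : (e.toMonoidHom.comp (QuotientGroup.mk' N)) d = r := hdr
          rw [this]⟩
      haveI : IsSimpleGroup (alternatingGroup (Fin 5)) := alternatingGroup.isSimpleGroup (by simp)
      have hzK : z ∈ K := ⟨hz, mem_centralizer_iff.2 fun m hm' => (mul_inv_eq_iff_eq_mul.1 (hzc m hm')).symm⟩
      rcases hK'n.eq_bot_or_eq_top with e1 | e1
      · have h1 : e (QuotientGroup.mk' N z) ∈ K' := ⟨z, hzK, rfl⟩
        rw [e1, mem_bot] at h1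
        exact congrArg Subtype.val (hπ.1 (a₁ := ⟨z, hz⟩) (a₂ := 1) (by rw [map_one]; exact h1))
      · exfalso
        obtain ⟨k, hk, hkb⟩ : pb ∈ K' := by rw [e1]; trivial
        have hk3 : orderOf k = 3 := hlift k 3 Nat.prime_three le_rfl (by
          have : e (QuotientGroup.mk' N k) = pb := hkb
          rw [this, hpb])
        exact not_commute_pe h Nat.prime_two Nat.prime_three (by norm_num) hpe hx1 (pe_of_prime hk3)
          (fun e' => by rw [e', orderOf_one] at hk3; omega) (mem_centralizer_iff.1 hk.2 x hx)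
    rw [hg g, hn1', one_mul]
    exact h2C _ (hcc g) hcen
  have heq : Φh.range = Subgroup.closure (affineSet F) := by
    refine eq_of_le_of_card_ge hrange ?_
    rw [← Nat.card_congr (MonoidHom.ofInjective hinjΦ).toEquiv, hG]
    exact card_affine_le hF
  exact ⟨F, inferInstance, inferInstance, hF, ⟨(MonoidHom.ofInjective hinjΦ).trans (MulEquiv.subgroupCongr heq)⟩⟩

set_option maxRecDepth 8000 in
theorem critical_five (hr : Set.range (orderOf : G → ℕ) = ({1, 2, 3, 4, 5} : Set ℕ))
    (hsec : ∀ (H : Subgroup G) (N : Subgroup ↥H) [N.Normal], (H ≠ ⊤ ∨ N ≠ ⊥) →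
      Set.range (orderOf : (↥H ⧸ N) → ℕ) ≠ ({1, 2, 3, 4, 5} : Set ℕ)) :
    Nonempty (G ≃* alternatingGroup (Fin 6)) ∨
      ∃ (F : Type) (_ : Field F) (_ : Fintype F), Fintype.card F = 4 ∧
        Nonempty (G ≃* (Subgroup.closure (affineSet F) : Subgroup _)) := by
  classical
  haveI : Fact (Nat.Prime 2) := ⟨Nat.prime_two⟩
  have hr' : Set.range (orderOf : G → ℕ) = {k : ℕ | 1 ≤ k ∧ k ≤ 5} := by
    rw [hr]; ext k; simp only [Set.mem_insert_iff, Set.mem_singleton_iff, Set.mem_ofPred_eq]; omega
  rcases structure_five hr' with h6 | ⟨N, hN, ⟨hc, hsq⟩, ⟨e⟩⟩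
  · exact Or.inl h6
  haveI := hN
  haveI := hc
  have hl : Le5 G := fun g => by
    have h1 : orderOf g ∈ Set.range (orderOf : G → ℕ) := ⟨g, rfl⟩
    rw [hr'] at h1
    exact h1.2
  have hN2 : ∀ x ∈ N, x * x = 1 := fun x hx => by rw [← sq]; exact hsq x hx
  have hA5 : Nat.card (G ⧸ N) = 60 := by
    rw [Nat.card_congr e.toEquiv, nat_card_alternatingGroup, Nat.card_fin]; rfl
  -- an element of order four above an involution
  have hno4 : ∀ q : alternatingGroup (Fin 5), orderOf q ≠ 4 := by
    intro q hq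
    have h1 : ∀ p : alternatingGroup (Fin 5), p * p * (p * p) = 1 → p * p = 1 := by decide
    have h2 := h1 q (by rw [← sq, ← sq, ← pow_mul, show 2 * 2 = 4 by rfl, ← hq, pow_orderOf_eq_one])
    have h3 : orderOf q ∣ 2 := orderOf_dvd_of_pow_eq_one (by rw [sq]; exact h2)
    rw [hq] at h3; norm_num at h3
  have hN1 : N ≠ ⊥ := by
    intro e1
    obtain ⟨g, hg⟩ : (4 : ℕ) ∈ Set.range (orderOf : G → ℕ) := by rw [hr]; simp
    refine hno4 (e (QuotientGroup.mk' N g)) ?_
    rw [MulEquiv.orderOf_eq, orderOf_injective (QuotientGroup.mk' N) ?_ g, hg]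
    rw [← MonoidHom.ker_eq_bot_iff, QuotientGroup.ker_mk', e1]
  refine Or.inr (iso_affine hl N hN2 hN1 (fun V hV hVN hV1 => ?_) e)
  by_contra hne
  haveI := hV
  set Q := G ⧸ V with hQ
  have hlQ : Le5 Q := hl.quot V
  set mk := QuotientGroup.mk' V with hmk
  set N' := N.map mk with hN'
  have hN'1 : N' ≠ ⊥ := by
    intro e1
    rw [hN', Subgroup.map_eq_bot_iff, hmk, QuotientGroup.ker_mk'] at e1
    exact hne (le_antisymm hVN e1)
  have hV2 : IsPGroup 2 V := isPGroup_of_pe fun x hx => by
    rcases eq_or_ne x 1 with rfl | hx1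
    · exact ⟨0, by simp⟩
    · exact pe_of_prime (orderOf_eq_prime (by rw [sq]; exact hN2 x (hVN hx)) hx1)
  -- odd orders survive
  have hodd : ∀ p : ℕ, p.Prime → p ≠ 2 → ∀ g : G, orderOf g = p → orderOf (mk g) = p := by
    intro p hp hp2 g hg
    rcases (Nat.dvd_prime hp).1 (hg ▸ orderOf_map_dvd mk g) with h1 | h1
    · exfalso
      have hgV : g ∈ V := (QuotientGroup.eq_one_iff g).1 (orderOf_eq_one_iff.1 h1)
      obtain ⟨j, hj⟩ := pe_of_mem hV2 hgV
      rw [hg] at hj
      exact hp2 ((Nat.prime_dvd_prime_iff_eq hp Nat.prime_two).1 (hp.dvd_of_dvd_pow (n := j) (by rw [← hj])))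
    · exact h1
  obtain ⟨g3, hg3⟩ : (3 : ℕ) ∈ Set.range (orderOf : G → ℕ) := by rw [hr]; simp
  obtain ⟨g5, hg5⟩ : (5 : ℕ) ∈ Set.range (orderOf : G → ℕ) := by rw [hr]; simp
  -- an element of order four in the quotient
  obtain ⟨g4, hg4⟩ : ∃ q : Q, orderOf q = 4 := by
    by_contra hall
    push Not at hall
    have hinv : ∀ q : Q, PE 2 q → q * q = 1 := by
      intro q ⟨k, hk⟩
      have h5 := hlQ q
      rw [hk] at h5
      rcases k with _ | _ | _ | k
      · rw [pow_zero, orderOf_eq_one_iff] at hk; rw [hk, one_mul]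
      · rw [← sq, ← pow_orderOf_eq_one q, hk]; rfl
      · exact absurd hk (hall q)
      · have : 2 ^ 3 ≤ 2 ^ (k + 1 + 1 + 1) := Nat.pow_le_pow_right (by norm_num) (by omega)
        omega
    -- a Sylow 2-subgroup of the quotient centralises `N'`
    obtain ⟨w, hw⟩ := exists_prime_orderOf_dvd_card' (G := G ⧸ N) 2 (by rw [hA5]; norm_num)
    obtain ⟨g, hg⟩ := QuotientGroup.mk'_surjective N w
    have hgp : PE 2 g := by
      by_contra hnot
      obtain ⟨r, hr1, hrd, hr2⟩ : ∃ r, r.Prime ∧ r ∣ orderOf g ∧ r ≠ 2 := by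
        by_contra hh
        push Not at hh
        exact hnot ⟨_, Nat.eq_prime_pow_of_unique_prime_dvd (orderOf_pos g).ne' fun {r} h1 h2 => hh r h1 h2⟩
      have h2d : 2 ∣ orderOf g := by rw [← hw, ← hg]; exact orderOf_map_dvd _ g
      exact not_commute hl (Commute.refl g) Nat.prime_two hr1 hr2.symm h2d hrd
    obtain ⟨j, hj⟩ := hgp
    have hcom : ∀ x ∈ N, Commute (mk g) (mk x) := by
      intro x hx
      have p1 : IsPGroup 2 (N ⊔ zpowers g : Subgroup G) := IsPGroup.to_sup_of_normal_left
        (isPGroup_of_pe fun y hy => by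
          rcases eq_or_ne y 1 with rfl | hy1
          · exact ⟨0, by simp⟩
          · exact pe_of_prime (orderOf_eq_prime (by rw [sq]; exact hN2 y hy) hy1))
        (IsPGroup.of_card (n := j) (by rw [Nat.card_zpowers, hj]))
      have q1 := hinv (mk (g * x)) (pe_of_mem (p1.map mk)
        ⟨_, mul_mem (mem_sup_right (mem_zpowers g)) (mem_sup_left hx), rfl⟩)
      have q2 := hinv (mk g) (pe_of_mem (p1.map mk) ⟨_, mem_sup_right (mem_zpowers g), rfl⟩)
      have q3 : mk x * mk x = 1 := by rw [← map_mul, hN2 x hx, map_one]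
      rw [map_mul] at q1
      show mk g * mk x = mk x * mk g
      calc mk g * mk x = (mk g * mk x)⁻¹ := (inv_eq_of_mul_eq_one_right q1).symm
        _ = _ := by rw [mul_inv_rev, inv_eq_of_mul_eq_one_right q2, inv_eq_of_mul_eq_one_right q3]
    -- the centraliser of `N'` is everything, in particular an element of order three
    have hcentop : N ≤ (centralizer (N' : Set Q)).comap mk := fun x hx => mem_comap.2
      (mem_centralizer_iff.2 fun y hy => by
        obtain ⟨y', hy', rfl⟩ := hy
        rw [← map_mul, ← map_mul]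
        exact congrArg mk (congrArg Subtype.val (mul_comm' (⟨y', hy'⟩ : N) ⟨x, hx⟩)))
    haveI hN'n : N'.Normal := hN.map _ (QuotientGroup.mk'_surjective V)
    set K := ((centralizer (N' : Set Q)).comap mk).map (e.toMonoidHom.comp (QuotientGroup.mk' N)) with hK
    haveI : ((centralizer (N' : Set Q)).comap mk).Normal := Subgroup.Normal.comap inferInstance _
    have hKn : K.Normal := (inferInstance : ((centralizer (N' : Set Q)).comap mk).Normal).map _
      (e.surjective.comp (QuotientGroup.mk'_surjective N))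
    haveI : IsSimpleGroup (alternatingGroup (Fin 5)) := alternatingGroup.isSimpleGroup (by simp)
    have hgK : e (QuotientGroup.mk' N g) ∈ K := ⟨g, mem_comap.2 (mem_centralizer_iff.2 fun y hy => by
      obtain ⟨y', hy', rfl⟩ := hy
      exact (hcom y' hy').eq.symm), rfl⟩
    rcases hKn.eq_bot_or_eq_top with e1 | e1
    · rw [e1, mem_bot, map_eq_one_iff _ e.injective, hg] at hgK
      rw [hgK, orderOf_one] at hw; omega
    · obtain ⟨c, hc1, hc2⟩ : e (QuotientGroup.mk' N g3) ∈ K := by rw [e1]; trivial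
      have hc3 : c⁻¹ * g3 ∈ N := QuotientGroup.eq.1 (e.injective hc2)
      have hg3C : g3 ∈ (centralizer (N' : Set Q)).comap mk := by
        have := mul_mem hc1 (hcentop hc3)
        rwa [mul_inv_cancel_left] at this
      obtain ⟨y, hy, hy1⟩ := (bot_or_exists_ne_one N').resolve_left hN'1
      have hy2 : orderOf y = 2 := by
        obtain ⟨y', hy', rfl⟩ := hy
        exact orderOf_eq_prime (by rw [sq, ← map_mul, hN2 y' hy', map_one]) hy1
      exact not_commute_pe hlQ Nat.prime_two Nat.prime_three (by norm_num) (pe_of_prime hy2) hy1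
        (pe_of_prime (hodd 3 Nat.prime_three (by norm_num) g3 hg3))
        (fun e' => by
          have := hodd 3 Nat.prime_three (by norm_num) g3 hg3
          rw [e', orderOf_one] at this; omega)
        (mem_centralizer_iff.1 (mem_comap.1 hg3C) y hy)
  -- all five orders occur in the section
  refine hsec ⊤ (V.subgroupOf ⊤) (Or.inr ?_) ?_
  · rw [Ne, subgroupOf_eq_bot, disjoint_iff, inf_top_eq]; exact hV1
  let ψ : ((⊤ : Subgroup G) ⧸ V.subgroupOf ⊤) ≃* Q :=
    QuotientGroup.congr _ _ topEquiv (by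
      ext x
      constructor
      · rintro ⟨y, hy, rfl⟩; exact hy
      · intro hx; exact ⟨⟨x, trivial⟩, hx, rfl⟩)
  ext k
  simp only [Set.mem_range, Set.mem_insert_iff, Set.mem_singleton_iff]
  constructor
  · rintro ⟨q, rfl⟩
    have h1 := hlQ (ψ q)
    rw [MulEquiv.orderOf_eq] at h1
    have := orderOf_pos q
    omega
  · have hback : ∀ q : Q, ∃ q', orderOf q' = orderOf q := fun q => ⟨ψ.symm q, MulEquiv.orderOf_eq ψ.symm q⟩
    rintro (rfl | rfl | rfl | rfl | rfl)
    · exact ⟨1, orderOf_one⟩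
    · obtain ⟨q', hq'⟩ := hback (g4 ^ 2)
      exact ⟨q', by rw [hq', orderOf_pow' _ (by norm_num), hg4]; norm_num⟩
    · obtain ⟨q', hq'⟩ := hback (mk g3)
      exact ⟨q', by rw [hq', hodd 3 Nat.prime_three (by norm_num) g3 hg3]⟩
    · obtain ⟨q', hq'⟩ := hback g4
      exact ⟨q', hq'.trans hg4⟩
    · obtain ⟨q', hq'⟩ := hback (mk g5)
      exact ⟨q', by rw [hq', hodd 5 (by norm_num) (by norm_num) g5 hg5]⟩

end Cfsg.Lib.SpecFive
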