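import Mathlib
import Cfsg.Agent.Coprime.Generation
import Cfsg.Agent.Coprime.Sylow

/-!
Groups in which every element has order at most five: elementary consequences.
-/

set_option autoImplicit false
set_option linter.unusedSectionVars false

namespace Cfsg.Lib.SpecFive

open Subgroup Cfsg.Lib.Coprime

universe u

variable {G : Type u} [Group G]

/-- All element orders are at most five. -/
def Le5 (G : Type u) [Group G] : Prop := ∀ g : G, orderOf g ≤ 5

/-- An element of `p`-power order. -/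
def PE (p : ℕ) (g : G) : Prop := ∃ k, orderOf g = p ^ k

theorem Le5.subgroup (h : Le5 G) (H : Subgroup G) : Le5 H := fun x => by
  rw [← Subgroup.orderOf_coe]; exact h x

theorem Le5.quot [Finite G] (h : Le5 G) (N : Subgroup G) [N.Normal] : Le5 (G ⧸ N) := fun x => by
  induction x using QuotientGroup.induction_on with | _ g => ?_
  exact (Nat.le_of_dvd (orderOf_pos g) (orderOf_map_dvd (QuotientGroup.mk' N) g)).trans (h g)

theorem Le5.of_equiv (h : Le5 G) {H : Type u} [Group H] (e : G ≃* H) : Le5 H := fun x => by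
  obtain ⟨g, rfl⟩ := e.surjective x
  rw [MulEquiv.orderOf_eq]; exact h g

theorem primes [Finite G] (h : Le5 G) {p : ℕ} (hp : p.Prime) (hd : p ∣ Nat.card G) :
    p = 2 ∨ p = 3 ∨ p = 5 := by
  haveI := Fact.mk hp
  obtain ⟨g, hg⟩ := exists_prime_orderOf_dvd_card' (G := G) p hd
  have := h g
  rw [hg] at this
  have := hp.two_le
  interval_cases p <;> first | omega | exact absurd hp (by norm_num)

theorem odd_prime {p : ℕ} (hp : p.Prime) (h2 : p ≠ 2) (h5 : p ≤ 5) : p = 3 ∨ p = 5 := by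
  have := hp.two_le
  interval_cases p <;> first | omega | exact absurd hp (by norm_num)

theorem six_le {p q : ℕ} (hp : p.Prime) (hq : q.Prime) (hpq : p ≠ q) : 6 ≤ p * q := by
  have h1 := hp.two_le
  have h2 := hq.two_le
  rcases lt_or_gt_of_ne hpq with h | h
  · calc 6 = 2 * 3 := rfl
      _ ≤ p * q := Nat.mul_le_mul h1 (by omega)
  · calc 6 = 3 * 2 := rfl
      _ ≤ p * q := Nat.mul_le_mul (by omega) h2

/-- Two commuting elements can not have orders divisible by two different primes. -/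
theorem not_commute [Finite G] (h : Le5 G) {a b : G} (hab : Commute a b) {p q : ℕ} (hp : p.Prime)
    (hq : q.Prime) (hpq : p ≠ q) (ha : p ∣ orderOf a) (hb : q ∣ orderOf b) : False := by
  have h1 : orderOf (a ^ (orderOf a / p)) = p := orderOf_pow_orderOf_div (orderOf_pos a).ne' ha
  have h2 : orderOf (b ^ (orderOf b / q)) = q := orderOf_pow_orderOf_div (orderOf_pos b).ne' hb
  have h3 := (hab.pow_pow (orderOf a / p) (orderOf b / q)).orderOf_mul_eq_mul_orderOf_of_coprime
    (by rw [h1, h2]; exact (Nat.coprime_primes hp hq).2 hpq)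
  rw [h1, h2] at h3
  have h4 := h (a ^ (orderOf a / p) * b ^ (orderOf b / q))
  have := six_le hp hq hpq
  omega

theorem PE.dvd {p : ℕ} (hp : p.Prime) {g : G} (hg : PE p g) (h1 : g ≠ 1) : p ∣ orderOf g := by
  obtain ⟨k, hk⟩ := hg
  rw [hk]
  refine dvd_pow_self p fun hk0 => h1 ?_
  rw [← orderOf_eq_one_iff, hk, hk0, pow_zero]

theorem not_commute_pe [Finite G] (h : Le5 G) {p q : ℕ} (hp : p.Prime) (hq : q.Prime) (hpq : p ≠ q)
    {a b : G} (ha : PE p a) (ha1 : a ≠ 1) (hb : PE q b) (hb1 : b ≠ 1) (hab : Commute a b) : False :=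
  not_commute h hab hp hq hpq (ha.dvd hp ha1) (hb.dvd hq hb1)

theorem pe_of_prime {p : ℕ} {g : G} (hg : orderOf g = p) : PE p g := ⟨1, by rw [pow_one, hg]⟩

theorem pe_of_mem {p : ℕ} [Fact p.Prime] {H : Subgroup G} (hH : IsPGroup p H) {g : G} (hg : g ∈ H) :
    PE p g := by
  obtain ⟨k, hk⟩ := IsPGroup.iff_orderOf.1 hH ⟨g, hg⟩
  exact ⟨k, by rw [← hk, ← Subgroup.orderOf_coe]⟩

theorem isPGroup_of_pe {p : ℕ} [Fact p.Prime] {H : Subgroup G} (hH : ∀ g ∈ H, PE p g) :
    IsPGroup p H := IsPGroup.iff_orderOf.2 fun g => by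
  obtain ⟨k, hk⟩ := hH g g.2
  exact ⟨k, by rw [← hk, ← Subgroup.orderOf_coe]⟩

theorem orderOf_eq_of_pe (h : Le5 G) {p : ℕ} (hp : p.Prime) (h3 : 3 ≤ p) {g : G} (hg : PE p g)
    (h1 : g ≠ 1) : orderOf g = p := by
  obtain ⟨k, hk⟩ := hg
  rcases k with _ | _ | k
  · exact absurd (orderOf_eq_one_iff.1 (by simpa using hk)) h1
  · simpa using hk
  · have := h g
    rw [hk] at this
    have h9 : 3 * 3 ≤ p ^ (k + 1 + 1) := by
      calc 3 * 3 ≤ p * p := Nat.mul_le_mul h3 h3
        _ = p ^ 2 := (sq p).symm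
        _ ≤ p ^ (k + 1 + 1) := Nat.pow_le_pow_right hp.pos (by omega)
    omega

theorem pow_four_of_pe (h : Le5 G) {g : G} (hg : PE 2 g) : g ^ 4 = 1 := by
  obtain ⟨k, hk⟩ := hg
  rw [← orderOf_dvd_iff_pow_eq_one, hk]
  have := h g
  rw [hk] at this
  rcases k with _ | _ | _ | k
  · simp
  · norm_num
  · norm_num
  · exfalso
    have : 2 ^ 3 ≤ 2 ^ (k + 1 + 1 + 1) := Nat.pow_le_pow_right (by norm_num) (by omega)
    omega

/-- A centraliser of a nontrivial `p`-element consists of `p`-elements. -/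
theorem pe_of_commute [Finite G] (h : Le5 G) {p : ℕ} (hp : p.Prime) {x y : G} (hx : PE p x)
    (hx1 : x ≠ 1) (hxy : Commute x y) : PE p y := by
  by_contra hy
  obtain ⟨q, hq, hqd, hne⟩ : ∃ q, q.Prime ∧ q ∣ orderOf y ∧ q ≠ p := by
    by_contra hall
    push Not at hall
    exact hy ⟨_, Nat.eq_prime_pow_of_unique_prime_dvd (orderOf_pos y).ne' fun {q} hq hd => hall q hq hd⟩
  exact not_commute h hxy hp hq hne.symm (hx.dvd hp hx1) hqd

theorem centralizer_pgroup [Finite G] (h : Le5 G) {p : ℕ} [Fact p.Prime] {x : G} (hx : PE p x)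
    (hx1 : x ≠ 1) : IsPGroup p (centralizer ({x} : Set G)) :=
  isPGroup_of_pe fun y hy => pe_of_commute h Fact.out hx hx1 (mem_centralizer_singleton_iff.1 hy).symm

theorem centralizer_subgroup_pgroup [Finite G] (h : Le5 G) {p : ℕ} [Fact p.Prime] {D : Subgroup G}
    (hD : IsPGroup p D) (hD1 : D ≠ ⊥) : IsPGroup p (centralizer (D : Set G)) := by
  obtain ⟨x, hxD, hx1⟩ := (bot_or_exists_ne_one D).resolve_left hD1
  exact (centralizer_pgroup h (pe_of_mem hD hxD) hx1).to_le
    (centralizer_le (Set.singleton_subset_iff.2 hxD))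

/-- An element normalising `W` that fixes a coset of `W` centralises some element of it. -/
theorem fixed_coset [Finite G] {W : Subgroup G} {a y : G} (hcop : (orderOf a).Coprime (Nat.card W))
    (haW : a ∈ normalizer (W : Set G)) (hy : y⁻¹ * a * y * a⁻¹ ∈ W) :
    ∃ d ∈ W, Commute (y * d) a := by
  have hpow : ∀ n : ℕ, y⁻¹ * a ^ n * y * (a ^ n)⁻¹ ∈ W := by
    intro n
    induction n with
    | zero => simp
    | succ n ih =>
      have h1 := (mem_normalizer_iff.1 haW _).1 ih
      have h2 := mul_mem hy h1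
      rw [pow_succ']
      simpa [mul_assoc] using h2
  have hall : ∀ b ∈ zpowers a, y⁻¹ * b * y * b⁻¹ ∈ W := by
    intro b hb
    obtain ⟨n, rfl⟩ := (mem_powers_iff_mem_zpowers (x := a) (y := b)).2 hb
    exact hpow n
  obtain ⟨d, hd, hc⟩ := exists_fixed_in_coset (A := zpowers a) (D := W) (zpowers_le.2 haW)
    (by rwa [Nat.card_zpowers]) (Or.inl inferInstance) hall
  exact ⟨d, hd, (mem_centralizer_iff.1 hc a (mem_zpowers a)).symm⟩

/-- A fixed-point-free involution inverts. -/
theorem inverts_of_fpf [Finite G] {V : Subgroup G} {t : G} (ht : t * t = 1)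
    (hn : ∀ v ∈ V, t * v * t ∈ V) (hf : ∀ v ∈ V, t * v * t = v → v = 1) :
    ∀ v ∈ V, t * v * t = v⁻¹ := by
  let φ : V →* V := MonoidHom.mk' (fun v => ⟨t * v * t, hn v v.2⟩) fun a b => Subtype.ext (by
    show t * (a * b : G) * t = t * a * t * (t * b * t)
    rw [show t * (a : G) * t * (t * b * t) = t * a * (t * t) * b * t by group, ht, mul_one]
    group)
  have h1 : MonoidHom.FixedPointFree φ := fun v hv => Subtype.ext (hf v v.2 (congrArg Subtype.val hv))
  have h2 : Function.Involutive φ := fun v => Subtype.ext (by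
    show t * (t * (v : G) * t) * t = v
    rw [show t * (t * (v : G) * t) * t = t * t * v * (t * t) by group, ht, one_mul, mul_one])
  intro v hv
  have := congrArg Subtype.val (congrFun (h1.coe_eq_inv_of_involutive h2) ⟨v, hv⟩)
  exact this

theorem commute_iff_conj {t v : G} (ht : t * t = 1) : t * v * t = v ↔ Commute t v := by
  have hti : t⁻¹ = t := inv_eq_of_mul_eq_one_right ht
  rw [Commute, SemiconjBy]
  constructor
  · intro h
    calc t * v = t * v * (t * t) := by rw [ht, mul_one]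
      _ = t * v * t * t := by group
      _ = v * t := by rw [h]
  · intro h
    rw [h, mul_assoc, ht, mul_one]

/-- If `t` inverts `V` then it centralises the automorphisms induced on `V`. -/
theorem conj_mul_inv_mem_centralizer {V : Subgroup G} {t g : G} (ht : t * t = 1)
    (hinv : ∀ v ∈ V, t * v * t = v⁻¹) (hg : g ∈ normalizer (V : Set G)) :
    t * g * t * g⁻¹ ∈ centralizer (V : Set G) := by
  have hti : t⁻¹ = t := inv_eq_of_mul_eq_one_right ht
  rw [mem_centralizer_iff]
  intro v hv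
  have h1 : g⁻¹ * v * g ∈ V := (mem_normalizer_iff''.1 hg v).1 hv
  have h2 : t * g * t * g⁻¹ * v * (t * g * t * g⁻¹)⁻¹ = v := by
    calc t * g * t * g⁻¹ * v * (t * g * t * g⁻¹)⁻¹
        = t * g * (t * (g⁻¹ * v * g) * t⁻¹) * g⁻¹ * t⁻¹ := by group
      _ = t * g * (g⁻¹ * v⁻¹ * g) * g⁻¹ * t⁻¹ := by rw [hti, hinv _ h1]; group
      _ = t * v⁻¹ * t := by rw [hti]; group
      _ = v := by rw [hinv _ (inv_mem hv), inv_inv]
  exact (mul_inv_eq_iff_eq_mul.1 h2).symm

/-- A nontrivial subgroup normalised by an involution of coprime order is inverted. -/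
theorem inverts_odd [Finite G] (h : Le5 G) {p : ℕ} [Fact p.Prime] (hp2 : p ≠ 2) {V : Subgroup G}
    (hV : IsPGroup p V) {t : G} (ht : orderOf t = 2) (hn : t ∈ normalizer (V : Set G)) :
    ∀ v ∈ V, t * v * t = v⁻¹ := by
  have htt : t * t = 1 := by rw [← sq, ← ht, pow_orderOf_eq_one]
  have hti : t⁻¹ = t := inv_eq_of_mul_eq_one_right htt
  refine inverts_of_fpf htt (fun v hv => ?_) (fun v hv hfix => ?_)
  · have := (mem_normalizer_iff.1 hn v).1 hv
    rwa [hti] at this
  · by_contra hv1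
    exact not_commute_pe h Nat.prime_two Fact.out (Ne.symm hp2) (pe_of_prime ht)
      (fun e => by rw [e, orderOf_one] at ht; omega) (pe_of_mem hV hv) hv1
      ((commute_iff_conj htt).1 hfix)

/-- An odd `p`-group normalising a nontrivial group of order prime to `p` has order dividing `p`. -/
theorem card_dvd_of_normalizes [Finite G] (h : Le5 G) {p q : ℕ} [hp : Fact p.Prime] [hq : Fact q.Prime]
    (hpq : p ≠ q) (hp2 : p ≠ 2) {P Q : Subgroup G} (hP : IsPGroup p P) (hQ : IsPGroup q Q)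
    (hQ1 : Q ≠ ⊥) (hn : P ≤ normalizer (Q : Set G)) : Nat.card P ∣ p := by
  obtain ⟨n, hn'⟩ := IsPGroup.iff_card.1 hP
  rcases n with _ | _ | n
  · rw [hn', pow_zero]; exact one_dvd p
  · rw [hn', pow_one]
  exfalso
  obtain ⟨A, hA⟩ := Sylow.exists_subgroup_card_pow_prime (G := P) p (n := 2)
    (by rw [hn']; exact pow_dvd_pow p (by omega))
  set B := A.map P.subtype with hB
  have hBc : Nat.card B = p ^ 2 := by rw [hB, card_map_of_injective P.subtype_injective, hA]
  have hBP : B ≤ P := map_subtype_le A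
  haveI : IsMulCommutative B := IsPGroup.isMulCommutative_of_card_eq_prime_sq hBc
  have hBn : ¬ IsCyclic B := by
    intro hc
    obtain ⟨g, hg⟩ := hc.exists_generator
    have h1 : orderOf g = p ^ 2 := by rw [orderOf_eq_card_of_forall_mem_zpowers hg, hBc]
    have h2 := h (g : G)
    rw [Subgroup.orderOf_coe, h1] at h2
    have : 3 ≤ p := by have := hp.out.two_le; omega
    have : 3 * 3 ≤ p ^ 2 := by rw [sq]; exact Nat.mul_le_mul this this
    omega
  have hcop : (Nat.card B).Coprime (Nat.card Q) := by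
    obtain ⟨m, hm⟩ := IsPGroup.iff_card.1 hQ
    rw [hBc, hm]
    exact Nat.Coprime.pow _ _ ((Nat.coprime_primes hp.out hq.out).2 hpq)
  have h1 := centralizerJoin_eq (K := Q) hBn (hBP.trans hn) hcop
  apply hQ1
  rw [← h1, eq_bot_iff]
  refine iSup₂_le fun a ha => ?_
  rintro v ⟨hv, hva⟩
  rw [mem_bot]
  by_contra hv1
  exact not_commute_pe h hp.out hq.out hpq (pe_of_mem hP (hBP ha.1)) ha.2 (pe_of_mem hQ hv) hv1
    (mem_centralizer_singleton_iff.1 hva).symm

/-- No nontrivial normal odd `r`-subgroup. -/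
theorem no_normal_odd [Finite G] (h : Le5 G) (h2 : 2 ∣ Nat.card G) {r s : ℕ} [hr : Fact r.Prime]
    [hs : Fact s.Prime] (hr2 : r ≠ 2) (hs2 : s ≠ 2) (hrs : s ≠ r) (hsd : s ∣ Nat.card G)
    (V : Subgroup G) [V.Normal] (hV : IsPGroup r V) : V = ⊥ := by
  by_contra hne
  obtain ⟨t, ht⟩ := exists_prime_orderOf_dvd_card' (G := G) 2 h2
  obtain ⟨y, hy⟩ := exists_prime_orderOf_dvd_card' (G := G) s hsd
  have htt : t * t = 1 := by rw [← sq, ← ht, pow_orderOf_eq_one]
  have hti : t⁻¹ = t := inv_eq_of_mul_eq_one_right htt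
  have hnor : ∀ g : G, g ∈ normalizer (V : Set G) := fun g => by rw [normalizer_eq_top]; trivial
  have hinv := inverts_odd h hr2 hV ht (hnor t)
  set W := centralizer (V : Set G) with hW
  have hWp : IsPGroup r W := centralizer_subgroup_pgroup h hV hne
  have hcop : (orderOf t).Coprime (Nat.card W) := by
    obtain ⟨m, hm⟩ := IsPGroup.iff_card.1 hWp
    rw [ht, hm]
    exact Nat.Coprime.pow_right _ ((Nat.coprime_primes Nat.prime_two hr.out).2 (Ne.symm hr2))
  have htW : t ∈ normalizer (W : Set G) := by rw [normalizer_eq_top]; trivial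
  have hmem : y⁻¹ * t * y * t⁻¹ ∈ W := by
    have h1 := inv_mem (conj_mul_inv_mem_centralizer htt hinv (hnor y⁻¹))
    simpa [mul_assoc, hti] using h1
  obtain ⟨d, hd, hc⟩ := fixed_coset hcop htW hmem
  have hsd' : s ∣ orderOf (y * d) := by
    have hmk : QuotientGroup.mk' W (y * d) = QuotientGroup.mk' W y := by
      rw [map_mul]
      have : QuotientGroup.mk' W d = 1 := (QuotientGroup.eq_one_iff d).2 hd
      rw [this, mul_one]
    have h1 := orderOf_map_dvd (QuotientGroup.mk' W) (y * d)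
    rw [hmk] at h1
    have h2' := orderOf_map_dvd (QuotientGroup.mk' W) y
    rw [hy] at h2'
    rcases (Nat.dvd_prime hs.out).1 h2' with h3 | h3
    · exfalso
      have hyW : y ∈ W := (QuotientGroup.eq_one_iff y).1 (orderOf_eq_one_iff.1 h3)
      obtain ⟨k, hk⟩ := pe_of_mem hWp hyW
      rw [hy] at hk
      exact hrs ((Nat.prime_dvd_prime_iff_eq hs.out hr.out).1
        (hs.out.dvd_of_dvd_pow (n := k) (by rw [← hk])))
    · rwa [h3] at h1
  exact not_commute h hc hs.out Nat.prime_two hs2 hsd' (by rw [ht])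

end Cfsg.Lib.SpecFive
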