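import Cfsg.Agent.SpecFive.Pair
import Cfsg.Agent.InvolCalc.DihedralEightCentralizer

/-!
The centraliser of an involution is dihedral of order eight.
-/

set_option autoImplicit false
set_option linter.unusedSectionVars false

namespace Cfsg.Lib.SpecFive

open Subgroup Cfsg.Lib.Coprime
open scoped Pointwise

universe u

variable {G : Type u} [Group G] [Finite G]

/-- The count of the elements of odd prime order. -/
theorem card_order_prime (h : Hyp G) {p : ℕ} [hp : Fact p.Prime] (hp2 : p ≠ 2) (P : Sylow p G) :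
    Nat.card {g : G // orderOf g = p} + Nat.card (Sylow p G) = Nat.card (Sylow p G) * Nat.card P := by
  classical
  haveI := Fintype.ofFinite (Sylow p G)
  have hp3 : 3 ≤ p := by have := hp.out.two_le; omega
  let F : (Σ Q : Sylow p G, {x : Q // x ≠ 1}) → {g : G // orderOf g = p} := fun x => ⟨x.2.1,
    orderOf_eq_of_pe h.le5 hp.out hp3 (pe_of_mem x.1.2 x.2.1.2) fun e => x.2.2 (Subtype.ext e)⟩
  have hF : Function.Bijective F := by
    constructor
    · rintro ⟨Q, x, hx⟩ ⟨Q', x', hx'⟩ he
      have he' : (x : G) = x' := congrArg Subtype.val he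
      have hQ := sylow_ti h.le5 hp2 Q Q' x (fun e => hx (Subtype.ext e)) x.2 (he' ▸ x'.2)
      subst hQ
      have hx'' : x = x' := Subtype.ext he'
      subst hx''
      rfl
    · rintro ⟨g, hg⟩
      obtain ⟨Q, hQ⟩ := (IsPGroup.of_card (n := 1) (by rw [Nat.card_zpowers, hg, pow_one]) :
        IsPGroup p (zpowers g)).exists_le_sylow
      refine ⟨⟨Q, ⟨g, hQ (mem_zpowers g)⟩, fun e => ?_⟩, rfl⟩
      have e' : g = 1 := congrArg Subtype.val e
      rw [e', orderOf_one] at hg
      exact hp.out.one_lt.ne hg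
  have hone : ∀ Q : Sylow p G, Nat.card {x : Q // x ≠ 1} + 1 = Nat.card P := by
    intro Q
    rw [show Nat.card P = Nat.card Q by rw [P.card_eq_multiplicity, Q.card_eq_multiplicity]]
    have : Unique {x : Q // ¬ x ≠ 1} := ⟨⟨⟨1, fun e => e rfl⟩⟩, fun q => Subtype.ext (not_not.1 q.2)⟩
    have e1 := Nat.card_congr (Equiv.sumCompl (fun x : Q => x ≠ 1))
    rw [Nat.card_sum, Nat.card_unique (α := {x : Q // ¬ x ≠ 1})] at e1
    exact e1
  rw [← Nat.card_congr (Equiv.ofBijective F hF), Nat.card_sigma, Nat.card_eq_fintype_card (α := Sylow p G)]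
  calc ∑ Q : Sylow p G, Nat.card {x : Q // x ≠ 1} + Fintype.card (Sylow p G)
      = ∑ Q : Sylow p G, (Nat.card {x : Q // x ≠ 1} + 1) := by
        rw [Finset.sum_add_distrib, Finset.sum_const, Finset.card_univ, smul_eq_mul, mul_one]
    _ = _ := by rw [Finset.sum_congr rfl fun Q _ => hone Q, Finset.sum_const, Finset.card_univ, smul_eq_mul]

/-- The index of a Sylow subgroup in its normaliser. -/
theorem normalizer_index (h : Hyp G) {p : ℕ} [hp : Fact p.Prime] (hp2 : p ≠ 2) (hpd : p ∣ Nat.card G) (P : Sylow p G) :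
    ∃ e : ℕ, Nat.card (normalizer ((P : Subgroup G) : Set G)) = Nat.card P * e ∧ e ≠ 1 ∧ ¬ p ∣ e := by
  set N := normalizer ((P : Subgroup G) : Set G) with hN
  refine ⟨((P : Subgroup G).subgroupOf N).index, ?_, fun he => ?_, fun hd => ?_⟩
  · rw [← ((P : Subgroup G).subgroupOf N).card_mul_index,
      Nat.card_congr (subgroupOfEquivOfLe (le_normalizer : (P : Subgroup G) ≤ N)).toEquiv]
  · have hPN : N = (P : Subgroup G) := le_antisymm (subgroupOf_eq_top.1 (index_eq_one.1 he)) le_normalizer
    have hP1 : (P : Subgroup G) ≠ ⊥ := P.ne_bot_of_dvd_card hpd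
    refine h.no_frobenius (H := (P : Subgroup G)) ⟨hP1, fun e => ?_, fun g hg => ?_⟩
    · exact hP1 (h.normal_pgroup _ (e ▸ inferInstance) P.2)
    · rw [eq_bot_iff]
      rintro v ⟨hv1, hv2⟩
      rw [mem_bot]
      by_contra hne
      refine hg (hPN ▸ Sylow.smul_eq_iff_mem_normalizer.1 (sylow_ti h.le5 hp2 (g • P) P v hne ?_ hv1))
      rw [Sylow.coe_subgroup_smul]
      exact hv2
  · exact P.not_dvd_index (hd.trans ⟨N.index, (relIndex_mul_index (le_normalizer : (P : Subgroup G) ≤ N)).symm⟩)

theorem setup_exists (h : Hyp G) : ∃ z r u : G, Cfsg.Lib.DihedralCent.Setup z r u := by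
  classical
  haveI : Fact (Nat.Prime 2) := ⟨Nat.prime_two⟩
  haveI : Fact (Nat.Prime 3) := ⟨Nat.prime_three⟩
  haveI : Fact (Nat.Prime 5) := ⟨by norm_num⟩
  obtain ⟨E, T, B, k, π⟩ := exists_pair h
  have τ := π.top
  obtain ⟨z0, hz0, hz01, hclass⟩ := π.one_class h
  obtain ⟨P, hP⟩ := π.exists_sylow h
  have hCz := π.cent_L h hz0 hz01
  have hE2 := τ.E_sq h
  have hz02 : z0 * z0 = 1 := hE2 z0 hz0.1
  have hz0o : orderOf z0 = 2 := orderOf_eq_prime (by rw [sq]; exact hz02) hz01
  obtain ⟨b, hb, hbE⟩ : ∃ b ∈ B, b ∉ E := by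
    by_contra hall
    push Not at hall
    exact π.hBne (eq_of_le_of_card_ge hall (by rw [π.hBc, π.hEc]))
  -- `(x b)^2` for `x ∈ E`
  have hpair : ∀ c ∈ B, c ∉ E → ∀ x ∈ E, x * c * x * c ∈ E ⊓ centralizer (T : Set G) := by
    intro c hc hcE x hx
    have hcx : c * x * c ∈ E := by
      have := (mem_normalizer_iff.1 (τ.hTN (π.hBT hc)) x).1 hx
      rwa [inv_eq_of_mul_eq_one_right (π.hB2 c hc)] at this
    have hcm := τ.loc.comm h.le5 hx hcx
    refine π.mem_L h (by simpa [mul_assoc] using mul_mem hx hcx) (π.hBT hc) hcE ?_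
    show x * c * x * c * c = c * (x * c * x * c)
    calc x * c * x * c * c = x * c * x := by rw [mul_assoc _ c c, π.hB2 c hc, mul_one]
      _ = (c * c) * (x * c * x) := by rw [π.hB2 c hc, one_mul]
      _ = c * (c * x * c * x) := by group
      _ = c * (x * (c * x * c)) := by rw [← hcm]
      _ = _ := by group
  rcases π.hk with hk | hk
  · subst hk
    obtain ⟨d, hd, hdL⟩ : ∃ d ∈ E, d ∉ E ⊓ centralizer (T : Set G) := by
      by_contra hall
      push Not at hall
      have h1 := Nat.le_of_dvd Nat.card_pos (card_dvd_of_le hall)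
      rw [π.hEc, π.hL] at h1
      omega
    have hbT := π.hBT hb
    have hbd : b * d * (b * d) = z0 := by
      have h1 : b * d * (b * d) ∈ E ⊓ centralizer (T : Set G) := by
        have h2 := hpair b hb hbE d hd
        have hcx : b * d * b ∈ E := by
          have := (mem_normalizer_iff.1 (τ.hTN hbT) d).1 hd
          rwa [inv_eq_of_mul_eq_one_right (π.hB2 b hb)] at this
        rw [show b * d * (b * d) = b * d * b * d by group, τ.loc.comm h.le5 hcx hd,
          show d * (b * d * b) = d * b * d * b by group]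
        exact h2
      have h1' : b * d * (b * d) ≠ 1 := fun e1 => by
        rcases π.invol h (mul_mem hbT (τ.hET hd)) e1 with h2 | h2
        · exact hbE (by simpa [mul_assoc, hE2 d hd] using mul_mem h2 hd)
        · exact hdL (π.inf ▸ mem_inf.2 ⟨hd, by simpa using mul_mem (inv_mem hb) h2⟩)
      obtain ⟨a, c, hac, hall⟩ := Nat.card_eq_two_iff.1 π.hL
      have m1 : (1 : ↥(E ⊓ centralizer (T : Set G))) ∈ ({a, c} : Set _) := hall ▸ Set.mem_univ _
      have m2 : (⟨_, h1⟩ : ↥(E ⊓ centralizer (T : Set G))) ∈ ({a, c} : Set _) := hall ▸ Set.mem_univ _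
      have m3 : (⟨z0, hz0⟩ : ↥(E ⊓ centralizer (T : Set G))) ∈ ({a, c} : Set _) := hall ▸ Set.mem_univ _
      have n2 : (⟨_, h1⟩ : ↥(E ⊓ centralizer (T : Set G))) ≠ 1 := fun e1 => h1' (congrArg Subtype.val e1)
      have n3 : (⟨z0, hz0⟩ : ↥(E ⊓ centralizer (T : Set G))) ≠ 1 := fun e1 => hz01 (congrArg Subtype.val e1)
      simp only [Set.mem_insert_iff, Set.mem_singleton_iff] at m1 m2 m3
      have : (⟨_, h1⟩ : ↥(E ⊓ centralizer (T : Set G))) = ⟨z0, hz0⟩ := by grind
      exact congrArg Subtype.val this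
    refine ⟨z0, b * d, b, ?_, hz0o, by rw [hCz, π.hTc], ⟨P, by rw [hP, hCz]⟩, hbd,
      orderOf_eq_prime (by rw [sq]; exact π.hB2 b hb) (fun e1 => hbE (e1 ▸ one_mem E)),
      mem_centralizer_iff.1 hz0.2 b hbT, ?_⟩
    · intro H hH
      haveI := normal_of_index_eq_two hH
      rcases h.simple H inferInstance with e1 | e1
      · rw [e1, index_bot] at hH
        exact h.not_pgroup (p := 2) (IsPGroup.of_card (n := 1) (by rw [hH, pow_one]))
      · rw [e1, index_top] at hH; omega
    · rw [mul_inv_rev, inv_eq_of_mul_eq_one_right (π.hB2 b hb), inv_eq_of_mul_eq_one_right (hE2 d hd),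
        show b * (b * d) * b = b * b * d * b by group, π.hB2 b hb, one_mul]
  · exfalso
    subst hk
    set L := E ⊓ centralizer (T : Set G) with hLd
    -- involutions
    let Inv := {i : G // orderOf i = 2}
    have hsecx : ∀ i : Inv, ∃ g : G, g * z0 * g⁻¹ = i := fun i => isConj_iff.1 (hclass i
      (by rw [← sq]; exact orderOf_dvd_iff_pow_eq_one.1 (by rw [i.2]))
      (fun e1 => by have := i.2; rw [e1, orderOf_one] at this; omega))
    choose sec hsec using hsecx
    have hT : ∀ t : G, Commute t z0 → t ∈ T := fun t ht => hCz ▸ mem_centralizer_singleton_iff.2 ht.eq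
    let e1 : G ≃ Inv × T :=
      { toFun := fun g => (⟨g * z0 * g⁻¹, by
            rw [show g * z0 * g⁻¹ = MulAut.conj g z0 from rfl, MulEquiv.orderOf_eq, hz0o]⟩,
          ⟨(sec ⟨g * z0 * g⁻¹, by
            rw [show g * z0 * g⁻¹ = MulAut.conj g z0 from rfl, MulEquiv.orderOf_eq, hz0o]⟩)⁻¹ * g, hT _ (by
            set i : Inv := ⟨g * z0 * g⁻¹, _⟩
            have h1 := hsec i
            show (sec i)⁻¹ * g * z0 = z0 * ((sec i)⁻¹ * g)
            calc (sec i)⁻¹ * g * z0 = (sec i)⁻¹ * (g * z0 * g⁻¹) * g := by group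
              _ = (sec i)⁻¹ * (i : G) * g := rfl
              _ = _ := by rw [← h1]; group)⟩)
        invFun := fun x => sec x.1 * x.2
        left_inv := fun g => by simp
        right_inv := fun x => by
          obtain ⟨i, t, ht⟩ := x
          have hc : t * z0 = z0 * t := mem_centralizer_iff.1 hz0.2 t ht
          have h1 : sec i * t * z0 * (sec i * t)⁻¹ = i := by
            rw [← hsec i]
            calc sec i * t * z0 * (sec i * t)⁻¹ = sec i * (t * z0 * t⁻¹) * (sec i)⁻¹ := by group
              _ = _ := by rw [hc, mul_inv_cancel_right]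
          refine Prod.ext (Subtype.ext h1) (Subtype.ext ?_)
          simp only [h1]
          show (sec i)⁻¹ * (sec i * t) = t
          group }
    have hG64 : Nat.card G = Nat.card Inv * 64 := by
      rw [Nat.card_congr e1, Nat.card_prod, π.hTc]
    -- square roots
    let R0 := {t : G // t ∈ T ∧ t * t = z0}
    let e2 : {g : G // orderOf g = 4} ≃ Inv × R0 :=
      { toFun := fun g =>
          (⟨(g : G) * g, by
            rw [← sq, orderOf_pow' _ (by norm_num), g.2]; norm_num⟩,
          ⟨(sec ⟨(g : G) * g, by rw [← sq, orderOf_pow' _ (by norm_num), g.2]; norm_num⟩)⁻¹ * g *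
            sec ⟨(g : G) * g, by rw [← sq, orderOf_pow' _ (by norm_num), g.2]; norm_num⟩, by
            set i : Inv := ⟨(g : G) * g, _⟩
            have h1 : (sec i)⁻¹ * g * sec i * ((sec i)⁻¹ * g * sec i) = z0 := by
              calc (sec i)⁻¹ * g * sec i * ((sec i)⁻¹ * g * sec i) = (sec i)⁻¹ * (i : G) * sec i := by
                    show _ = (sec i)⁻¹ * ((g : G) * g) * sec i
                    group
                _ = z0 := by rw [← hsec i]; group
            refine ⟨hT _ ?_, h1⟩
            have h2 : Commute ((sec i)⁻¹ * (g : G) * sec i) ((sec i)⁻¹ * g * sec i * ((sec i)⁻¹ * g * sec i)) :=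
              (Commute.refl _).mul_right (Commute.refl _)
            rwa [h1] at h2⟩)
        invFun := fun x => ⟨sec x.1 * x.2 * (sec x.1)⁻¹, by
          rw [show sec x.1 * (x.2 : G) * (sec x.1)⁻¹ = MulAut.conj (sec x.1) (x.2 : G) from rfl, MulEquiv.orderOf_eq]
          refine orderOf_eq_prime_pow (p := 2) (n := 1) ?_ ?_
          · rw [pow_one, sq, x.2.2.2]; exact hz01
          · rw [show (2 : ℕ) ^ (1 + 1) = 2 * 2 from rfl, pow_mul, sq, sq, x.2.2.2, hz02]⟩
        left_inv := fun g => by
          refine Subtype.ext ?_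
          dsimp only
          group
        right_inv := fun x => by
          obtain ⟨i, t, htT, htt⟩ := x
          have h1 : sec i * t * (sec i)⁻¹ * (sec i * t * (sec i)⁻¹) = i := by
            rw [← hsec i, ← htt]; group
          refine Prod.ext (Subtype.ext h1) (Subtype.ext ?_)
          simp only [h1]
          show (sec i)⁻¹ * (sec i * t * (sec i)⁻¹) * sec i = t
          group }
    have hR0 : Nat.card R0 = 12 := by
      -- `P ≃ R0 × L` and `P ≃ (B ∖ L) × L`
      let Q := {x : E × B // ((x.1 : G) * x.2) * ((x.1 : G) * x.2) = z0}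
      have hmemT : ∀ x : E × B, (x.1 : G) * x.2 ∈ T := fun x => mul_mem (τ.hET x.1.2) (π.hBT x.2.2)
      have hdec : ∀ t : R0, ∃ x : Q, (x.1.1 : G) * x.1.2 = t := fun t => by
        obtain ⟨x, hx, c, hc, hxc⟩ := π.decomp t.2.1
        exact ⟨⟨(⟨x, hx⟩, ⟨c, hc⟩), by show x * c * (x * c) = z0; rw [hxc]; exact t.2.2⟩, hxc⟩
      choose dec hdec using hdec
      let f : Q → R0 := fun x => ⟨(x.1.1 : G) * x.1.2, hmemT x.1, x.2⟩
      have hfdec : ∀ x : Q, ((dec (f x)).1.1 : G)⁻¹ * x.1.1 ∈ L := fun x => by
        have h1 : ((dec (f x)).1.1 : G) * (dec (f x)).1.2 = (x.1.1 : G) * x.1.2 := hdec (f x)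
        rw [hLd, ← π.inf]
        refine Subgroup.mem_inf.2 ⟨mul_mem (inv_mem (dec (f x)).1.1.2) x.1.1.2, ?_⟩
        have h2 : ((dec (f x)).1.1 : G)⁻¹ * x.1.1 = (dec (f x)).1.2 * (x.1.2 : G)⁻¹ := by
          rw [eq_mul_inv_iff_mul_eq, mul_assoc, ← h1, inv_mul_cancel_left]
        rw [h2]
        exact mul_mem (dec (f x)).1.2.2 (inv_mem x.1.2.2)
      have hb1 : Function.Bijective (fun x : Q => (f x, (⟨_, hfdec x⟩ : L))) := by
        constructor
        · intro x x' he
          obtain ⟨he1, he2⟩ := Prod.ext_iff.1 he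
          have he2' := congrArg Subtype.val he2
          dsimp only at he1 he2'
          rw [he1] at he2'
          have hx : (x.1.1 : G) = x'.1.1 := mul_left_cancel he2'
          have hy : (x.1.1 : G) * x.1.2 = (x'.1.1 : G) * x'.1.2 := congrArg Subtype.val he1
          rw [hx] at hy
          exact Subtype.ext (Prod.ext (Subtype.ext hx) (Subtype.ext (mul_left_cancel hy)))
        · rintro ⟨t, l, hl⟩
          have hx1 : ((dec t).1.1 : G) * l ∈ E := mul_mem (dec t).1.1.2 hl.1
          have hlB : l⁻¹ * ((dec t).1.2 : G) ∈ B := mul_mem (inv_mem (π.L_le_B hl)) (dec t).1.2.2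
          have hprod : ((dec t).1.1 : G) * l * (l⁻¹ * ((dec t).1.2 : G)) = t := by
            rw [← hdec t]; group
          refine ⟨⟨(⟨_, hx1⟩, ⟨_, hlB⟩), by
            show ((dec t).1.1 : G) * l * (l⁻¹ * ((dec t).1.2 : G)) * (((dec t).1.1 : G) * l * (l⁻¹ * ((dec t).1.2 : G))) = z0
            rw [hprod]; exact t.2.2⟩, ?_⟩
          have hft : f ⟨(⟨_, hx1⟩, ⟨_, hlB⟩), by
            show ((dec t).1.1 : G) * l * (l⁻¹ * ((dec t).1.2 : G)) * (((dec t).1.1 : G) * l * (l⁻¹ * ((dec t).1.2 : G))) = z0
            rw [hprod]; exact t.2.2⟩ = t := Subtype.ext hprod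
          refine Prod.ext hft (Subtype.ext ?_)
          simp only [hft]
          group
      have houter : ∀ x : Q, (x.1.2 : G) ∉ E := fun x hE => by
        have := hE2 _ (mul_mem x.1.1.2 hE)
        exact hz01 (x.2.symm.trans this)
      have hexx : ∀ c : {c : B // (c : G) ∉ E}, ∃ x : E, ((x : G) * c.1) * ((x : G) * c.1) = z0 := by
        intro c
        let φ : E →* L := MonoidHom.mk' (fun x => ⟨(x : G) * c.1 * x * c.1, hpair _ c.1.2 c.2 x x.2⟩)
          (fun x x' => Subtype.ext (by
            show (x : G) * x' * c.1 * (x * x') * c.1 = x * c.1 * x * c.1 * (x' * c.1 * x' * c.1)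
            have hcx : (c.1 : G) * x * c.1 ∈ E := by
              have := (mem_normalizer_iff.1 (τ.hTN (π.hBT c.1.2)) x).1 x.2
              rwa [inv_eq_of_mul_eq_one_right (π.hB2 _ c.1.2)] at this
            calc (x : G) * x' * c.1 * (x * x') * c.1 = x * x' * c.1 * x * (c.1 * c.1) * x' * c.1 := by
                  rw [π.hB2 _ c.1.2]; group
              _ = x * ((x' : G) * (c.1 * x * c.1)) * (c.1 * x' * c.1) := by group
              _ = _ := by rw [τ.loc.comm h.le5 x'.2 hcx]; group))
        have htop : φ.range = ⊤ := by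
          refine eq_top_of_le_card _ ?_
          have h1 : Nat.card φ.range * Nat.card φ.ker = Nat.card E := by
            rw [← index_ker, mul_comm]
            exact φ.ker.card_mul_index
          have h2 : Nat.card φ.ker ≤ 4 := by
            rw [← π.hL]
            refine Nat.card_le_card_of_injective (fun x => (⟨((x : E) : G), ?_⟩ : L))
              fun a a' he => Subtype.ext (Subtype.ext (congrArg Subtype.val he :))
            have hx : ((x : E) : G) * c.1 * (x : E) * c.1 = 1 := congrArg Subtype.val (MonoidHom.mem_ker.1 x.2)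
            refine π.mem_L h (x : E).2 (π.hBT c.1.2) c.2 ?_
            show ((x : E) : G) * c.1 = c.1 * (x : E)
            have h3 := eq_inv_of_mul_eq_one_left (show ((x : E) : G) * c.1 * ((x : E) * c.1) = 1 by
              rw [← hx]; group)
            rw [h3, mul_inv_rev, inv_eq_of_mul_eq_one_right (π.hB2 _ c.1.2),
              inv_eq_of_mul_eq_one_right (hE2 _ (x : E).2)]
          rw [π.hL]
          rw [π.hEc] at h1
          refine Nat.le_of_mul_le_mul_right (c := 4) ?_ (by norm_num)
          rw [← h1]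
          exact Nat.mul_le_mul_left _ h2
        obtain ⟨x, hx⟩ : (⟨z0, hz0⟩ : L) ∈ φ.range := by rw [htop]; trivial
        refine ⟨x, ?_⟩
        rw [show (x : G) * c.1 * (x * c.1) = x * c.1 * x * c.1 by group]
        exact congrArg Subtype.val hx
      choose ex hex using hexx
      let p2 : Q → {c : B // (c : G) ∉ E} := fun x => ⟨x.1.2, houter x⟩
      have hmL : ∀ x : Q, ((ex (p2 x) : E) : G)⁻¹ * x.1.1 ∈ L := by
        intro x
        set a : G := ((ex (p2 x) : E) : G) with ha
        set y : G := (x.1.1 : G) with hy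
        set c : G := (x.1.2 : G) with hc
        have haE : a ∈ E := (ex (p2 x)).2
        have hyE : y ∈ E := x.1.1.2
        have hh1 : a * c * (a * c) = z0 := hex (p2 x)
        have hh2 : y * c * (y * c) = z0 := x.2
        have hcb : ∀ v ∈ E, c * v * c ∈ E := fun v hv => by
          have := (mem_normalizer_iff.1 (τ.hTN (π.hBT x.1.2.2)) v).1 hv
          rwa [inv_eq_of_mul_eq_one_right (π.hB2 _ x.1.2.2)] at this
        refine π.mem_L h (mul_mem (inv_mem haE) hyE) (π.hBT x.1.2.2) (houter x) ?_
        show a⁻¹ * y * c = c * (a⁻¹ * y)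
        have hai : a⁻¹ = a := inv_eq_of_mul_eq_one_right (hE2 a haE)
        have hyi : y⁻¹ = y := inv_eq_of_mul_eq_one_right (hE2 y hyE)
        have hcc : c * c = 1 := π.hB2 _ x.1.2.2
        have h3 : a * (c * a * c) = y * (c * y * c) := by
          calc a * (c * a * c) = a * c * (a * c) := by group
            _ = y * c * (y * c) := by rw [hh1, hh2]
            _ = _ := by group
        have h4 : y * a = (c * y * c) * (c * a * c)⁻¹ := by
          calc y * a = y⁻¹ * (a * (c * a * c)) * (c * a * c)⁻¹ := by rw [hyi]; group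
            _ = _ := by rw [h3]; group
        have hci : c⁻¹ = c := inv_eq_of_mul_eq_one_right hcc
        rw [hai, τ.loc.comm h.le5 haE hyE, h4]
        calc c * y * c * (c * a * c)⁻¹ * c = c * y * (c * c⁻¹) * a⁻¹ * (c⁻¹ * c) := by group
          _ = c * (y * a) := by rw [mul_inv_cancel, inv_mul_cancel, hai]; group
          _ = _ := by rw [h4]
      have hb2 : Function.Bijective (fun x : Q => (p2 x, (⟨_, hmL x⟩ : L))) := by
        constructor
        · intro x x' he
          obtain ⟨he1, he2⟩ := Prod.ext_iff.1 he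
          have he2' := congrArg Subtype.val he2
          dsimp only at he1 he2'
          rw [he1] at he2'
          exact Subtype.ext (Prod.ext (Subtype.ext (mul_left_cancel he2')) (congrArg Subtype.val he1))
        · rintro ⟨c, l, hl⟩
          have hlc : l * (c.1 : G) = c.1 * l :=
            (mem_centralizer_iff.1 hl.2 _ (π.hBT c.1.2)).symm
          have hll : l * l = 1 := hE2 l hl.1
          refine ⟨⟨(⟨(ex c : G) * l, mul_mem (ex c).2 hl.1⟩, c.1), ?_⟩, ?_⟩
          · show (ex c : G) * l * c.1 * ((ex c : G) * l * c.1) = z0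
            have hla : ∀ t ∈ T, t * l = l * t := fun t ht => mem_centralizer_iff.1 hl.2 t ht
            rw [← hex c]
            calc (ex c : G) * l * c.1 * ((ex c : G) * l * c.1)
                = (ex c : G) * (l * c.1) * (ex c : G) * (l * c.1) := by group
              _ = (ex c : G) * c.1 * (l * (ex c : G)) * (l * c.1) := by rw [hlc]; group
              _ = (ex c : G) * c.1 * ((ex c : G) * l) * (l * c.1) := by
                rw [hla _ (τ.hET (ex c).2)]
              _ = (ex c : G) * c.1 * (ex c : G) * (l * l) * c.1 := by group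
              _ = _ := by rw [hll]; group
          · refine Prod.ext (Subtype.ext rfl) (Subtype.ext ?_)
            show ((ex c : E) : G)⁻¹ * ((ex c : G) * l) = l
            group
      have hcB : Nat.card {c : B // (c : G) ∉ E} = 12 := by
        have h1 : Nat.card {c : B // (c : G) ∈ E} = 4 := by
          rw [← π.hL, ← π.inf]
          exact Nat.card_congr
            { toFun := fun c => ⟨c.1.1, c.2, c.1.2⟩
              invFun := fun c => ⟨⟨c.1, c.2.2⟩, c.2.1⟩
              left_inv := fun c => rfl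
              right_inv := fun c => rfl }
        have h2 := Nat.card_congr (Equiv.sumCompl (fun c : B => (c : G) ∈ E))
        rw [Nat.card_sum, h1, π.hBc] at h2
        omega
      have h1 := Nat.card_congr ((Equiv.ofBijective _ hb1).symm.trans (Equiv.ofBijective _ hb2))
      rw [Nat.card_prod, Nat.card_prod, hcB, π.hL] at h1
      exact Nat.eq_of_mul_eq_mul_right (by norm_num) h1
    have h4c : Nat.card {g : G // orderOf g = 4} = Nat.card Inv * 12 := by
      rw [Nat.card_congr e2, Nat.card_prod, hR0]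
    -- odd primes
    obtain ⟨R⟩ : Nonempty (Sylow 3 G) := inferInstance
    obtain ⟨S⟩ : Nonempty (Sylow 5 G) := inferInstance
    have hA := card_order_prime h (by norm_num : (3 : ℕ) ≠ 2) R
    have hF := card_order_prime h (by norm_num : (5 : ℕ) ≠ 2) S
    obtain ⟨e, he, he1, he3⟩ := normalizer_index h (by norm_num : (3 : ℕ) ≠ 2) h.h3 R
    obtain ⟨f, hf, hf1, hf5⟩ := normalizer_index h (by norm_num : (5 : ℕ) ≠ 2) h.h5 S
    have hnR : Nat.card (Sylow 3 G) * (Nat.card R * e) = Nat.card G := by
      rw [← he, Sylow.card_eq_index_normalizer R, mul_comm]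
      exact card_mul_index _
    have hnS : Nat.card (Sylow 5 G) * (Nat.card S * f) = Nat.card G := by
      rw [← hf, Sylow.card_eq_index_normalizer S, mul_comm]
      exact card_mul_index _
    have hS5 : 5 ≤ Nat.card S := by
      have h1 : 5 ∣ Nat.card S := S.dvd_card_of_dvd_card h.h5
      exact Nat.le_of_dvd Nat.card_pos h1
    have hR9 := h.nine R
    -- `f` is even
    obtain ⟨t, g5, ht1, htt, hg5, htg⟩ : ∃ t g : G, t ≠ 1 ∧ t * t = 1 ∧ orderOf g = 5 ∧ t * g * t = g⁻¹ := by
      rcases τ.kcases with h3 | ⟨-, -, -, h4⟩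
      · rw [π.hTc, π.hEc] at h3; omega
      · exact h4
    obtain ⟨S', hS'⟩ := (IsPGroup.of_card (n := 1) (by rw [Nat.card_zpowers, hg5, pow_one]) :
      IsPGroup 5 (zpowers g5)).exists_le_sylow
    have hf2 : 2 ∣ f := by
      have hgS : g5 ∈ (S' : Subgroup G) := hS' (mem_zpowers g5)
      have htN : t ∈ normalizer ((S' : Subgroup G) : Set G) :=
        (sylow_ti h.le5 (by norm_num)).mem_normalizer S' (fun e1 => by rw [e1, orderOf_one] at hg5; omega) hgS
          (by rw [inv_eq_of_mul_eq_one_right htt, htg]; exact inv_mem hgS)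
      have h1 : 2 ∣ Nat.card (normalizer ((S' : Subgroup G) : Set G)) := by
        rw [← orderOf_eq_prime (show t ^ 2 = 1 by rw [sq]; exact htt) ht1]
        exact orderOf_dvd_natCard _ htN
      have hsame : Nat.card (normalizer ((S' : Subgroup G) : Set G)) =
          Nat.card (normalizer ((S : Subgroup G) : Set G)) := by
        obtain ⟨c, hc⟩ := MulAction.exists_smul_eq G S S'
        rw [← hc, Sylow.coe_subgroup_smul, conj_smul_eq, normalizer_conjMap, card_conjMap]
      rw [hsame, hf] at h1
      refine ((Nat.prime_two.dvd_mul).1 h1).resolve_left fun h2 => ?_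
      obtain ⟨j, hj⟩ := IsPGroup.iff_card.1 S.2
      rw [hj] at h2
      have := (Nat.prime_dvd_prime_iff_eq Nat.prime_two (by norm_num : Nat.Prime 5)).1 (Nat.prime_two.dvd_of_dvd_pow h2)
      omega
    -- the total
    haveI := Fintype.ofFinite G
    have htot := Finset.card_eq_sum_card_fiberwise (s := (Finset.univ : Finset G)) (t := Finset.Icc 1 5)
      (f := orderOf) (fun g _ => Finset.mem_coe.2 (Finset.mem_Icc.2 ⟨orderOf_pos g, h.le5 g⟩))
    rw [show Finset.Icc 1 5 = ({1, 2, 3, 4, 5} : Finset ℕ) by decide] at htot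
    simp only [Finset.mem_insert, Finset.mem_singleton, OfNat.one_ne_ofNat, OfNat.ofNat_eq_ofNat, Nat.reduceEqDiff,
      or_self, not_false_eq_true, Finset.sum_insert, Finset.sum_singleton, Finset.card_univ,
      ← Nat.card_eq_fintype_card] at htot
    have hcard : ∀ n, (Finset.univ.filter fun g : G => orderOf g = n).card = Nat.card {g : G // orderOf g = n} := by
      intro n
      rw [Nat.card_eq_fintype_card, Fintype.card_subtype]
    simp only [hcard] at htot
    have h1c : Nat.card {g : G // orderOf g = 1} = 1 := by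
      have : Unique {g : G // orderOf g = 1} :=
        ⟨⟨⟨1, orderOf_one⟩⟩, fun g => Subtype.ext (orderOf_eq_one_iff.1 g.2)⟩
      exact Nat.card_unique
    rw [h1c, h4c, hG64] at htot
    rw [hG64] at hnR hnS
    have hpos : 0 < Nat.card Inv := by
      have := Nat.card_pos (α := G)
      rw [hG64] at this
      omega
    change Nat.card Inv * 64 = 1 + (Nat.card Inv + _) at htot
    generalize Nat.card (Sylow 3 G) = nr at *
    generalize Nat.card (Sylow 5 G) = nq at *
    generalize Nat.card (R : Subgroup G) = r at *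
    generalize Nat.card (S : Subgroup G) = q at *
    generalize Nat.card {g : G // orderOf g = 3} = X3 at *
    generalize Nat.card {g : G // orderOf g = 5} = X5 at *
    generalize Nat.card Inv = m at *
    have e2 : e = 2 ∨ 4 ≤ e := by
      have : e ≠ 0 := fun e0 => by rw [e0, mul_zero, mul_zero] at hnR; omega
      have : e ≠ 3 := fun e0 => he3 (dvd_of_eq e0.symm)
      omega
    have f2 : f = 2 ∨ 4 ≤ f := by
      have : f ≠ 0 := fun e0 => by rw [e0, mul_zero, mul_zero] at hnS; omega
      omega
    have hnr9 : nr * 9 ≤ nr * r := Nat.mul_le_mul_left _ hR9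
    have hnq5 : nq * 5 ≤ nq * q := Nat.mul_le_mul_left _ hS5
    rcases e2 with rfl | e4 <;> rcases f2 with rfl | f4
    · rw [← mul_assoc] at hnR hnS
      omega
    · have h' : nq * q * 4 ≤ m * 64 := by rw [← hnS, ← mul_assoc]; exact Nat.mul_le_mul_left _ f4
      rw [← mul_assoc] at hnR
      omega
    · have h' : nr * r * 4 ≤ m * 64 := by rw [← hnR, ← mul_assoc]; exact Nat.mul_le_mul_left _ e4
      rw [← mul_assoc] at hnS
      omega
    · have h' : nq * q * 4 ≤ m * 64 := by rw [← hnS, ← mul_assoc]; exact Nat.mul_le_mul_left _ f4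
      have h'' : nr * r * 4 ≤ m * 64 := by rw [← hnR, ← mul_assoc]; exact Nat.mul_le_mul_left _ e4
      omega

end Cfsg.Lib.SpecFive
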