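import Mathlib

/-!
A 2-group with a fixed-point-free automorphism of odd order inverted by an automorphism `β` of order two, such
that `(β e * e)` has square one for every `e`, is elementary abelian and the fixed points of `β` form half of
it.
-/

set_option autoImplicit false
set_option linter.unusedSectionVars false

namespace Cfsg.Lib.SpecFive

open Subgroup
open scoped commutatorElement

universe u

variable {E : Type u} [Group E]

/-- The data: `a'` is the inverse of `a`, and `b` inverts `a`. -/
structure InvPair (a a' b : E →* E) : Prop where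
  ha : ∀ e, a (a' e) = e
  ha' : ∀ e, a' (a e) = e
  hb : ∀ e, b (b e) = e
  hab : ∀ e, b (a' e) = a (b e)
  fpf : ∀ e, a e = e → e = 1
  odd : ∃ n, Odd n ∧ ∀ e, a^[n] e = e

namespace InvPair

variable {a a' b : E →* E}

theorem hab' (h : InvPair a a' b) (e : E) : b (a e) = a' (b e) := by
  have h1 := h.hab (a (e))
  rw [h.ha'] at h1
  have h2 := congrArg a' h1
  rw [h.ha'] at h2
  exact h2.symm

theorem fpf_two (h : InvPair a a' b) {e : E} (he : a (a e) = e) : e = 1 := by
  refine h.fpf e ?_
  obtain ⟨n, ⟨k, rfl⟩, hn⟩ := h.odd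
  have h1 : ∀ j, a^[2 * j] e = e := by
    intro j
    induction j with
    | zero => rfl
    | succ j ih =>
      rw [show 2 * (j + 1) = 2 * j + 1 + 1 by ring, Function.iterate_succ_apply, Function.iterate_succ_apply, he]
      exact ih
  calc a e = a (a^[2 * k] e) := by rw [h1]
    _ = a^[2 * k + 1] e := (Function.iterate_succ_apply' _ _ _).symm
    _ = e := hn e

/-- The decomposition in a group of exponent two. -/
theorem decomp [Finite E] (h : InvPair a a' b) (h2 : ∀ e : E, e * e = 1) :
    (∀ c, b c = c → ∃ d, b d = d ∧ c = a d * a' d) ∧ (∀ e, ∃ r c, b r = r ∧ b c = c ∧ e = r * a c) ∧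
      (∀ k, b k = k → b (a k) = a k → k = 1) := by
  have hinv : ∀ e : E, e⁻¹ = e := fun e => inv_eq_of_mul_eq_one_right (h2 e)
  have hc : ∀ x y : E, x * y = y * x := fun x y => by
    calc x * y = (x * y)⁻¹ := (hinv _).symm
      _ = _ := by rw [mul_inv_rev, hinv, hinv]
  have huniq : ∀ k, b k = k → b (a k) = a k → k = 1 := fun k hk hk' => h.fpf_two (by
    rw [h.hab', hk] at hk'
    rw [← congrArg a hk', h.ha])
  let F : {c : E // b c = c} → {c : E // b c = c} := fun c => ⟨a c * a' c, by
    rw [map_mul, h.hab, h.hab', c.2, hc]⟩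
  have hF : Function.Injective F := by
    intro c d hcd
    have h1 : a c * a' c = a d * a' d := congrArg Subtype.val hcd
    have h3 : a ((c : E) * d) = a' ((c : E) * d) := by
      rw [map_mul, map_mul]
      calc a c * a d = a c * (a' c * a' c) * a d := by rw [h2, mul_one]
        _ = a c * a' c * (a' c * a d) := by group
        _ = a d * a' d * (a' c * a d) := by rw [h1]
        _ = a d * a d * (a' c * a' d) := by
          rw [hc (a' c) (a d), mul_assoc (a d), ← mul_assoc (a' d), hc (a' d) (a d), mul_assoc (a d) (a' d),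
            ← mul_assoc (a d) (a d), hc (a' d) (a' c)]
        _ = a' c * a' d := by rw [h2, one_mul]
    have h4 : (c : E) * d = 1 := h.fpf_two (by rw [h3, h.ha])
    exact Subtype.ext (by
      calc (c : E) = c * (d * d) := by rw [h2, mul_one]
        _ = c * d * d := by group
        _ = d := by rw [h4, one_mul])
  have hsurj := Finite.surjective_of_injective hF
  refine ⟨fun c hbc => ?_, fun e => ?_, huniq⟩
  · obtain ⟨d, hd⟩ := hsurj ⟨c, hbc⟩
    exact ⟨d, d.2, (congrArg Subtype.val hd).symm⟩
  · obtain ⟨c, hc'⟩ := hsurj ⟨b e * e, by rw [map_mul, h.hb, hc]⟩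
    have hc'' : a c * a' c = b e * e := congrArg Subtype.val hc'
    refine ⟨e * a c, c, ?_, c.2, ?_⟩
    · rw [map_mul, h.hab', c.2]
      have h5 : b e = a c * a' c * e := by
        rw [hc'', mul_assoc, h2, mul_one]
      rw [h5]
      calc a c * a' c * e * a' c = a c * (a' c * (e * a' c)) := by group
        _ = a c * (e * (a' c * a' c)) := by rw [← mul_assoc (a' c), hc (a' c) e, mul_assoc]
        _ = e * a c := by rw [h2, mul_one, hc]
    · rw [mul_assoc, h2, mul_one]

theorem card_fixed_sq [Finite E] (h : InvPair a a' b) (h2 : ∀ e : E, e * e = 1) :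
    Nat.card {e : E // b e = e} ^ 2 = Nat.card E := by
  have hinv : ∀ e : E, e⁻¹ = e := fun e => inv_eq_of_mul_eq_one_right (h2 e)
  obtain ⟨-, hdec, huniq⟩ := h.decomp h2
  let F : {e : E // b e = e} × {e : E // b e = e} → E := fun p => p.1 * a p.2
  have hF : Function.Bijective F := by
    constructor
    · rintro ⟨r, c⟩ ⟨r', c'⟩ he
      have h1 : (r : E) * a c = r' * a c' := he
      have h3 : a ((c : E) * (c' : E)⁻¹) = (r : E)⁻¹ * r' := by
        rw [map_mul, map_inv]
        calc a c * (a c')⁻¹ = (r : E)⁻¹ * (r * a c) * (a c')⁻¹ := by group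
          _ = (r : E)⁻¹ * (r' * a c') * (a c')⁻¹ := by rw [h1]
          _ = _ := by group
      have h4 : (c : E) * (c' : E)⁻¹ = 1 := huniq _ (by rw [map_mul, map_inv, c.2, c'.2])
        (by rw [h3, map_mul, map_inv, r.2, r'.2])
      have h5 : c = c' := Subtype.ext (mul_inv_eq_one.1 h4)
      subst h5
      exact Prod.ext (Subtype.ext (mul_right_cancel h1)) rfl
    · intro e
      obtain ⟨r, c, hr, hc, he⟩ := hdec e
      exact ⟨(⟨r, hr⟩, ⟨c, hc⟩), he.symm⟩
  rw [sq, ← Nat.card_prod]
  exact Nat.card_congr (Equiv.ofBijective F hF)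

end InvPair

/-- One step: from the quotient modulo a central subgroup of exponent two. -/
theorem sq_step [Finite E] {a a' b : E →* E} (h : InvPair a a' b) (h4 : ∀ e, (b e * e) ^ 2 = 1)
    (N : Subgroup E) [N.Normal] (hNc : N ≤ center E) (hN2 : ∀ n ∈ N, n * n = 1)
    (hNa : N ≤ N.comap a) (hNa' : N ≤ N.comap a') (hNb : N ≤ N.comap b)
    (hq : InvPair (QuotientGroup.map N N a hNa) (QuotientGroup.map N N a' hNa') (QuotientGroup.map N N b hNb))
    (hq2 : ∀ q : E ⧸ N, q * q = 1) : ∀ e : E, e * e = 1 := by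
  obtain ⟨hsq, hdec, -⟩ := hq.decomp hq2
  have hcen : ∀ n ∈ N, ∀ x : E, x * n = n * x := fun n hn x => mem_center_iff.1 (hNc hn) x
  have hmul : ∀ n ∈ N, ∀ x : E, x * n * (x * n) = x * x := fun n hn x => by
    calc x * n * (x * n) = x * (n * x) * n := by group
      _ = x * x * (n * n) := by rw [← hcen n hn x]; group
      _ = x * x := by rw [hN2 n hn, mul_one]
  have hex : ∀ x y : E, (x : E ⧸ N) = y → ∃ n ∈ N, x = y * n := fun x y he =>
    ⟨y⁻¹ * x, QuotientGroup.eq.1 he.symm, by group⟩
  set C := {u : E | QuotientGroup.map N N b hNb (u : E ⧸ N) = (u : E ⧸ N)} with hC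
  have hCmul : ∀ u ∈ C, ∀ v ∈ C, u * v ∈ C := fun u hu v hv => by
    simp only [hC, Set.mem_ofPred_eq, QuotientGroup.mk_mul, map_mul] at hu hv ⊢
    rw [hu, hv]
  -- elements of `C` have square one
  have hC2 : ∀ u ∈ C, u * u = 1 := by
    intro u hu
    obtain ⟨d, hd, hud⟩ := hsq u hu
    induction d using QuotientGroup.induction_on with | _ d => ?_
    rw [QuotientGroup.map_mk, QuotientGroup.map_mk] at hud
    rw [QuotientGroup.map_mk] at hd
    obtain ⟨m, hm, hbd⟩ := hex _ _ hd
    obtain ⟨n, hn, hun⟩ := hex _ _ (hud.trans (QuotientGroup.mk_mul _ _ _).symm)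
    have h1 := h4 (a' d)
    rw [h.hab, hbd, map_mul, sq] at h1
    have ham : a m ∈ N := hNa hm
    rw [show a d * a m * a' d = a d * a' d * a m by
      rw [mul_assoc, ← hcen _ ham (a' d), ← mul_assoc], hmul _ ham] at h1
    rw [hun, hmul n hn, h1]
  have hCc : ∀ u ∈ C, ∀ v ∈ C, u * v = v * u := fun u hu v hv => by
    calc u * v = (u * v)⁻¹ := (inv_eq_of_mul_eq_one_right (hC2 _ (hCmul u hu v hv))).symm
      _ = _ := by
        rw [mul_inv_rev, inv_eq_of_mul_eq_one_right (hC2 u hu), inv_eq_of_mul_eq_one_right (hC2 v hv)]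
  have hNC : ∀ n ∈ N, n ∈ C := fun n hn => by
    simp only [hC, Set.mem_ofPred_eq]
    rw [(QuotientGroup.eq_one_iff n).2 hn, map_one]
  have hgen : ∀ e : E, ∃ u ∈ C, ∃ v ∈ C, e = u * a v := by
    intro e
    obtain ⟨r, c, hr, hc, he⟩ := hdec (e : E ⧸ N)
    induction r using QuotientGroup.induction_on with | _ r => ?_
    induction c using QuotientGroup.induction_on with | _ c => ?_
    rw [QuotientGroup.map_mk, ← QuotientGroup.mk_mul] at he
    obtain ⟨n, hn, hen⟩ := hex _ _ he
    refine ⟨r * n, hCmul r hr n (hNC n hn), c, hc, ?_⟩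
    rw [hen, mul_assoc, hcen n hn (a c), ← mul_assoc]
  have hcomm : ∀ x y : E, ⁅x, y⁆ ∈ N := fun x y => by
    rw [← QuotientGroup.eq_one_iff, commutatorElement_def]
    have hinv : ∀ q : E ⧸ N, q⁻¹ = q := fun q => inv_eq_of_mul_eq_one_right (hq2 q)
    simp only [QuotientGroup.mk_mul, QuotientGroup.mk_inv, hinv]
    rw [mul_assoc ((x : E ⧸ N) * y)]
    exact hq2 _
  have hswap : ∀ x y : E, ⁅x, y⁆ = ⁅y, x⁆ := fun x y => by
    rw [← inv_eq_of_mul_eq_one_right (hN2 _ (hcomm y x)), commutatorElement_inv]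
  have hbil : ∀ x y z : E, ⁅x, y * z⁆ = ⁅x, y⁆ * ⁅x, z⁆ := fun x y z => by
    have h1 := hcen _ (hcomm x z) y
    calc ⁅x, y * z⁆ = ⁅x, y⁆ * (y * ⁅x, z⁆ * y⁻¹) := by simp only [commutatorElement_def]; group
      _ = _ := by rw [h1, mul_inv_cancel_right]
  -- the pairing
  have hf : ∀ u ∈ C, ∀ v ∈ C, a ⁅u, a v⁆ = ⁅v, a u⁆ := by
    intro u hu v hv
    have hvq : QuotientGroup.map N N b hNb (v : E ⧸ N) = (v : E ⧸ N) := hv
    set s := a v * a' v with hs
    have hsC : s ∈ C := by
      simp only [hC, Set.mem_ofPred_eq]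
      rw [hs, QuotientGroup.mk_mul, map_mul, ← QuotientGroup.map_mk N N a hNa v,
        ← QuotientGroup.map_mk N N a' hNa' v, hq.hab', hq.hab, hvq]
      have hinv : ∀ q : E ⧸ N, q⁻¹ = q := fun q => inv_eq_of_mul_eq_one_right (hq2 q)
      calc _ = (_ * _)⁻¹ := (hinv _).symm
        _ = _ := by rw [mul_inv_rev, hinv, hinv]
    have has : a (a v) = a s * v⁻¹ := by rw [hs, map_mul, h.ha, mul_inv_cancel_right]
    rw [map_commutatorElement, has, hbil, ← map_commutatorElement,
      commutatorElement_eq_one_iff_commute.2 (hCc u hu s hsC), map_one, one_mul,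
      inv_eq_of_mul_eq_one_right (hC2 v hv), hswap]
  have hf1 : ∀ u ∈ C, ∀ v ∈ C, ⁅u, a v⁆ = 1 := fun u hu v hv =>
    h.fpf_two (by rw [hf u hu v hv, hf v hv u hu])
  intro e
  obtain ⟨u, hu, v, hv, rfl⟩ := hgen e
  have hcom : u * a v = a v * u := commutatorElement_eq_one_iff_commute.1 (hf1 u hu v hv)
  calc u * a v * (u * a v) = u * (a v * u) * a v := by group
    _ = u * u * a (v * v) := by rw [← hcom, map_mul]; group
    _ = 1 := by rw [hC2 u hu, hC2 v hv, map_one, one_mul]

theorem sq_eq_one_aux : ∀ (n : ℕ) (E : Type u) [Group E] [Finite E], Nat.card E ≤ n → IsPGroup 2 E →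
    ∀ a a' b : E →* E, InvPair a a' b → (∀ e, (b e * e) ^ 2 = 1) → ∀ e : E, e * e = 1 := by
  intro n
  induction n with
  | zero =>
    intro E _ _ hc
    have := Nat.card_pos (α := E)
    omega
  | succ n ih =>
    intro E _ _ hc hp a a' b h h4
    rcases subsingleton_or_nontrivial E with hs | hs
    · exact fun e => Subsingleton.elim _ _
    haveI : Fact (Nat.Prime 2) := ⟨Nat.prime_two⟩
    let N : Subgroup E :=
      { carrier := {x | x ∈ center E ∧ x * x = 1}
        one_mem' := ⟨one_mem _, one_mul 1⟩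
        mul_mem' := fun {x y} hx hy => ⟨mul_mem hx.1 hy.1, by
          calc x * y * (x * y) = x * (y * x) * y := by group
            _ = x * x * (y * y) := by rw [mem_center_iff.1 hx.1 y]; group
            _ = 1 := by rw [hx.2, hy.2, one_mul]⟩
        inv_mem' := fun {x} hx => ⟨inv_mem hx.1, by rw [← mul_inv_rev, hx.2, inv_one]⟩ }
    have hNc : N ≤ center E := fun x hx => hx.1
    haveI : N.Normal := ⟨fun x hx g => by rwa [mem_center_iff.1 hx.1 g, mul_inv_cancel_right]⟩
    have hpres : ∀ f f' : E →* E, (∀ e, f (f' e) = e) → N ≤ N.comap f := fun f f' hff x hx => by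
      refine ⟨mem_center_iff.2 fun g => ?_, by rw [← map_mul, hx.2, map_one]⟩
      rw [← hff g, ← map_mul, ← map_mul, mem_center_iff.1 hx.1 (f' g)]
    have hNa := hpres a a' h.ha
    have hNa' := hpres a' a h.ha'
    have hNb := hpres b b h.hb
    have hq : InvPair (QuotientGroup.map N N a hNa) (QuotientGroup.map N N a' hNa')
        (QuotientGroup.map N N b hNb) := by
      refine ⟨fun q => ?_, fun q => ?_, fun q => ?_, fun q => ?_, fun q hq => ?_, ?_⟩
      · induction q using QuotientGroup.induction_on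
        simp only [QuotientGroup.map_mk, h.ha]
      · induction q using QuotientGroup.induction_on
        simp only [QuotientGroup.map_mk, h.ha']
      · induction q using QuotientGroup.induction_on
        simp only [QuotientGroup.map_mk, h.hb]
      · induction q using QuotientGroup.induction_on
        simp only [QuotientGroup.map_mk, h.hab]
      · induction q using QuotientGroup.induction_on with | _ e => ?_
        rw [QuotientGroup.map_mk] at hq
        let φ : N →* N := MonoidHom.mk' (fun x => ⟨a x, hNa x.2⟩) fun x y => Subtype.ext (map_mul a _ _)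
        have hφ : MonoidHom.FixedPointFree φ := fun x hx => Subtype.ext (h.fpf _ (congrArg Subtype.val hx))
        obtain ⟨m, hm⟩ := hφ.commutatorMap_surjective ⟨e⁻¹ * a e, QuotientGroup.eq.1 hq.symm⟩
        have hm' : (m : E) * (a m)⁻¹ = e⁻¹ * a e := by
          have := congrArg Subtype.val hm
          rwa [MonoidHom.commutatorMap_apply, div_eq_mul_inv] at this
        have h1 : e * m = 1 := h.fpf _ (by
          rw [map_mul]
          calc a e * a m = e * (e⁻¹ * a e) * a m := by group
            _ = e * ((m : E) * (a m)⁻¹) * a m := by rw [hm']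
            _ = _ := by group)
        rw [QuotientGroup.eq_one_iff, eq_inv_of_mul_eq_one_left h1]
        exact inv_mem m.2
      · obtain ⟨k, hk, hkk⟩ := h.odd
        refine ⟨k, hk, fun q => ?_⟩
        induction q using QuotientGroup.induction_on with | _ e => ?_
        have : ∀ j, (QuotientGroup.map N N a hNa)^[j] (e : E ⧸ N) = ((a^[j] e : E) : E ⧸ N) := by
          intro j
          induction j with
          | zero => rfl
          | succ j ihj =>
            rw [Function.iterate_succ_apply', ihj, QuotientGroup.map_mk, Function.iterate_succ_apply']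
        rw [this, hkk]
    have hNne : N ≠ ⊥ := by
      intro e
      have := hp.center_nontrivial
      obtain ⟨x, hx⟩ := exists_prime_orderOf_dvd_card' (G := center E) 2 (by
        obtain ⟨j, hj⟩ := IsPGroup.iff_card.1 (hp.to_subgroup (center E))
        rw [hj]
        refine dvd_pow_self 2 fun hj0 => ?_
        rw [hj0, pow_zero] at hj
        exact (Finite.one_lt_card (α := center E)).ne' hj)
      have hxN : (x : E) ∈ N := ⟨x.2, by rw [← sq, ← hx, ← Subgroup.orderOf_coe, pow_orderOf_eq_one]⟩
      rw [e, mem_bot] at hxN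
      rw [← Subgroup.orderOf_coe, hxN, orderOf_one] at hx
      omega
    have hlt : Nat.card (E ⧸ N) < Nat.card E := by
      rw [card_eq_card_quotient_mul_card_subgroup N]
      exact lt_mul_of_one_lt_right Nat.card_pos ((one_lt_card_iff_ne_bot N).2 hNne)
    refine sq_step h h4 N hNc (fun x hx => hx.2) hNa hNa' hNb hq
      (ih (E ⧸ N) (by omega) (hp.to_quotient N) _ _ _ hq fun q => ?_)
    induction q using QuotientGroup.induction_on with | _ e => ?_
    rw [QuotientGroup.map_mk, ← QuotientGroup.mk_mul, ← QuotientGroup.mk_pow, h4, QuotientGroup.mk_one]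

theorem inv_pair_elementary [Finite E] (hp : IsPGroup 2 E) {a a' b : E →* E} (h : InvPair a a' b)
    (h4 : ∀ e, (b e * e) ^ 2 = 1) :
    (∀ e : E, e * e = 1) ∧ Nat.card {e : E // b e = e} ^ 2 = Nat.card E :=
  ⟨sq_eq_one_aux _ E le_rfl hp a a' b h h4, h.card_fixed_sq (sq_eq_one_aux _ E le_rfl hp a a' b h h4)⟩

variable {G : Type u} [Group G]

/-- Conjugation by an element of the normaliser. -/
def conjEnd (E : Subgroup G) (g : G) (hg : g ∈ normalizer (E : Set G)) : E →* E :=
  MonoidHom.mk' (fun e => ⟨g * e * g⁻¹, (mem_normalizer_iff.1 hg e).1 e.2⟩) fun e f => Subtype.ext (by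
    show g * ((e : G) * f) * g⁻¹ = g * e * g⁻¹ * (g * f * g⁻¹)
    group)

theorem conjEnd_apply (E : Subgroup G) (g : G) (hg : g ∈ normalizer (E : Set G)) (e : E) :
    ((conjEnd E g hg e : E) : G) = g * e * g⁻¹ := rfl

/-- The group version. -/
theorem elementary_of_inverted [Finite G] {E : Subgroup G} (hp : IsPGroup 2 E) {x t : G}
    (hx : x ∈ normalizer (E : Set G)) (ht : t ∈ normalizer (E : Set G)) (hxo : Odd (orderOf x))
    (htt : t * t = 1) (hinv : t * x * t = x⁻¹) (hf : ∀ e ∈ E, Commute x e → e = 1)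
    (h4 : ∀ e ∈ E, (t * e) ^ 4 = 1) :
    (∀ e ∈ E, e * e = 1) ∧ Nat.card ↥(E ⊓ centralizer ({t} : Set G)) ^ 2 = Nat.card E := by
  have hti : t⁻¹ = t := inv_eq_of_mul_eq_one_right htt
  have hP : InvPair (conjEnd E x hx) (conjEnd E x⁻¹ (inv_mem hx)) (conjEnd E t ht) := by
    refine ⟨fun e => Subtype.ext ?_, fun e => Subtype.ext ?_, fun e => Subtype.ext ?_,
      fun e => Subtype.ext ?_, fun e he => Subtype.ext ?_, orderOf x, hxo, fun e => Subtype.ext ?_⟩
    · rw [conjEnd_apply, conjEnd_apply]; group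
    · rw [conjEnd_apply, conjEnd_apply]; group
    · rw [conjEnd_apply, conjEnd_apply, hti, show t * (t * (e : G) * t) * t = t * t * e * (t * t) by group, htt, one_mul, mul_one]
    · have hx1 : t * x⁻¹ = x * t := by
        rw [← hinv, show t * (t * x * t) = t * t * x * t by group, htt, one_mul]
      rw [conjEnd_apply, conjEnd_apply, conjEnd_apply, conjEnd_apply]
      calc t * (x⁻¹ * (e : G) * x⁻¹⁻¹) * t⁻¹ = t * x⁻¹ * e * (t * x⁻¹)⁻¹ := by group
        _ = x * t * e * (x * t)⁻¹ := by rw [hx1]
        _ = _ := by group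
    · refine hf _ e.2 ?_
      have := congrArg Subtype.val he
      rw [conjEnd_apply] at this
      exact mul_inv_eq_iff_eq_mul.1 this
    · have : ∀ j, (((conjEnd E x hx)^[j] e : E) : G) = x ^ j * e * (x ^ j)⁻¹ := by
        intro j
        induction j with
        | zero => simp
        | succ j ih =>
          rw [Function.iterate_succ_apply', conjEnd_apply, ih, pow_succ']
          group
      rw [this, pow_orderOf_eq_one]
      simp
  obtain ⟨h1, h2⟩ := inv_pair_elementary hp hP fun e => Subtype.ext (by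
    rw [SubmonoidClass.coe_pow, Subgroup.coe_mul, conjEnd_apply, hti, OneMemClass.coe_one, sq]
    calc t * (e : G) * t * e * (t * e * t * e) = (t * e) ^ 4 := by simp only [pow_succ, pow_zero, one_mul, mul_assoc]
      _ = 1 := h4 _ e.2)
  refine ⟨fun e he => congrArg Subtype.val (h1 ⟨e, he⟩), ?_⟩
  rw [← h2]
  congr 1
  refine Nat.card_congr
    { toFun := fun e => ⟨⟨e, e.2.1⟩, Subtype.ext (by
        rw [conjEnd_apply]; exact mul_inv_eq_iff_eq_mul.2 (mem_centralizer_singleton_iff.1 e.2.2).symm)⟩
      invFun := fun e => ⟨e.1, e.1.2, mem_centralizer_singleton_iff.2 (by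
        have := congrArg Subtype.val e.2
        rw [conjEnd_apply] at this
        exact (mul_inv_eq_iff_eq_mul.1 this).symm)⟩
      left_inv := fun e => rfl
      right_inv := fun e => rfl }

end Cfsg.Lib.SpecFive
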