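import Cfsg.Agent.SpecFive.TwoTI
import Cfsg.Agent.ClassSize.SquareFree.Cover

/-!
The shape of `N / O₂(N)`.
-/

set_option autoImplicit false
set_option linter.unusedSectionVars false

namespace Cfsg.Lib.SpecFive

open Subgroup Cfsg.Lib.Coprime

universe u

variable {X : Type u} [Group X] [Finite X]

theorem top_shape (h : Le5 X) (hcore : ∀ V : Subgroup X, V.Normal → IsPGroup 2 V → V = ⊥)
    (hsq : ∀ x : X, PE 2 x → x * x = 1)
    (hodd : ∀ (p : ℕ) [Fact p.Prime], p ≠ 2 → ∀ P : Subgroup X, IsPGroup p P → Nat.card P ∣ p)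
    (h2 : 2 ∣ Nat.card X) (T : Sylow 2 X) :
    Nat.card T = 2 ∨ (Nat.card T = 4 ∧ (∃ y, orderOf y = 3 ∧ y ∈ normalizer ((T : Subgroup X) : Set X)) ∧
      Nat.card X = 60 ∧ ∃ s x : X, s ≠ 1 ∧ s * s = 1 ∧ orderOf x = 5 ∧ s * x * s⁻¹ = x⁻¹) := by
  classical
  haveI : Fact (Nat.Prime 2) := ⟨Nat.prime_two⟩
  haveI : Fact (Nat.Prime 3) := ⟨Nat.prime_three⟩
  haveI : Fact (Nat.Prime 5) := ⟨by norm_num⟩
  have hT1 : (T : Subgroup X) ≠ ⊥ := T.ne_bot_of_dvd_card h2
  have hTc : ∀ a ∈ (T : Subgroup X), ∀ b ∈ (T : Subgroup X), a * b = b * a := fun a ha b hb => by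
    have hab := hsq _ (pe_of_mem T.2 (mul_mem ha hb))
    calc a * b = (a * b)⁻¹ := (inv_eq_of_mul_eq_one_right hab).symm
      _ = _ := by
        rw [mul_inv_rev, inv_eq_of_mul_eq_one_right (hsq a (pe_of_mem T.2 ha)),
          inv_eq_of_mul_eq_one_right (hsq b (pe_of_mem T.2 hb))]
  set N := normalizer ((T : Subgroup X) : Set X) with hN
  have hTN : (T : Subgroup X) ≤ N := le_normalizer
  -- an odd normal subgroup of order `q` has centraliser a `q`-group
  have hkill : ∀ (K : Subgroup X) (q r : ℕ) [Fact q.Prime] [Fact r.Prime], K.Normal → Nat.card K = q →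
      r ≠ q → ¬ r ∣ q - 1 → r ∣ Nat.card X → False := by
    intro K q r hq hr hKn hKc hrq hrd hrX
    obtain ⟨y, hy⟩ := exists_prime_orderOf_dvd_card' (G := X) r hrX
    obtain ⟨v, hv, hv1⟩ := (bot_or_exists_ne_one K).resolve_left fun e => by
      rw [e, card_bot] at hKc; exact hq.out.one_lt.ne hKc
    exact not_commute_pe h hr.out hq.out hrq (pe_of_prime hy)
      (fun e => by rw [e, orderOf_one] at hy; exact hr.out.one_lt.ne hy)
      (pe_of_mem (IsPGroup.of_card (n := 1) (by rw [hKc, pow_one])) hv) hv1
      (commute_of_cyclic (p := r) hKc (by rw [hy]) (by rw [normalizer_eq_top]; trivial) hrd v hv)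
  by_cases hNT : N ≤ (T : Subgroup X)
  · left
    have hburn : N ≤ centralizer ((T : Subgroup X) : Set X) := fun g hg =>
      mem_centralizer_iff.2 fun t ht => hTc t ht g (hNT hg)
    obtain ⟨K, hKn, hKc, hKmem⟩ := Cfsg.Lib.SquareFreeClasses.hasCompl_of_burnside T hburn
    have hKodd : Odd (Nat.card K) := Nat.coprime_two_right.1 hKc
    obtain ⟨p, hp, hKp⟩ : ∃ p, (p = 3 ∨ p = 5) ∧ Nat.card K = p := by
      rcases card_odd_small h hKodd (fun p _ hp2 P hP _ => hodd p hp2 P hP) with e | e | e
      · exfalso
        refine hT1 ?_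
        have hall : ∀ x : X, PE 2 x := fun x => by
          by_contra hx
          obtain ⟨q, hq, hqd, hne⟩ : ∃ q, q.Prime ∧ q ∣ orderOf x ∧ q ≠ 2 := by
            by_contra hall
            push Not at hall
            exact hx ⟨_, Nat.eq_prime_pow_of_unique_prime_dvd (orderOf_pos x).ne' fun {q} hq hd => hall q hq hd⟩
          have h1 : orderOf (x ^ (orderOf x / q)) = q := orderOf_pow_orderOf_div (orderOf_pos x).ne' hqd
          have h2' := hKmem _ (by rw [h1]; exact (Nat.coprime_primes hq Nat.prime_two).2 hne)
          rw [card_eq_one.1 e, mem_bot] at h2'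
          rw [h2', orderOf_one] at h1
          exact hq.one_lt.ne h1
        have htop : IsPGroup 2 (⊤ : Subgroup X) := isPGroup_of_pe fun g _ => hall g
        exact eq_bot_iff.2 ((le_top : (T : Subgroup X) ≤ ⊤).trans (hcore ⊤ inferInstance htop).le)
      · exact ⟨3, Or.inl rfl, e⟩
      · exact ⟨5, Or.inr rfl, e⟩
    haveI : Fact p.Prime := ⟨by rcases hp with rfl | rfl <;> norm_num⟩
    have hp2 : p ≠ 2 := by omega
    have hKpg : IsPGroup p K := IsPGroup.of_card (n := 1) (by rw [hKp, pow_one])
    obtain ⟨v, hv, hv1⟩ := (bot_or_exists_ne_one K).resolve_left fun e => by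
      rw [e, card_bot] at hKp; omega
    have hinv : ∀ t ∈ (T : Subgroup X), t ≠ 1 → t * v * t = v⁻¹ := fun t ht ht1 =>
      inverts_odd h hp2 hKpg (orderOf_eq_prime (by rw [sq]; exact hsq t (pe_of_mem T.2 ht)) ht1)
        (by rw [normalizer_eq_top]; trivial) v hv
    obtain ⟨t, ht⟩ := exists_prime_orderOf_dvd_card' (G := T) 2 (T.dvd_card_of_dvd_card h2)
    have hto : orderOf (t : X) = 2 := by rw [Subgroup.orderOf_coe, ht]
    have ht1 : (t : X) ≠ 1 := fun e => by rw [e, orderOf_one] at hto; omega
    have heq : zpowers (t : X) = (T : Subgroup X) := by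
      refine le_antisymm (zpowers_le.2 t.2) fun s hs => ?_
      rcases eq_or_ne s 1 with rfl | hs1
      · exact one_mem _
      have hc : Commute ((t : X) * s) v := by
        have h1 := hinv t t.2 ht1
        have h3 := hinv s hs hs1
        have hss := hsq s (pe_of_mem T.2 hs)
        have htt := hsq (t : X) (pe_of_mem T.2 t.2)
        show (t : X) * s * v = v * (t * s)
        calc (t : X) * s * v = t * (s * v * (s * s)) := by rw [hss, mul_one, mul_assoc]
          _ = t * (s * v * s) * (t * t) * s := by rw [htt]; group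
          _ = (t * v * t)⁻¹ * (t * s) := by
            rw [h3, mul_inv_rev, mul_inv_rev, inv_eq_of_mul_eq_one_right htt]; group
          _ = v * (t * s) := by rw [h1, inv_inv]
      by_cases hts : (t : X) * s = 1
      · rw [eq_inv_of_mul_eq_one_right hts]; exact inv_mem (mem_zpowers _)
      · exact (not_commute_pe h Nat.prime_two Fact.out hp2.symm (pe_of_mem T.2 (mul_mem t.2 hs)) hts
          (pe_of_mem hKpg hv) hv1 hc).elim
    show Nat.card (T : Subgroup X) = 2
    rw [← heq, Nat.card_zpowers, hto]
  · right
    obtain ⟨y, hyN, hyT⟩ := SetLike.not_le_iff_exists.1 hNT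
    obtain ⟨q, hq, hyq⟩ : ∃ q, (q = 3 ∨ q = 5) ∧ orderOf y = q := by
      refine ⟨orderOf y, ?_, rfl⟩
      have h5 := h y
      have h0 := orderOf_pos y
      have hnot : ¬ PE 2 y := fun hy => hyT (mem_of_mem_normalizer T hyN hy)
      interval_cases hy : orderOf y
      · exact absurd ⟨0, by rw [pow_zero, hy]⟩ hnot
      · exact absurd ⟨1, by rw [pow_one, hy]⟩ hnot
      · exact Or.inl rfl
      · exact absurd ⟨2, by rw [hy]; norm_num⟩ hnot
      · exact Or.inr rfl
    haveI hqf : Fact q.Prime := ⟨by rcases hq with rfl | rfl <;> norm_num⟩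
    have hNne : N ≠ ⊤ := fun e => hT1 (hcore _ (normalizer_eq_top_iff.1 e) T.2)
    -- the index of `T`
    set m := (T : Subgroup X).index with hm
    have hcard : Nat.card (T : Subgroup X) * m = Nat.card X := (T : Subgroup X).card_mul_index
    have hm15 : m ∣ 15 := by
      rw [Nat.dvd_iff_prime_pow_dvd_dvd]
      intro p k hp hk
      haveI := Fact.mk hp
      rcases k with _ | k
      · simp
      have hpd : p ∣ m := (dvd_pow_self p (Nat.succ_ne_zero k)).trans hk
      have hp2 : p ≠ 2 := by rintro rfl; exact T.not_dvd_index hpd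
      have hpX : p ^ (k + 1) ∣ Nat.card X := hk.trans (index_dvd_card _)
      obtain ⟨P⟩ : Nonempty (Sylow p X) := inferInstance
      refine ((P.pow_dvd_card_of_pow_dvd_card hpX).trans (hodd p hp2 P P.2)).trans ?_
      rcases primes h hp ((dvd_pow_self p (Nat.succ_ne_zero k)).trans hpX) with rfl | rfl | rfl
      · exact absurd rfl hp2
      · norm_num
      · norm_num
    have hcop : Nat.Coprime q (Nat.card (T : Subgroup X)) := by
      obtain ⟨j, hj⟩ := IsPGroup.iff_card.1 T.2
      rw [hj]
      exact Nat.Coprime.pow_right _ ((Nat.coprime_primes hqf.out Nat.prime_two).2 (by omega))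
    obtain ⟨c, hc⟩ : q ∣ (T : Subgroup X).relIndex N := by
      have h1 : q ∣ Nat.card N := hyq ▸ orderOf_dvd_natCard N hyN
      rw [← ((T : Subgroup X).subgroupOf N).card_mul_index,
        Nat.card_congr (subgroupOfEquivOfLe hTN).toEquiv] at h1
      exact hcop.dvd_of_dvd_mul_left h1
    have hmul : (T : Subgroup X).relIndex N * N.index = m := relIndex_mul_index hTN
    have hidx1 : N.index ≠ 1 := fun e => hNne (index_eq_one.1 e)
    obtain ⟨r, hr, hrq, hidx, hrel, hmeq⟩ : ∃ r, (r = 3 ∨ r = 5) ∧ r ≠ q ∧ N.index = r ∧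
        (T : Subgroup X).relIndex N = q ∧ m = 15 := by
      have hd := Nat.mem_divisors.2 ⟨hm15, by norm_num⟩
      rw [show Nat.divisors 15 = {1, 3, 5, 15} by decide] at hd
      simp only [Finset.mem_insert, Finset.mem_singleton] at hd
      rw [hc] at hmul ⊢
      have hpos : 0 < m := Nat.pos_of_ne_zero (index_ne_zero_of_finite)
      have hcpos : c ≠ 0 := fun e => by rw [e] at hmul; simp at hmul; omega
      have h2' : 2 ≤ N.index := by
        have : N.index ≠ 0 := index_ne_zero_of_finite
        omega
      have hle : q * c * 2 ≤ m := hmul ▸ Nat.mul_le_mul_left (q * c) h2'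
      have hc3 : c ≤ 2 := by
        rcases hq with rfl | rfl <;> rcases hd with e | e | e | e <;> omega
      interval_cases c
      · omega
      · rw [mul_one] at hmul hle
        rcases hq with rfl | rfl <;> rcases hd with e | e | e | e <;>
          first
            | omega
            | exact ⟨5, Or.inr rfl, by norm_num, by omega, by omega, e⟩
            | exact ⟨3, Or.inl rfl, by norm_num, by omega, by omega, e⟩
      · exfalso
        have h2m : 2 ∣ m := ⟨q * N.index, by rw [← hmul]; ring⟩
        exact T.not_dvd_index h2m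
    set φ := MulAction.toPermHom X (X ⧸ N) with hφ
    have hker : φ.ker ≤ N := by rw [hφ, ← normalCore_eq_ker]; exact normalCore_le N
    have hK2 : φ.ker ⊓ (T : Subgroup X) = ⊥ := by
      refine hcore _ ⟨fun v hv g => ?_⟩ (T.2.to_le inf_le_right)
      obtain ⟨hv1, hv2⟩ := hv
      have h1 : g * v * g⁻¹ ∈ φ.ker := (MonoidHom.normal_ker φ).conj_mem v hv1 g
      refine ⟨h1, mem_of_mem_normalizer T (hker h1) ?_⟩
      obtain ⟨k, hk⟩ := pe_of_mem T.2 hv2
      exact ⟨k, by rw [show g * v * g⁻¹ = MulAut.conj g v from rfl, MulEquiv.orderOf_eq, hk]⟩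
    have hKq : Nat.card φ.ker ∣ q := by
      have h1 := card_sup_of_inf_eq_bot (N := φ.ker) (H := (T : Subgroup X)) le_normalizer_of_normal hK2
      have h2' : Nat.card N = Nat.card (T : Subgroup X) * q := by
        rw [← hrel, ← ((T : Subgroup X).subgroupOf N).card_mul_index,
          Nat.card_congr (subgroupOfEquivOfLe hTN).toEquiv]
        rfl
      have h3 := card_dvd_of_le (sup_le hker hTN)
      rw [h1, h2', mul_comm] at h3
      exact Nat.dvd_of_mul_dvd_mul_left Nat.card_pos h3
    have hrng : Nat.card φ.range ∣ Nat.factorial r := by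
      have h1 := card_subgroup_dvd_card φ.range
      have h2' : Nat.card (X ⧸ N) = r := by rw [← index_eq_card, hidx]
      rwa [Nat.card_perm, h2'] at h1
    have hsplit : Nat.card φ.range * Nat.card φ.ker = Nat.card X := by
      rw [← index_ker, mul_comm]
      exact φ.ker.card_mul_index
    have h15 : 15 ∣ Nat.card X := hmeq ▸ index_dvd_card _
    rcases hq with rfl | rfl
    · -- `q = 3`
      obtain rfl : r = 5 := by omega
      rcases (Nat.dvd_prime Nat.prime_three).1 hKq with e | e
      · rw [e, mul_one] at hsplit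
        rw [hsplit, show Nat.factorial 5 = 120 from rfl] at hrng
        rw [hmeq] at hcard
        have h8 : Nat.card (T : Subgroup X) ∣ 8 := by
          refine Nat.dvd_of_mul_dvd_mul_right (by norm_num : 0 < 15) ?_
          rw [hcard]; exact hrng
        obtain ⟨j, hj, hj'⟩ := (Nat.dvd_prime_pow Nat.prime_two).1 (show Nat.card (T : Subgroup X) ∣ 2 ^ 3 from h8)
        change Nat.card T = 4 ∧ _
        suffices hT4 : Nat.card (T : Subgroup X) = 4 by
          rw [hT4] at hcard
          have hX : Nat.card X = 60 := by omega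
          refine ⟨hT4, ⟨y, hyq, hyN⟩, hX, ?_⟩
          obtain ⟨P⟩ : Nonempty (Sylow 5 X) := inferInstance
          have hP5 : Nat.card (P : Subgroup X) = 5 :=
            ((Nat.dvd_prime (by norm_num : Nat.Prime 5)).1 (hodd 5 (by norm_num) P P.2)).resolve_left fun e' =>
              P.ne_bot_of_dvd_card (by rw [hX]; norm_num) (card_eq_one.1 e')
          set M := normalizer ((P : Subgroup X) : Set X) with hM
          have hn : Nat.card (Sylow 5 X) = M.index := Sylow.card_eq_index_normalizer P
          have hmod := card_sylow_modEq_one 5 X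
          have hPM : (P : Subgroup X) ≤ M := le_normalizer
          have hMc : Nat.card M * M.index = 60 := by rw [M.card_mul_index, hX]
          have h5M : 5 ∣ Nat.card M := hP5 ▸ card_dvd_of_le hPM
          have hM1 : M.index ≠ 1 := fun e' => by
            haveI : (P : Subgroup X).Normal := normalizer_eq_top_iff.1 (index_eq_one.1 e')
            exact hkill P 5 3 inferInstance hP5 (by norm_num) (by norm_num) (by rw [hX]; norm_num)
          obtain ⟨c, hc'⟩ := h5M
          have hc12 : c * M.index = 12 := by
            rw [hc'] at hMc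
            linarith
          have hidx6 : M.index = 6 := by
            have hd' := Nat.mem_divisors.2 ⟨(Dvd.intro_left c hc12 : M.index ∣ 12), by norm_num⟩
            rw [show Nat.divisors 12 = {1, 2, 3, 4, 6, 12} by decide] at hd'
            simp only [Finset.mem_insert, Finset.mem_singleton] at hd'
            rw [hn, Nat.ModEq] at hmod
            omega
          obtain ⟨w, hw⟩ := exists_prime_orderOf_dvd_card' (G := M) 2 (by
            rw [hc']
            rw [hidx6] at hc12
            exact Dvd.dvd.mul_left ⟨1, by omega⟩ _)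
          have hwo : orderOf (w : X) = 2 := by rw [Subgroup.orderOf_coe, hw]
          have hww : (w : X) * w = 1 := by rw [← sq, ← hwo, pow_orderOf_eq_one]
          obtain ⟨x, hx⟩ := exists_prime_orderOf_dvd_card' (G := (P : Subgroup X)) 5 (dvd_of_eq hP5.symm)
          refine ⟨w, x, fun e' => by rw [e', orderOf_one] at hwo; omega, hww, by rw [Subgroup.orderOf_coe, hx], ?_⟩
          rw [inv_eq_of_mul_eq_one_right hww]
          exact inverts_odd h (by norm_num) P.2 hwo w.2 x x.2
        interval_cases j
        · exact absurd (card_eq_one.1 hj') hT1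
        · exfalso
          obtain ⟨t, ht⟩ := exists_prime_orderOf_dvd_card' (G := T) 2 (T.dvd_card_of_dvd_card h2)
          exact not_commute_pe h Nat.prime_three Nat.prime_two (by norm_num) (pe_of_prime hyq)
            (fun e => by rw [e, orderOf_one] at hyq; omega) (pe_of_mem T.2 t.2)
            (fun e => by rw [← Subgroup.orderOf_coe, e, orderOf_one] at ht; omega)
            (commute_of_cyclic (p := 3) (by simpa using hj') (by rw [hyq]) hyN (by decide) _ t.2)
        · exact hj'
        · exfalso
          have hX : Nat.card X = 120 := by rw [← hcard, hj']; norm_num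
          have hinj : Function.Injective φ := φ.ker_eq_bot_iff.1 (card_eq_one.1 e)
          have h120 : Nat.card (Equiv.Perm (X ⧸ N)) = 120 := by
            rw [Nat.card_perm, ← index_eq_card, hidx]; rfl
          have hbij : Function.Bijective φ := (Nat.bijective_iff_injective_and_card φ).2 ⟨hinj, by rw [hX, h120]⟩
          haveI := Fintype.ofFinite (X ⧸ N)
          obtain ⟨g, hg⟩ := hbij.2 ((Fintype.equivFinOfCardEq (α := X ⧸ N) (n := 5)
            (by rw [← Nat.card_eq_fintype_card, ← index_eq_card, hidx])).symm.permCongrHom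
            (Equiv.swap 0 1 * Equiv.swap 2 3 * Equiv.swap 3 4))
          have ho := orderOf_injective φ hinj g
          rw [hg, MulEquiv.orderOf_eq] at ho
          have h5 := h g
          rw [← ho] at h5
          have hsix : orderOf (Equiv.swap 0 1 * Equiv.swap 2 3 * Equiv.swap 3 4 : Equiv.Perm (Fin 5)) = 6 := by
            rw [orderOf_eq_iff (by norm_num)]
            refine ⟨by decide, fun k hk hk0 => ?_⟩
            interval_cases k <;> decide
          omega
      · exact (hkill φ.ker 3 5 inferInstance e (by norm_num) (by norm_num) (dvd_trans (by norm_num) h15)).elim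
    · -- `q = 5`
      obtain rfl : r = 3 := by omega
      rcases (Nat.dvd_prime (by norm_num : Nat.Prime 5)).1 hKq with e | e
      · exfalso
        rw [e, mul_one] at hsplit
        rw [hsplit] at hrng
        have : 15 ∣ Nat.factorial 3 := h15.trans hrng
        norm_num [Nat.factorial] at this
      · exact (hkill φ.ker 5 3 inferInstance e (by norm_num) (by norm_num) (dvd_trans (by norm_num) h15)).elim

end Cfsg.Lib.SpecFive
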