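import Cfsg.Agent.SpecFive.Elem
import Cfsg.Agent.SpecFive.TopShape
import Cfsg.Agent.S3195

/-!
A maximal 2-subgroup whose normaliser has no normal Sylow 2-subgroup.
-/

set_option autoImplicit false
set_option linter.unusedSectionVars false

namespace Cfsg.Lib.SpecFive

open Subgroup Cfsg.Lib.Coprime

universe u

variable {G : Type u} [Group G] [Finite G]

/-- `E = O₂(N(E))` and `N(E)` has no normal Sylow 2-subgroup. -/
structure Loc (E : Subgroup G) : Prop where
  hp : IsPGroup 2 E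
  ne : E ≠ ⊥
  notclosed : ¬ Closed 2 E
  core : ∀ V : Subgroup G, IsPGroup 2 V → V ≤ normalizer (E : Set G) →
    normalizer (E : Set G) ≤ normalizer (V : Set G) → V ≤ E

theorem exists_loc (h : Hyp G) : ∃ E : Subgroup G, Loc E := by
  classical
  haveI : Fact (Nat.Prime 2) := ⟨Nat.prime_two⟩
  obtain ⟨D0, hD0⟩ : ∃ D : Subgroup G, IsPGroup 2 D ∧ D ≠ ⊥ ∧ ¬ Closed 2 D := by
    by_contra hall
    push Not at hall
    exact not_ti_two h (isTI_of_closed hall)
  obtain ⟨E, ⟨hEp, hE1, hEnc⟩, hmax⟩ := WellFounded.has_min (wellFounded_gt (α := Subgroup G))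
    {D : Subgroup G | IsPGroup 2 D ∧ D ≠ ⊥ ∧ ¬ Closed 2 D} ⟨D0, hD0⟩
  refine ⟨E, hEp, hE1, hEnc, fun V hV hVN hNV => ?_⟩
  by_contra hle
  have hp2 : IsPGroup 2 (E ⊔ V : Subgroup G) := IsPGroup.to_sup_of_normal_left' hEp hV hVN
  have hlt : E < E ⊔ V := left_lt_sup.2 hle
  refine hmax (E ⊔ V) ⟨hp2, fun e => hE1 (eq_bot_iff.2 (e ▸ le_sup_left)), fun ⟨W, hW, hWm⟩ => ?_⟩ hlt
  have hle2 : normalizer (E : Set G) ≤ normalizer ((E ⊔ V : Subgroup G) : Set G) := fun g hg => by
    rw [← conjMap_eq_self_iff, conjMap_sup, conjMap_eq_self hg, conjMap_eq_self (hNV hg)]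
  exact hEnc ⟨W, hW, fun g hg hgp => hWm g (hle2 hg) hgp⟩

namespace Loc

variable {E : Subgroup G}

theorem exists_two_outside (L : Loc E) : ∃ y ∈ normalizer (E : Set G), y ∉ E ∧ PE 2 y := by
  by_contra hall
  push Not at hall
  exact L.notclosed ⟨E, L.hp, fun g hg hgp => by_contra fun hgE => hall g hg hgE hgp⟩

theorem quot_core (L : Loc E) (V : Subgroup (normalizer (E : Set G) ⧸ E.subgroupOf (normalizer (E : Set G))))
    (hVn : V.Normal) (hV : IsPGroup 2 V) : V = ⊥ := by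
  haveI : Fact (Nat.Prime 2) := ⟨Nat.prime_two⟩
  set N := normalizer (E : Set G) with hN
  set W := V.comap (QuotientGroup.mk' (E.subgroupOf N)) with hW
  have hWp : IsPGroup 2 W := by
    refine hV.comap_of_ker_isPGroup _ ?_
    rw [QuotientGroup.ker_mk']
    exact L.hp.of_equiv (subgroupOfEquivOfLe le_normalizer).symm
  haveI : W.Normal := hVn.comap _
  have hnor : N ≤ normalizer ((W.map N.subtype : Subgroup G) : Set G) := by
    intro g hg
    rw [← conjMap_eq_self_iff]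
    refine eq_of_le_of_card_ge ?_ (card_conjMap _ _).ge
    rintro x hx
    obtain ⟨w, hw, hwx⟩ := mem_map.1 (mem_conjMap.1 hx)
    refine ⟨⟨g, hg⟩ * w * ⟨g, hg⟩⁻¹, Subgroup.Normal.conj_mem inferInstance w hw _, ?_⟩
    simp only [coe_subtype, Subgroup.coe_mul, Subgroup.coe_inv] at hwx ⊢
    rw [hwx]
    group
  have hle := L.core (W.map N.subtype) (hWp.map _) (map_subtype_le _) hnor
  rw [eq_bot_iff]
  intro v hv
  obtain ⟨w, rfl⟩ := QuotientGroup.mk'_surjective _ v
  rw [mem_bot]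
  exact (QuotientGroup.eq_one_iff w).2 (mem_subgroupOf.2 (hle ⟨w, hv, rfl⟩))

/-- Lifting of an inverted element of odd prime order. -/
theorem lift_of_inverted (L : Loc E) (h : Le5 G) {s : G} (hs : s ∈ normalizer (E : Set G)) (hss : s * s ∈ E)
    (x : normalizer (E : Set G) ⧸ E.subgroupOf (normalizer (E : Set G))) {p : ℕ} (hp : p.Prime) (hp2 : p ≠ 2)
    (hxo : orderOf x = p)
    (hxi : QuotientGroup.mk' (E.subgroupOf (normalizer (E : Set G))) ⟨s, hs⟩ * x *
      (QuotientGroup.mk' (E.subgroupOf (normalizer (E : Set G))) ⟨s, hs⟩)⁻¹ = x⁻¹) :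
    ∃ t g : G, t * s⁻¹ ∈ E ∧ t * t = 1 ∧ g ∈ normalizer (E : Set G) ∧
      orderOf g = p ∧ t * g * t = g⁻¹ := by
  haveI : Fact (Nat.Prime 2) := ⟨Nat.prime_two⟩
  haveI := Fact.mk hp
  revert x
  set N := normalizer (E : Set G) with hN
  set Q := E.subgroupOf N with hQ
  set s' : N ⧸ Q := QuotientGroup.mk' Q ⟨s, hs⟩ with hs'
  intro x hxo hxi
  obtain ⟨g, hg⟩ := QuotientGroup.mk'_surjective Q x
  have hgd : p ∣ orderOf (g : G) := by
    rw [Subgroup.orderOf_coe, ← hxo, ← hg]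
    exact orderOf_map_dvd _ g
  have hgo : orderOf (g : G) = p := by
    obtain ⟨c, hc⟩ := hgd
    have h5 := h (g : G)
    have h0 := orderOf_pos (g : G)
    rw [hc] at h5 h0 ⊢
    have hp3 : 3 ≤ p := by have := hp.two_le; omega
    rcases c with _ | _ | c
    · simp at h0
    · simp
    · exfalso
      have : 3 * 2 ≤ p * (c + 1 + 1) := Nat.mul_le_mul hp3 (by omega)
      omega
  have hgN : (g : G) ∈ N := g.2
  have hZ : IsPGroup p (zpowers (g : G)) := IsPGroup.of_card (n := 1) (by rw [Nat.card_zpowers, hgo, pow_one])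
  have hcopE : (Nat.card E).Coprime (Nat.card (zpowers (g : G))) := by
    obtain ⟨n, hn⟩ := IsPGroup.iff_card.1 L.hp
    rw [hn, Nat.card_zpowers, hgo]
    exact Nat.Coprime.pow_left _ ((Nat.coprime_primes Nat.prime_two hp).2 hp2.symm)
  have hmemK : s * g * s⁻¹ ∈ E ⊔ zpowers (g : G) := by
    have h1 : QuotientGroup.mk' Q (⟨s, hs⟩ * g * ⟨s, hs⟩⁻¹ * g) = 1 := by
      rw [map_mul, map_mul, map_mul, map_inv, hg, ← hs', hxi, inv_mul_cancel]
    have h2 : s * g * s⁻¹ * g ∈ E := mem_subgroupOf.1 ((QuotientGroup.eq_one_iff _).1 h1)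
    have h3 := mul_mem (mem_sup_left (T := zpowers (g : G)) h2)
      (mem_sup_right (S := E) (inv_mem (mem_zpowers (g : G))))
    rwa [mul_inv_cancel_right] at h3
  obtain ⟨k, hk, hkK⟩ := exists_conj_eq_of_coprime (N := E) (H := zpowers (g : G))
    (K := conjMap s (zpowers (g : G))) (zpowers_le.2 hgN) hcopE (Or.inr inferInstance)
    (by
      rw [conjMap, MonoidHom.map_zpowers, zpowers_le]
      exact hmemK)
    (card_conjMap _ _)
  set t := k⁻¹ * s with ht
  have htN : t ∈ N := mul_mem (inv_mem (le_normalizer hk)) hs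
  have htconj : conjMap t (zpowers (g : G)) = zpowers (g : G) := by
    rw [ht, ← conjMap_mul, hkK, conjMap_inv_conjMap]
  have hts : t * s⁻¹ ∈ E := by rw [ht, mul_inv_cancel_right]; exact inv_mem hk
  have htg : t * g * t⁻¹ = (g : G)⁻¹ := by
    have h1 : t * g * t⁻¹ ∈ zpowers (g : G) := by
      rw [← htconj, mem_conjMap, show t⁻¹ * (t * g * t⁻¹) * t = g by group]
      exact mem_zpowers _
    have h2 : QuotientGroup.mk' Q (⟨t, htN⟩ * g * ⟨t, htN⟩⁻¹ * g) = 1 := by
      have e1 : QuotientGroup.mk' Q ⟨t, htN⟩ = s' := by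
        refine QuotientGroup.eq.2 (mem_subgroupOf.2 ?_)
        show t⁻¹ * s ∈ E
        rw [ht, mul_inv_rev, inv_inv]
        exact (mem_normalizer_iff''.1 hs k).1 hk
      rw [map_mul, map_mul, map_mul, map_inv, hg, e1, hxi, inv_mul_cancel]
    have h3 : t * g * t⁻¹ * g ∈ E := mem_subgroupOf.1 ((QuotientGroup.eq_one_iff _).1 h2)
    exact eq_inv_of_mul_eq_one_left (eq_one_of_coprime hcopE h3 (mul_mem h1 (mem_zpowers _)))
  have htt : t * t = 1 := by
    by_contra hne'
    have hE' : t * t ∈ E := by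
      have e1 : s⁻¹ * (t * s⁻¹) * s ∈ E := (mem_normalizer_iff''.1 hs _).1 hts
      have e2 := mul_mem (mul_mem hts hss) e1
      rwa [show t * s⁻¹ * (s * s) * (s⁻¹ * (t * s⁻¹) * s) = t * t by group] at e2
    have hc : Commute (t * t) (g : G) := by
      show t * t * g = g * (t * t)
      calc t * t * g = t * (t * g * t⁻¹) * t := by group
        _ = t * (g : G)⁻¹ * t := by rw [htg]
        _ = (t * g * t⁻¹)⁻¹ * (t * t) := by group
        _ = _ := by rw [htg, inv_inv]
    exact not_commute_pe h Nat.prime_two hp hp2.symm (pe_of_mem L.hp hE') hne' (pe_of_prime hgo)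
      (fun e => by rw [e, orderOf_one] at hgo; exact hp.one_lt.ne hgo) hc
  refine ⟨t, g, hts, htt, hgN, hgo, ?_⟩
  rw [← htg, inv_eq_of_mul_eq_one_right htt]

/-- An involution modulo `E` has a lift which is an involution inverting an element of odd prime order. -/
theorem inv_lift (L : Loc E) (h : Le5 G) {s : G} (hs : s ∈ normalizer (E : Set G)) (hsE : s ∉ E)
    (hss : s * s ∈ E) :
    ∃ t g : G, ∃ p : ℕ, p.Prime ∧ p ≠ 2 ∧ t * s⁻¹ ∈ E ∧ t * t = 1 ∧ g ∈ normalizer (E : Set G) ∧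
      orderOf g = p ∧ t * g * t = g⁻¹ := by
  haveI : Fact (Nat.Prime 2) := ⟨Nat.prime_two⟩
  set N := normalizer (E : Set G) with hN
  set Q := E.subgroupOf N with hQ
  set s' : N ⧸ Q := QuotientGroup.mk' Q ⟨s, hs⟩ with hs'
  have hs1 : s' * s' = 1 := by
    rw [hs', ← map_mul]
    exact (QuotientGroup.eq_one_iff _).2 (mem_subgroupOf.2 hss)
  have hne : s' ≠ 1 := fun e => hsE (mem_subgroupOf.1 ((QuotientGroup.eq_one_iff (⟨s, hs⟩ : N)).1 e))
  have hcore : s' ∉ Cfsg.pCore 2 (N ⧸ Q) := by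
    have : Cfsg.pCore 2 (N ⧸ Q) = ⊥ := by
      rw [eq_bot_iff, Cfsg.pCore]
      exact sSup_le fun V hV => (L.quot_core V hV.1 hV.2).le
    rw [this, mem_bot]
    exact hne
  obtain ⟨x0, hx01, hx0o, hx0i⟩ := Cfsg.Agent.S3195.exists_inverted hs1 hcore
  obtain ⟨p, hp, hpd⟩ := Nat.exists_prime_and_dvd (fun e => hx01 (orderOf_eq_one_iff.1 e))
  haveI := Fact.mk hp
  have hp2 : p ≠ 2 := by
    rintro rfl
    exact (Nat.not_even_iff_odd.2 hx0o) (even_iff_two_dvd.2 hpd)
  set x := x0 ^ (orderOf x0 / p) with hx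
  have hxo : orderOf x = p := orderOf_pow_orderOf_div (orderOf_pos x0).ne' hpd
  have hsinv : s'⁻¹ = s' := inv_eq_of_mul_eq_one_right hs1
  have hxi : s' * x * s'⁻¹ = x⁻¹ := by
    rw [hx, ← conj_pow, hsinv, hx0i, inv_pow]
  obtain ⟨t, g, h1, h2, h3, h4, h5⟩ := L.lift_of_inverted h hs hss x hp hp2 hxo hxi
  exact ⟨t, g, p, hp, hp2, h1, h2, h3, h4, h5⟩

theorem pe_mul (L : Loc E) {t e : G} (ht : t ∈ normalizer (E : Set G)) (htp : PE 2 t) (he : e ∈ E) :
    PE 2 (t * e) := by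
  haveI : Fact (Nat.Prime 2) := ⟨Nat.prime_two⟩
  have hZ : IsPGroup 2 (zpowers t) := by
    obtain ⟨k, hk⟩ := htp
    exact IsPGroup.of_card (n := k) (by rw [Nat.card_zpowers, hk])
  exact pe_of_mem (IsPGroup.to_sup_of_normal_left' L.hp hZ (zpowers_le.2 ht))
    (mul_mem (mem_sup_right (mem_zpowers t)) (mem_sup_left he))

theorem pe_of_sq {t : G} (htt : t * t = 1) : PE 2 t := by
  rcases eq_or_ne t 1 with rfl | h1
  · exact ⟨0, by simp⟩
  · exact pe_of_prime (orderOf_eq_prime (by rw [sq]; exact htt) h1)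

theorem elem_cent (L : Loc E) (h : Le5 G) {s : G} (hs : s ∈ normalizer (E : Set G)) (hsE : s ∉ E)
    (hss : s * s ∈ E) : (∀ e ∈ E, e * e = 1) ∧ Nat.card ↥(E ⊓ centralizer ({s} : Set G)) ^ 2 = Nat.card E := by
  haveI : Fact (Nat.Prime 2) := ⟨Nat.prime_two⟩
  obtain ⟨t, g, p, hp, hp2, hts, htt, hgN, hgo, htg⟩ := L.inv_lift h hs hsE hss
  have htN : t ∈ normalizer (E : Set G) := by
    have := mul_mem (le_normalizer hts) hs
    rwa [inv_mul_cancel_right] at this
  obtain ⟨h1, h2⟩ := elementary_of_inverted L.hp hgN htN (by rw [hgo]; exact hp.odd_of_ne_two hp2) htt htg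
    (fun e he hc => by
      by_contra he1
      exact not_commute_pe h hp Nat.prime_two hp2 (pe_of_prime hgo)
        (fun e' => by rw [e', orderOf_one] at hgo; exact hp.one_lt.ne hgo) (pe_of_mem L.hp he) he1 hc)
    (fun e he => pow_four_of_pe h (L.pe_mul htN (pe_of_sq htt) he))
  refine ⟨h1, ?_⟩
  have hcm : ∀ a ∈ E, ∀ b ∈ E, a * b = b * a := fun a ha b hb => by
    calc a * b = (a * b)⁻¹ := (inv_eq_of_mul_eq_one_right (h1 _ (mul_mem ha hb))).symm
      _ = _ := by rw [mul_inv_rev, inv_eq_of_mul_eq_one_right (h1 a ha), inv_eq_of_mul_eq_one_right (h1 b hb)]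
  rw [← h2]
  suffices E ⊓ centralizer ({s} : Set G) = E ⊓ centralizer ({t} : Set G) by rw [this]
  ext v
  simp only [Subgroup.mem_inf, mem_centralizer_singleton_iff]
  constructor
  · rintro ⟨hv, hc⟩
    refine ⟨hv, ?_⟩
    calc v * t = v * (t * s⁻¹) * s := by group
      _ = t * s⁻¹ * (v * s) := by rw [hcm v hv _ hts]; group
      _ = t * v := by rw [hc]; group
  · rintro ⟨hv, hc⟩
    refine ⟨hv, ?_⟩
    have hi : v * (t * s⁻¹)⁻¹ = (t * s⁻¹)⁻¹ * v := hcm v hv _ (inv_mem hts)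
    calc v * s = v * (t * s⁻¹)⁻¹ * t := by group
      _ = (t * s⁻¹)⁻¹ * (v * t) := by rw [hi]; group
      _ = s * v := by rw [hc]; group

theorem exists_inv_mod (L : Loc E) (h : Le5 G) :
    ∃ s ∈ normalizer (E : Set G), s ∉ E ∧ s * s ∈ E := by
  obtain ⟨y, hy, hyE, hyp⟩ := L.exists_two_outside
  by_cases hy2 : y * y ∈ E
  · exact ⟨y, hy, hyE, hy2⟩
  · refine ⟨y * y, mul_mem hy hy, hy2, ?_⟩
    rw [show y * y * (y * y) = y ^ 4 by simp only [pow_succ, pow_zero, one_mul, mul_assoc],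
      pow_four_of_pe h hyp]
    exact one_mem _

theorem elem (L : Loc E) (h : Le5 G) : ∀ e ∈ E, e * e = 1 := by
  obtain ⟨s, hs, hsE, hss⟩ := L.exists_inv_mod h
  exact (L.elem_cent h hs hsE hss).1

theorem comm (L : Loc E) (h : Le5 G) {a b : G} (ha : a ∈ E) (hb : b ∈ E) : a * b = b * a := by
  calc a * b = (a * b)⁻¹ := (inv_eq_of_mul_eq_one_right (L.elem h _ (mul_mem ha hb))).symm
    _ = _ := by rw [mul_inv_rev, inv_eq_of_mul_eq_one_right (L.elem h a ha), inv_eq_of_mul_eq_one_right (L.elem h b hb)]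

/-- There is no element of order four modulo `E`. -/
theorem sq_mem (L : Loc E) (h : Le5 G) {s : G} (hs : s ∈ normalizer (E : Set G)) (hsp : PE 2 s) :
    s * s ∈ E := by
  by_contra hss
  have h4 : s ^ 4 = 1 := pow_four_of_pe h hsp
  have h22 : s * s * (s * s) = 1 := by
    rw [← h4]; simp only [pow_succ, pow_zero, one_mul, mul_assoc]
  have hcard := (L.elem_cent h (mul_mem hs hs) hss (by rw [h22]; exact one_mem _)).2
  refine L.ne ?_
  suffices hall : E ⊓ centralizer ({s * s} : Set G) = E by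
    rw [hall] at hcard
    rw [← Subgroup.card_eq_one]
    have hpos := Nat.card_pos (α := E)
    nlinarith [hcard]
  refine inf_eq_left.2 fun e he => ?_
  have hi : ∀ v ∈ E, v⁻¹ = v := fun v hv => inv_eq_of_mul_eq_one_right (L.elem h v hv)
  have hc4 : ∀ v ∈ E, s * v * s⁻¹ ∈ E := fun v hv => (mem_normalizer_iff.1 hs v).1 hv
  obtain ⟨β, hβd⟩ : ∃ β : G →* G, ∀ v, β v = s * v * s⁻¹ := ⟨(MulAut.conj s).toMonoidHom, fun _ => rfl⟩
  have hβ : ∀ v ∈ E, β v ∈ E := fun v hv => by rw [hβd]; exact hc4 v hv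
  have hβm : ∀ a b : G, β (a * b) = β a * β b := map_mul β
  have hβ4 : ∀ v : G, β (β (β (β v))) = v := fun v => by
    simp only [hβd]
    rw [show s * (s * (s * (s * v * s⁻¹) * s⁻¹) * s⁻¹) * s⁻¹ = s * s * (s * s) * v * (s * s * (s * s))⁻¹ by group,
      h22]
    group
  -- `(s e)^4 = 1`
  have hsum : ∀ v ∈ E, β (β (β v)) * β (β v) * β v * v = 1 := by
    intro v hv
    have h1 := pow_four_of_pe h (L.pe_mul hs hsp hv)
    have h2 : (s * v) ^ 4 = β v * β (β v) * β (β (β v)) * β (β (β (β v))) * (s * s * (s * s)) := by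
      simp only [hβd, pow_succ, pow_zero, one_mul]
      group
    rw [h2, h22, mul_one, hβ4] at h1
    have h3 := congrArg (·⁻¹) h1
    simp only [mul_inv_rev, inv_one] at h3
    rw [hi _ hv, hi _ (hβ v hv), hi _ (hβ _ (hβ v hv)), hi _ (hβ _ (hβ _ (hβ v hv)))] at h3
    have h4' := mul_eq_one_comm.1 h3
    simpa [mul_assoc] using h4'
  let φ : G → G := fun v => β (β v) * v
  let ψ : G → G := fun v => β v * v
  have hψE : ∀ v ∈ E, ψ v ∈ E := fun v hv => mul_mem (hβ v hv) hv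
  have hφE : ∀ v ∈ E, φ v ∈ E := fun v hv => mul_mem (hβ _ (hβ v hv)) hv
  have hψψ : ∀ v ∈ E, ψ (ψ v) = φ v := fun v hv => by
    show β (β v * v) * (β v * v) = β (β v) * v
    rw [hβm, show β (β v) * β v * (β v * v) = β (β v) * (β v * β v) * v by group, L.elem h _ (hβ v hv), mul_one]
  -- the kernel of `φ` lies in that of `ψ`, and is the image of `φ`
  have hψφ : ∀ v ∈ E, ψ (φ v) = 1 := fun v hv => by
    show β (β (β v) * v) * (β (β v) * v) = 1
    rw [hβm, show β (β (β v)) * β v * (β (β v) * v) = β (β (β v)) * (β v * β (β v)) * v by group,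
      L.comm h (hβ v hv) (hβ _ (hβ v hv)), ← mul_assoc]
    exact hsum v hv
  have hsurj : ∀ v ∈ E, φ v = 1 → ∃ w ∈ E, φ w = v := by
    let f : E →* E := MonoidHom.mk' (fun v => ⟨φ v, hφE v v.2⟩) fun a b => Subtype.ext (by
      show β (β ((a : G) * b)) * (a * b) = β (β a) * a * (β (β b) * b)
      rw [hβm, hβm]
      calc β (β a) * β (β b) * ((a : G) * b) = β (β a) * (β (β b) * a) * b := by group
        _ = _ := by rw [L.comm h (hβ _ (hβ _ b.2)) a.2]; group)
    have hle : f.range ≤ f.ker := by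
      rintro _ ⟨v, rfl⟩
      rw [MonoidHom.mem_ker]
      refine Subtype.ext ?_
      show β (β (β (β v) * v)) * (β (β v) * v) = 1
      rw [hβm, hβm, hβ4, L.comm h (v.2) (hβ _ (hβ v v.2)), L.elem h _ (mul_mem (hβ _ (hβ _ v.2)) v.2)]
    have hk : Nat.card f.ker = Nat.card ↥(E ⊓ centralizer ({s * s} : Set G)) := by
      refine Nat.card_congr
        { toFun := fun v => ⟨v.1.1, v.1.2, mem_centralizer_singleton_iff.2 ?_⟩
          invFun := fun v => ⟨⟨v.1, v.2.1⟩, MonoidHom.mem_ker.2 (Subtype.ext ?_)⟩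
          left_inv := fun v => rfl
          right_inv := fun v => rfl }
      · have h1 : β (β (v.1 : G)) * (v.1 : G) = 1 := congrArg Subtype.val (MonoidHom.mem_ker.1 v.2)
        have h2 : β (β (v.1 : G)) = v.1 := by
          rw [eq_inv_of_mul_eq_one_left h1, hi _ v.1.2]
        simp only [hβd] at h2
        rw [show s * (s * (v.1 : G) * s⁻¹) * s⁻¹ = s * s * v.1 * (s * s)⁻¹ by group] at h2
        exact (mul_inv_eq_iff_eq_mul.1 h2).symm
      · show β (β (v : G)) * v = 1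
        have h2 : β (β (v : G)) = v := by
          simp only [hβd]
          rw [show s * (s * (v : G) * s⁻¹) * s⁻¹ = s * s * v * (s * s)⁻¹ by group]
          exact mul_inv_eq_iff_eq_mul.2 (mem_centralizer_singleton_iff.1 v.2.2).symm
        rw [h2, L.elem h _ v.2.1]
    have heq : f.range = f.ker := by
      refine eq_of_le_of_card_ge hle ?_
      have h1 : Nat.card f.range * Nat.card f.ker = Nat.card E := by
        rw [← index_ker, mul_comm]
        exact f.ker.card_mul_index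
      rw [← hk, sq] at hcard
      exact (Nat.eq_of_mul_eq_mul_right Nat.card_pos (h1.trans hcard.symm)).ge
    intro v hv hv1
    obtain ⟨w, hw⟩ : (⟨v, hv⟩ : E) ∈ f.range := by
      rw [heq, MonoidHom.mem_ker]; exact Subtype.ext hv1
    exact ⟨w, w.2, congrArg Subtype.val hw⟩
  have hker : ∀ v ∈ E, φ v = 1 → ψ v = 1 := fun v hv hv1 => by
    obtain ⟨w, hw, rfl⟩ := hsurj v hv hv1
    exact hψφ w hw
  have hfix : φ e = 1 := by
    rw [← hψψ e he]
    refine hker _ (hψE e he) ?_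
    show β (β (β e * e)) * (β e * e) = 1
    rw [hβm, hβm, show β (β (β e)) * β (β e) * (β e * e) = β (β (β e)) * β (β e) * β e * e by group]
    exact hsum e he
  have h2 : β (β e) = e := by rw [eq_inv_of_mul_eq_one_left hfix, hi e he]
  simp only [hβd] at h2
  rw [show s * (s * e * s⁻¹) * s⁻¹ = s * s * e * (s * s)⁻¹ by group] at h2
  exact mem_centralizer_singleton_iff.2 (mul_inv_eq_iff_eq_mul.1 h2).symm

/-- A Sylow 2-subgroup of the normaliser. -/
theorem exists_top (L : Loc E) (h : Le5 G) :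
    ∃ T : Subgroup G, E ≤ T ∧ T ≤ normalizer (E : Set G) ∧ IsPGroup 2 T ∧
      (∀ V : Subgroup G, IsPGroup 2 V → T ≤ V → V ≤ normalizer (E : Set G) → V = T) ∧
      (Nat.card T = 2 * Nat.card E ∨ (Nat.card T = 4 * Nat.card E ∧
        (∃ y, orderOf y = 3 ∧ y ∈ normalizer (E : Set G) ∧ y ∈ normalizer (T : Set G)) ∧
        60 * Nat.card E ∣ Nat.card (normalizer (E : Set G)) ∧
        ∃ t g : G, t ≠ 1 ∧ t * t = 1 ∧ orderOf g = 5 ∧ t * g * t = g⁻¹)) := by
  classical
  haveI : Fact (Nat.Prime 2) := ⟨Nat.prime_two⟩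
  set N := normalizer (E : Set G) with hN
  set Q := E.subgroupOf N with hQ
  have hQp : IsPGroup 2 Q := L.hp.of_equiv (subgroupOfEquivOfLe le_normalizer).symm
  obtain ⟨S⟩ : Nonempty (Sylow 2 (N ⧸ Q)) := inferInstance
  have hlX : Le5 (N ⧸ Q) := (h.subgroup N).quot Q
  have hsq : ∀ x : N ⧸ Q, PE 2 x → x * x = 1 := by
    intro x hx
    obtain ⟨g, rfl⟩ := QuotientGroup.mk'_surjective Q x
    rw [← map_mul]
    refine (QuotientGroup.eq_one_iff _).2 (mem_subgroupOf.2 ?_)
    show (g : G) * g ∈ E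
    refine L.sq_mem h g.2 ?_
    by_contra hnot
    obtain ⟨q, hq, hqd, hne⟩ : ∃ q, q.Prime ∧ q ∣ orderOf (g : G) ∧ q ≠ 2 := by
      by_contra hall
      push Not at hall
      exact hnot ⟨_, Nat.eq_prime_pow_of_unique_prime_dvd (orderOf_pos _).ne' fun {q} hq hd => hall q hq hd⟩
    have hgo : orderOf (g : G) = q := by
      obtain ⟨c, hc⟩ := hqd
      have h5 := h (g : G)
      have h0 := orderOf_pos (g : G)
      rw [hc] at h5 h0 ⊢
      have h3 : 3 ≤ q := by have := hq.two_le; omega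
      rcases c with _ | _ | c
      · simp at h0
      · simp
      · exfalso
        have : 3 * 2 ≤ q * (c + 1 + 1) := Nat.mul_le_mul h3 (by omega)
        omega
    rw [Subgroup.orderOf_coe] at hgo
    obtain ⟨k, hk⟩ := hx
    have h1 := orderOf_map_dvd (QuotientGroup.mk' Q) g
    rw [hgo, hk] at h1
    rcases (Nat.dvd_prime hq).1 h1 with e | e
    · have hgE : g ∈ Q := (QuotientGroup.eq_one_iff g).1 (orderOf_eq_one_iff.1 (hk.trans e))
      obtain ⟨j, hj⟩ := pe_of_mem L.hp (mem_subgroupOf.1 hgE)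
      exact hnot ⟨j, hj⟩
    · exact hne ((Nat.prime_dvd_prime_iff_eq hq Nat.prime_two).1 (hq.dvd_of_dvd_pow (n := k) (by rw [e])))
  have hodd : ∀ (p : ℕ) [Fact p.Prime], p ≠ 2 → ∀ P : Subgroup (N ⧸ Q), IsPGroup p P → Nat.card P ∣ p := by
    intro p _ hp2 P hP
    set K := P.comap (QuotientGroup.mk' Q) with hK
    obtain ⟨R⟩ : Nonempty (Sylow p K) := inferInstance
    have hR := card_dvd_of_normalizes h hp2 hp2 (R.2.map K.subtype |>.map N.subtype) L.hp L.ne (map_subtype_le _)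
    rw [card_map_of_injective N.subtype_injective, card_map_of_injective K.subtype_injective] at hR
    refine dvd_trans ?_ hR
    obtain ⟨n, hn⟩ := IsPGroup.iff_card.1 hP
    rw [hn]
    refine R.pow_dvd_card_of_pow_dvd_card ?_
    rw [← hn, ← Nat.card_congr (Equiv.refl P)]
    have h1 : P = K.map (QuotientGroup.mk' Q) :=
      (map_comap_eq_self_of_surjective (QuotientGroup.mk'_surjective Q) P).symm
    rw [h1]
    exact card_map_dvd K _
  have h2 : 2 ∣ Nat.card (N ⧸ Q) := by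
    obtain ⟨s, hs, hsE, hss⟩ := L.exists_inv_mod h
    have ho : orderOf (QuotientGroup.mk' Q (⟨s, hs⟩ : N)) = 2 := by
      refine orderOf_eq_prime ?_ (fun e => hsE (mem_subgroupOf.1 ((QuotientGroup.eq_one_iff (⟨s, hs⟩ : N)).1 e)))
      rw [sq, ← map_mul]
      exact (QuotientGroup.eq_one_iff _).2 (mem_subgroupOf.2 hss)
    rw [← ho]
    exact _root_.orderOf_dvd_natCard _
  set T' := (S : Subgroup (N ⧸ Q)).comap (QuotientGroup.mk' Q) with hT'
  have hQT : Q ≤ T' := fun x hx => by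
    rw [hT', mem_comap, QuotientGroup.mk'_apply, (QuotientGroup.eq_one_iff x).2 hx]
    exact one_mem _
  have hT'p : IsPGroup 2 T' := S.2.comap_of_ker_isPGroup _ (by rwa [QuotientGroup.ker_mk'])
  have hmax : ∀ V : Subgroup G, IsPGroup 2 V → T'.map N.subtype ≤ V → V ≤ N → V = T'.map N.subtype := by
    intro V hV hle hVN
    refine le_antisymm (fun v hv => ⟨⟨v, hVN hv⟩, ?_, rfl⟩) hle
    have h1 : ((V.subgroupOf N).map (QuotientGroup.mk' Q)) = (S : Subgroup _) := by
      refine S.3 ((hV.of_equiv (subgroupOfEquivOfLe hVN).symm).map _) fun x hx => ?_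
      obtain ⟨g, rfl⟩ := QuotientGroup.mk'_surjective Q x
      exact ⟨g, mem_subgroupOf.2 (hle ⟨g, hx, rfl⟩), rfl⟩
    show QuotientGroup.mk' Q ⟨v, hVN hv⟩ ∈ (S : Subgroup _)
    rw [← h1]
    exact ⟨⟨v, hVN hv⟩, mem_subgroupOf.2 hv, rfl⟩
  have hcard : Nat.card T' = Nat.card S * Nat.card E := by
    have h1 : Nat.card T' = Nat.card (S : Subgroup (N ⧸ Q)) * Nat.card Q := by
      have e1 := ((Q).subgroupOf T').card_mul_index
      have e2 : Nat.card (Q.subgroupOf T') = Nat.card Q := Nat.card_congr (subgroupOfEquivOfLe hQT).toEquiv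
      have e3 : (Q.subgroupOf T').index = Nat.card (S : Subgroup (N ⧸ Q)) := by
        let f : T' →* (S : Subgroup (N ⧸ Q)) :=
          ((QuotientGroup.mk' Q).comp T'.subtype).codRestrict _ fun x => x.2
        have hf : Function.Surjective f := fun w => by
          obtain ⟨x, hx⟩ := QuotientGroup.mk'_surjective Q (w : N ⧸ Q)
          refine ⟨⟨x, ?_⟩, Subtype.ext hx⟩
          rw [hT', mem_comap, hx]
          exact w.2
        have hk : f.ker = Q.subgroupOf T' := by
          ext x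
          rw [MonoidHom.mem_ker, mem_subgroupOf, ← QuotientGroup.eq_one_iff (N := Q) (x : N)]
          exact ⟨fun e => congrArg Subtype.val e, fun e => Subtype.ext e⟩
        rw [← hk, index_ker, MonoidHom.range_eq_top.2 hf, card_top]
      rw [← e1, e2, e3, mul_comm]
    rw [h1]
    congr 1
    exact Nat.card_congr (subgroupOfEquivOfLe le_normalizer).toEquiv
  refine ⟨T'.map N.subtype, fun e he => ⟨⟨e, le_normalizer he⟩, hQT (mem_subgroupOf.2 he), rfl⟩,
    map_subtype_le _, hT'p.map _, hmax, ?_⟩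
  rw [card_map_of_injective N.subtype_injective, hcard]
  rcases top_shape hlX L.quot_core hsq hodd h2 S with e | ⟨e, ⟨y, hy, hyn⟩, hX, s', x', hs1, hs2, hx5, hsx⟩
  · exact Or.inl (by rw [e])
  refine Or.inr ⟨by rw [e], ?_, ?_, ?_⟩
  rotate_left
  · have h1 := Q.card_mul_index
    rw [index_eq_card, hX, show Nat.card Q = Nat.card E from Nat.card_congr (subgroupOfEquivOfLe le_normalizer).toEquiv] at h1
    exact ⟨1, by rw [← h1, mul_one, mul_comm]⟩
  · obtain ⟨⟨s, hs⟩, hsv⟩ := QuotientGroup.mk'_surjective Q s'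
    have hss : s * s ∈ E := by
      rw [← hsv, ← map_mul] at hs2
      exact mem_subgroupOf.1 ((QuotientGroup.eq_one_iff _).1 hs2)
    obtain ⟨t, g, hts, htt, -, hgo, htg⟩ := L.lift_of_inverted h hs hss x' (by norm_num : Nat.Prime 5) (by norm_num) hx5
      (by rw [hsv]; exact hsx)
    refine ⟨t, g, fun e1 => hs1 ?_, htt, hgo, htg⟩
    rw [e1, one_mul, inv_mem_iff] at hts
    rw [← hsv]
    exact (QuotientGroup.eq_one_iff _).2 (mem_subgroupOf.2 hts)
  obtain ⟨g, hg⟩ := QuotientGroup.mk'_surjective Q y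
  have hgo : orderOf (g : G) = 3 := by
    obtain ⟨c, hc⟩ : 3 ∣ orderOf (g : G) := by
      rw [Subgroup.orderOf_coe, ← hy, ← hg]; exact orderOf_map_dvd _ g
    have := h (g : G)
    have := orderOf_pos (g : G)
    omega
  refine ⟨g, hgo, g.2, ?_⟩
  rw [← conjMap_eq_self_iff]
  refine eq_of_le_of_card_ge (fun x hx => ?_) (card_conjMap _ _).ge
  obtain ⟨w, hw, hwx⟩ := mem_map.1 (mem_conjMap.1 hx)
  refine ⟨g * w * g⁻¹, ?_, ?_⟩
  · show QuotientGroup.mk' Q (g * w * g⁻¹) ∈ (S : Subgroup _)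
    rw [map_mul, map_mul, map_inv, hg]
    exact (mem_normalizer_iff.1 hyn _).1 hw
  · simp only [coe_subtype, Subgroup.coe_mul, Subgroup.coe_inv] at hwx ⊢
    rw [hwx]
    group

end Loc

end Cfsg.Lib.SpecFive
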