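import Cfsg.Agent.SpecFive.Shape

/-!
The Sylow 2-subgroup has two elementary subgroups of maximal order: one class of involutions.
-/

set_option autoImplicit false
set_option linter.unusedSectionVars false

namespace Cfsg.Lib.SpecFive

open Subgroup Cfsg.Lib.Coprime
open scoped Pointwise

universe u

variable {G : Type u} [Group G] [Finite G]

/-- `T = E B` with `E` and `B` elementary of order `k²` meeting in `L = C_E(T)` of order `k`. -/
structure Pair (E T B : Subgroup G) (k : ℕ) : Prop where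
  top : Top E T
  hk : k = 2 ∨ k = 4
  hTc : Nat.card T = k * (k * k)
  hEc : Nat.card E = k * k
  hcent : ∀ s ∈ normalizer (E : Set G), s ∉ E → s * s ∈ E →
    Nat.card ↥(E ⊓ centralizer ({s} : Set G)) = k
  hBT : B ≤ T
  hB2 : ∀ b ∈ B, b * b = 1
  hBc : Nat.card B = k * k
  hBne : B ≠ E
  hL : Nat.card ↥(E ⊓ centralizer (T : Set G)) = k
  inf : E ⊓ B = E ⊓ centralizer (T : Set G)
  sup : E ⊔ B = T

theorem exists_pair (h : Hyp G) : ∃ E T B k, Pair (G := G) E T B k := by
  obtain ⟨E, T, τ⟩ := exists_top' h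
  obtain ⟨A, hAT, hA2, hAc, hAne⟩ := τ.exists_other h
  obtain ⟨k, e, hk, hTc, hEc, hke, hcent, hL0⟩ := τ.numbers h
  obtain ⟨a, ha, haE⟩ : ∃ a ∈ A, a ∉ E := by
    by_contra hall
    push Not at hall
    exact hAne (eq_of_le_of_card_ge hall hAc)
  obtain ⟨h1, h2, h3⟩ := τ.bound h hAT hA2 ha haE
  have hc := hcent a (τ.hTN (hAT ha)) haE (τ.sq_mem' h (hAT ha))
  have h4 : Nat.card ↥(E ⊓ A) ≤ e := hc ▸ Nat.le_of_dvd Nat.card_pos (card_dvd_of_le h1)
  have hEpos : 0 < Nat.card E := Nat.card_pos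
  have h5 : Nat.card A ≤ k * e := by
    refine Nat.le_of_mul_le_mul_left ?_ hEpos
    calc Nat.card E * Nat.card A = Nat.card ↥(E ⊔ A) * Nat.card ↥(E ⊓ A) := h2.symm
      _ ≤ (k * Nat.card E) * e := Nat.mul_le_mul (hTc ▸ h3) h4
      _ = Nat.card E * (k * e) := by ring
  have hek : e = k := by
    refine le_antisymm (Nat.le_of_mul_le_mul_right ?_ (show 0 < e by
      rcases hk with e1 | e1 <;> omega)) hke
    exact hEc ▸ hAc.trans h5
  subst hek
  have hAk : Nat.card A = e * e := le_antisymm h5 (hEc ▸ hAc)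
  rw [hEc, hAk] at h2
  have hsupc : Nat.card ↥(E ⊔ A) = Nat.card T ∧ Nat.card ↥(E ⊓ A) = e := by
    rw [hTc, hEc] at h3 ⊢
    have e1 : e * (e * e) * e ≤ Nat.card ↥(E ⊔ A) * Nat.card ↥(E ⊓ A) := by rw [h2]; exact le_of_eq (by ring)
    have hpos : 0 < e := by rcases hk with e1 | e1 <;> omega
    constructor
    · refine le_antisymm h3 (Nat.le_of_mul_le_mul_right ?_ hpos)
      exact e1.trans (Nat.mul_le_mul_left _ h4)
    · refine le_antisymm h4 (Nat.le_of_mul_le_mul_left ?_ (show 0 < e * (e * e) by positivity))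
      exact e1.trans (Nat.mul_le_mul_right _ h3)
  have hinf : E ⊓ A = E ⊓ centralizer ({a} : Set G) := eq_of_le_of_card_ge h1 (by rw [hsupc.2, hc])
  have hL : E ⊓ centralizer (T : Set G) = E ⊓ centralizer ({a} : Set G) :=
    eq_of_le_of_card_ge (inf_le_inf_left _ (centralizer_le (Set.singleton_subset_iff.2 (hAT ha))))
      (by rw [hc, hL0 rfl])
  exact ⟨E, T, A, e, τ, hk, by rw [hTc, hEc], hEc, hcent, hAT, hA2, hAk, hAne, hL0 rfl, hinf.trans hL.symm,
    eq_of_le_of_card_ge (sup_le τ.hET hAT) (by rw [hsupc.1])⟩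

namespace Pair

variable {E T B : Subgroup G} {k : ℕ}

theorem two_le (π : Pair E T B k) : 2 ≤ k := by rcases π.hk with e | e <;> omega

theorem decomp (π : Pair E T B k) {t : G} (ht : t ∈ T) : ∃ x ∈ E, ∃ b ∈ B, x * b = t :=
  (mem_sup_of_le_normalizer (π.hBT.trans π.top.hTN)).1 (π.sup ▸ ht)

theorem mem_L (π : Pair E T B k) (h : Hyp G) {x t : G} (hx : x ∈ E) (ht : t ∈ T) (htE : t ∉ E)
    (hc : Commute x t) : x ∈ E ⊓ centralizer (T : Set G) := by
  have h1 : E ⊓ centralizer (T : Set G) = E ⊓ centralizer ({t} : Set G) :=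
    eq_of_le_of_card_ge (inf_le_inf_left _ (centralizer_le (Set.singleton_subset_iff.2 ht)))
      (by rw [π.hL, π.hcent t (π.top.hTN ht) htE (π.top.sq_mem' h ht)])
  rw [h1]
  exact ⟨hx, mem_centralizer_singleton_iff.2 hc.eq⟩

theorem L_le_B (π : Pair E T B k) : E ⊓ centralizer (T : Set G) ≤ B := π.inf ▸ inf_le_right

theorem invol (π : Pair E T B k) (h : Hyp G) {t : G} (ht : t ∈ T) (htt : t * t = 1) : t ∈ E ∨ t ∈ B := by
  by_cases htE : t ∈ E
  · exact Or.inl htE
  obtain ⟨x, hx, b, hb, rfl⟩ := π.decomp ht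
  right
  have hbE : b ∉ E := fun hbE => htE (mul_mem hx hbE)
  have hxx := π.top.E_sq h x hx
  have hbb := π.hB2 b hb
  have hc : Commute x b := by
    show x * b = b * x
    calc x * b = x * b * (x * b) * (b⁻¹ * x⁻¹) := by group
      _ = b⁻¹ * x⁻¹ := by rw [htt, one_mul]
      _ = b * x := by rw [inv_eq_of_mul_eq_one_right hxx, inv_eq_of_mul_eq_one_right hbb]
  exact mul_mem (π.L_le_B (π.mem_L h hx (π.hBT hb) hbE hc)) hb

theorem mem_B_of_commute (π : Pair E T B k) (h : Hyp G) {b t : G} (hb : b ∈ B) (hbE : b ∉ E) (ht : t ∈ T)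
    (hc : Commute t b) : t ∈ B := by
  obtain ⟨x, hx, b', hb', rfl⟩ := π.decomp ht
  have h1 : b' * b = b * b' := comm_of_sq π.hB2 hb' hb
  have hxb : Commute x b := by
    show x * b = b * x
    have h2 : x * b' * b = b * (x * b') := hc
    have h3 : x * b * b' = b * x * b' := by rw [mul_assoc, ← h1, ← mul_assoc, h2, mul_assoc]
    exact mul_right_cancel h3
  exact mul_mem (π.L_le_B (π.mem_L h hx (π.hBT hb) hbE hxb)) hb'

theorem two (π : Pair E T B k) (h : Hyp G) {A : Subgroup G} (hAT : A ≤ T) (hA : ∀ a ∈ A, a * a = 1)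
    (hAc : Nat.card A = k * k) : A = E ∨ A = B := by
  by_cases hAE : A ≤ E
  · exact Or.inl (eq_of_le_of_card_ge hAE (by rw [hAc, π.hEc]))
  refine Or.inr (eq_of_le_of_card_ge (fun a ha => ?_) (by rw [hAc, π.hBc]))
  obtain ⟨a', ha', ha'E⟩ := SetLike.not_le_iff_exists.1 hAE
  have ha'B : a' ∈ B := (π.invol h (hAT ha') (hA a' ha')).resolve_left ha'E
  rcases π.invol h (hAT ha) (hA a ha) with haE | haB
  · rcases π.invol h (hAT (mul_mem ha ha')) (hA _ (mul_mem ha ha')) with h1 | h1
    · exact absurd (by simpa using mul_mem (inv_mem haE) h1) ha'E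
    · simpa using mul_mem h1 (inv_mem ha'B)
  · exact haB

theorem no_swap (π : Pair E T B k) (h : Hyp G) :
    ∀ g ∈ normalizer (T : Set G), PE 2 g → g ∈ normalizer (E : Set G) := by
  haveI : Fact (Nat.Prime 2) := ⟨Nat.prime_two⟩
  intro y hyT hy2
  by_contra hyN
  have τ := π.top
  have hconjT : conjMap y T = T := conjMap_eq_self hyT
  have hE' : conjMap y E = B := (π.two h (hconjT ▸ conjMap_mono τ.hET) (conjMap_sq (τ.E_sq h) y)
    (by rw [card_conjMap, π.hEc])).resolve_left fun e1 => hyN (conjMap_eq_self_iff.1 e1)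
  have hB' : conjMap y B = E := (π.two h (hconjT ▸ conjMap_mono π.hBT) (conjMap_sq π.hB2 y)
    (by rw [card_conjMap, π.hBc])).resolve_right fun e1 => π.hBne (by
      rw [← conjMap_inv_conjMap y E, hE', ← e1, conjMap_inv_conjMap, e1])
  set v := y * y with hv
  have hZ : IsPGroup 2 (zpowers y) := by
    obtain ⟨j, hj⟩ := hy2
    exact IsPGroup.of_card (n := j) (by rw [Nat.card_zpowers, hj])
  have hTy : IsPGroup 2 (T ⊔ zpowers y : Subgroup G) := IsPGroup.to_sup_of_normal_left' τ.hT hZ (zpowers_le.2 hyT)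
  have hvN : v ∈ normalizer (E : Set G) := by
    rw [← conjMap_eq_self_iff, hv, ← conjMap_mul, hE', hB']
  have hvT : v ∈ T := by
    have h1 : T ⊔ zpowers v = T := τ.hmax _
      (hTy.to_le (sup_le le_sup_left (zpowers_le.2 (mem_sup_right (mul_mem (mem_zpowers y) (mem_zpowers y))))))
      le_sup_left (sup_le τ.hTN (zpowers_le.2 hvN))
    exact h1 ▸ mem_sup_right (mem_zpowers v)
  have hv2 : v * v = 1 := by
    rw [hv, ← pow_four_of_pe h.le5 hy2]
    simp only [pow_succ, pow_zero, one_mul, mul_assoc]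
  have hyv : y * v * y⁻¹ = v := by rw [hv]; group
  have hvEB : v ∈ E ∧ v ∈ B := by
    rcases π.invol h hvT hv2 with h1 | h1
    · refine ⟨h1, hE' ▸ mem_conjMap.2 ?_⟩
      rwa [show y⁻¹ * v * y = v by rw [hv]; group]
    · refine ⟨hB' ▸ mem_conjMap.2 ?_, h1⟩
      rwa [show y⁻¹ * v * y = v by rw [hv]; group]
  have hvc : ∀ t ∈ T, t * v = v * t := by
    have h1 : v ∈ E ⊓ centralizer (T : Set G) := π.inf ▸ mem_inf.2 hvEB
    exact fun t ht => mem_centralizer_iff.1 h1.2 t ht
  obtain ⟨d, hd, hdL⟩ : ∃ d ∈ E, d ∉ E ⊓ centralizer (T : Set G) := by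
    by_contra hall
    push Not at hall
    have h1 := Nat.le_of_dvd Nat.card_pos (card_dvd_of_le hall)
    rw [π.hEc, π.hL] at h1
    have := π.two_le
    nlinarith
  set b := y * d * y⁻¹ with hb
  have hbB : b ∈ B := hE' ▸ mem_conjMap.2 (by rwa [hb, show y⁻¹ * (y * d * y⁻¹) * y = d by group])
  have hbE : b ∉ E := fun hbE => hdL (by
    have h1 : d ∈ B := by
      have h2 : b ∈ conjMap y B := hB'.symm ▸ hbE
      have h3 := mem_conjMap.1 h2
      rwa [hb, show y⁻¹ * (y * d * y⁻¹) * y = d by group] at h3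
    exact π.inf ▸ mem_inf.2 ⟨hd, h1⟩)
  have hd2 := τ.E_sq h d hd
  have hyd : (y * d) ^ 4 = 1 := by
    refine pow_four_of_pe h.le5 (pe_of_mem hTy ?_)
    exact mul_mem (mem_sup_right (mem_zpowers y)) (mem_sup_left (τ.hET hd))
  have e1 : (y * d) ^ 4 = (b * v * d) * (b * v * d) := by
    rw [hb, hv]
    simp only [pow_succ, pow_zero, one_mul]
    group
  have e2 : (b * v * d) * (b * v * d) = (b * d) * (b * d) := by
    have h2 := hvc d (τ.hET hd)
    have h3 := hvc b (π.hBT hbB)
    calc b * v * d * (b * v * d) = b * (v * d) * (b * v) * d := by group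
      _ = b * (d * v) * (v * b) * d := by rw [h2, h3]
      _ = b * d * (v * v) * (b * d) := by group
      _ = _ := by rw [hv2, mul_one]
  rw [e1, e2] at hyd
  rcases π.invol h (mul_mem (π.hBT hbB) (τ.hET hd)) hyd with h1 | h1
  · exact hbE (by simpa [mul_assoc, hd2] using mul_mem h1 hd)
  · refine hdL (π.inf ▸ mem_inf.2 ⟨hd, ?_⟩)
    simpa using mul_mem (inv_mem hbB) h1

theorem exists_sylow (π : Pair E T B k) (h : Hyp G) : ∃ P : Sylow 2 G, (P : Subgroup G) = T :=
  π.top.exists_sylow (π.no_swap h)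

theorem cent_L (π : Pair E T B k) (h : Hyp G) {z : G} (hz : z ∈ E ⊓ centralizer (T : Set G)) (hz1 : z ≠ 1) :
    centralizer ({z} : Set G) = T := by
  obtain ⟨P, hP⟩ := π.exists_sylow h
  haveI : Fact (Nat.Prime 2) := ⟨Nat.prime_two⟩
  have hV := centralizer_pgroup h.le5 (pe_of_mem π.top.loc.hp hz.1) hz1
  have hle : T ≤ centralizer ({z} : Set G) := fun t ht =>
    mem_centralizer_singleton_iff.2 (mem_centralizer_iff.1 hz.2 t ht)
  rw [← hP] at hle ⊢
  exact P.3 hV hle

/-- All involutions are conjugate to a fixed `z₀` whose centraliser is `T`. -/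
theorem one_class (π : Pair E T B k) (h : Hyp G) :
    ∃ z0 : G, z0 ∈ E ⊓ centralizer (T : Set G) ∧ z0 ≠ 1 ∧ ∀ i : G, i * i = 1 → i ≠ 1 → IsConj z0 i := by
  classical
  haveI : Fact (Nat.Prime 2) := ⟨Nat.prime_two⟩
  have τ := π.top
  set L := E ⊓ centralizer (T : Set G) with hL
  have hk2 := π.two_le
  obtain ⟨z0, hz0, hz01⟩ := (bot_or_exists_ne_one L).resolve_left fun e1 => by
    have := π.hL
    rw [← hL, e1, card_bot] at this
    omega
  refine ⟨z0, hz0, hz01, ?_⟩
  -- the involutions of `L`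
  have hL_class : ∀ z ∈ L, z ≠ 1 → IsConj z0 z := by
    rcases τ.kcases with h3 | ⟨h3, ⟨y, hyo, hyE, hyT⟩, -⟩
    · have hk' : k = 2 := by
        rw [π.hTc, π.hEc] at h3
        exact Nat.eq_of_mul_eq_mul_right (by positivity) h3
      intro z hz hz1
      have hc : Nat.card L = 2 := by rw [π.hL, hk']
      obtain ⟨a, b, hab, hall⟩ := Nat.card_eq_two_iff.1 hc
      have key : ∀ w : L, (w : G) ≠ 1 → w = ⟨z0, hz0⟩ := by
        intro w hw
        have m1 : (1 : L) ∈ ({a, b} : Set L) := hall ▸ Set.mem_univ _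
        have m2 : w ∈ ({a, b} : Set L) := hall ▸ Set.mem_univ _
        have m3 : (⟨z0, hz0⟩ : L) ∈ ({a, b} : Set L) := hall ▸ Set.mem_univ _
        simp only [Set.mem_insert_iff, Set.mem_singleton_iff] at m1 m2 m3
        have hw' : w ≠ 1 := fun e1 => hw (by rw [e1]; rfl)
        have hz' : (⟨z0, hz0⟩ : L) ≠ 1 := fun e1 => hz01 (congrArg Subtype.val e1)
        grind
      have h1 : z = z0 := congrArg Subtype.val (key ⟨z, hz⟩ hz1)
      rw [h1]
    · have hk' : k = 4 := by
        rw [π.hTc, π.hEc] at h3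
        exact Nat.eq_of_mul_eq_mul_right (by positivity) h3
      intro z hz hz1
      have hyL : ∀ w ∈ L, y * w * y⁻¹ ∈ L := fun w hw => ⟨(mem_normalizer_iff.1 hyE w).1 hw.1,
        mem_centralizer_iff.2 fun t ht => by
          have h1 := mem_centralizer_iff.1 hw.2 _ ((mem_normalizer_iff''.1 hyT t).1 ht)
          calc t * (y * w * y⁻¹) = y * (y⁻¹ * t * y * w) * y⁻¹ := by group
            _ = y * (w * (y⁻¹ * t * y)) * y⁻¹ := by rw [h1]
            _ = _ := by group⟩
      have hfree : ∀ w ∈ L, w ≠ 1 → y * w * y⁻¹ ≠ w := fun w hw hw1 e1 =>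
        not_commute_pe h.le5 Nat.prime_three Nat.prime_two (by norm_num) (pe_of_prime hyo)
          (fun e' => by rw [e', orderOf_one] at hyo; omega) (pe_of_mem τ.loc.hp hw.1) hw1
          (mul_inv_eq_iff_eq_mul.1 e1)
      set z1 := y * z0 * y⁻¹ with hz1d
      set z2 := y * z1 * y⁻¹ with hz2d
      have hz1L : z1 ∈ L := hyL _ hz0
      have hz2L : z2 ∈ L := hyL _ hz1L
      have n1 : z1 ≠ 1 := fun e1 => hz01 (conj_eq_one_iff.1 e1)
      have n2 : z2 ≠ 1 := fun e1 => n1 (conj_eq_one_iff.1 e1)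
      have d1 : z1 ≠ z0 := hfree _ hz0 hz01
      have d2 : z2 ≠ z1 := hfree _ hz1L n1
      have d3 : z2 ≠ z0 := by
        intro e1
        have h3' : y * z2 * y⁻¹ = z0 := by
          rw [hz2d, hz1d, show y * (y * (y * z0 * y⁻¹) * y⁻¹) * y⁻¹ = y ^ 3 * z0 * (y ^ 3)⁻¹ by
              simp only [pow_succ, pow_zero, one_mul, mul_inv_rev, mul_assoc],
            show y ^ 3 = 1 from hyo ▸ pow_orderOf_eq_one y]
          group
        rw [e1] at h3'
        exact d1 h3'
      let f : Fin 4 → L := fun i => match i with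
        | 0 => 1 | 1 => ⟨z0, hz0⟩ | 2 => ⟨z1, hz1L⟩ | 3 => ⟨z2, hz2L⟩
      have hf : Function.Injective f := by
        intro i j hij
        have hij' := congrArg Subtype.val hij
        fin_cases i <;> fin_cases j <;>
          simp only [f, Fin.zero_eta, Fin.mk_one, Fin.reduceFinMk, OneMemClass.coe_one] at hij' ⊢ <;>
          first
            | rfl
            | exact absurd hij' (Ne.symm hz01) | exact absurd hij' hz01
            | exact absurd hij' (Ne.symm n1) | exact absurd hij' n1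
            | exact absurd hij' (Ne.symm n2) | exact absurd hij' n2
            | exact absurd hij' (Ne.symm d1) | exact absurd hij' d1
            | exact absurd hij' (Ne.symm d2) | exact absurd hij' d2
            | exact absurd hij' (Ne.symm d3) | exact absurd hij' d3
      have hbij : Function.Bijective f :=
        (Nat.bijective_iff_injective_and_card f).2 ⟨hf, by rw [Nat.card_fin, π.hL, hk']⟩
      obtain ⟨i, hi⟩ := hbij.2 ⟨z, hz⟩
      have hi' := congrArg Subtype.val hi
      fin_cases i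
      · exact absurd hi'.symm hz1
      · change z0 = z at hi'
        rw [← hi']
      · change z1 = z at hi'
        rw [← hi']; exact isConj_iff.2 ⟨y, rfl⟩
      · change z2 = z at hi'
        rw [← hi']
        exact isConj_iff.2 ⟨y * y, by
          show y * y * z0 * (y * y)⁻¹ = z2
          rw [hz2d, hz1d]; group⟩
  -- the involutions of `E`
  have hE_class : ∀ x ∈ E, x ≠ 1 → IsConj z0 x := by
    intro x hx hx1
    obtain ⟨s, hsN, hsE, hsc⟩ : ∃ s ∈ normalizer (E : Set G), s ∉ E ∧ Commute s x := by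
      by_contra hall
      push Not at hall
      have hinj : Nat.card (normalizer (E : Set G)) ≤ Nat.card ({w : E // w ≠ 1} × E) := by
        set N := normalizer (E : Set G) with hN
        let o : N → {w : E // w ≠ 1} := fun n => ⟨⟨n * x * (n : G)⁻¹, (mem_normalizer_iff.1 n.2 x).1 hx⟩,
          fun e1 => hx1 (conj_eq_one_iff.1 (congrArg Subtype.val e1))⟩
        let sec : {w : E // w ≠ 1} → N := Function.invFun o
        have hdiff : ∀ n : N, ((sec (o n))⁻¹ * n : G) ∈ E := by
          intro n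
          have he : o (sec (o n)) = o n := Function.invFun_eq (f := o) ⟨n, rfl⟩
          have he' : (sec (o n) : G) * x * (sec (o n) : G)⁻¹ = n * x * (n : G)⁻¹ :=
            congrArg (fun w : {w : E // w ≠ 1} => ((w : E) : G)) he
          by_contra hnE
          refine hall _ (mul_mem (inv_mem (sec (o n)).2) n.2) hnE ?_
          show ((sec (o n) : G))⁻¹ * n * x = x * ((sec (o n) : G)⁻¹ * n)
          calc ((sec (o n) : G))⁻¹ * n * x = (sec (o n) : G)⁻¹ * (n * x * (n : G)⁻¹) * n := by group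
            _ = _ := by rw [← he']; group
        refine Nat.card_le_card_of_injective (fun n => (o n, (⟨_, hdiff n⟩ : E))) fun a b he => ?_
        obtain ⟨he1, he2⟩ := Prod.ext_iff.1 he
        have he2' := congrArg Subtype.val he2
        dsimp only at he1 he2'
        rw [he1] at he2'
        exact Subtype.ext (mul_left_cancel he2')
      have hsub : Nat.card {w : E // w ≠ 1} + 1 = k * k := by
        rw [← π.hEc, ← Nat.card_congr (Equiv.sumCompl (fun w : E => w ≠ 1)), Nat.card_sum]
        congr 1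
        have : Unique {w : E // ¬ w ≠ 1} := ⟨⟨⟨1, fun e => e rfl⟩⟩, fun q => Subtype.ext (not_not.1 q.2)⟩
        rw [Nat.card_unique]
      rw [Nat.card_prod, π.hEc] at hinj
      set m := Nat.card {w : E // w ≠ 1} with hm
      have hTd : k * (k * k) ∣ Nat.card (normalizer (E : Set G)) := π.hTc ▸ card_dvd_of_le τ.hTN
      have hNpos : 0 < Nat.card (normalizer (E : Set G)) := Nat.card_pos
      rcases τ.kcases with h3 | ⟨h3, -, h60, -⟩
      · have hk' : k = 2 := by
          rw [π.hTc, π.hEc] at h3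
          exact Nat.eq_of_mul_eq_mul_right (by positivity) h3
        obtain ⟨s0, hs0, hs0E⟩ := τ.exists_outer
        obtain ⟨t, g, p, hp, hp2, -, -, hgN, hgo, -⟩ :=
          τ.loc.inv_lift h.le5 (τ.hTN hs0) hs0E (τ.sq_mem' h hs0)
        have hpd : p ∣ Nat.card (normalizer (E : Set G)) := hgo ▸ orderOf_dvd_natCard _ hgN
        have hcop : (k * (k * k)).Coprime p := by
          rw [hk']
          exact Nat.Coprime.pow_left 3 ((Nat.coprime_primes Nat.prime_two hp).2 hp2.symm)
        have h8 := Nat.le_of_dvd hNpos (hcop.mul_dvd_of_dvd_of_dvd hTd hpd)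
        have := hp.two_le
        subst hk'
        omega
      · have hk' : k = 4 := by
          rw [π.hTc, π.hEc] at h3
          exact Nat.eq_of_mul_eq_mul_right (by positivity) h3
        have h8 := Nat.le_of_dvd hNpos h60
        rw [π.hEc] at h8
        subst hk'
        omega
    have hs2 : PE 2 s := pe_of_commute h.le5 Nat.prime_two (pe_of_mem τ.loc.hp hx) hx1 hsc.symm
    obtain ⟨j, hj⟩ := hs2
    obtain ⟨n, hnN, hnT⟩ := τ.conj_into (IsPGroup.of_card (n := j)
      (by rw [Nat.card_zpowers, hj]) : IsPGroup 2 (zpowers s)) (zpowers_le.2 hsN)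
    have hsT := hnT s (mem_zpowers s)
    have hx' : n⁻¹ * x * n ∈ E := (mem_normalizer_iff''.1 hnN x).1 hx
    have hsE' : n⁻¹ * s * n ∉ E := fun hE => hsE ((mem_normalizer_iff''.1 hnN s).2 hE)
    have hxL := π.mem_L h hx' hsT hsE' (by
      show n⁻¹ * x * n * (n⁻¹ * s * n) = n⁻¹ * s * n * (n⁻¹ * x * n)
      calc n⁻¹ * x * n * (n⁻¹ * s * n) = n⁻¹ * (x * s) * n := by group
        _ = n⁻¹ * (s * x) * n := by rw [hsc.eq]
        _ = _ := by group)
    exact (hL_class _ hxL (fun e1 => hx1 (by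
      rw [show x = n * (n⁻¹ * x * n) * n⁻¹ by group, e1, mul_one, mul_inv_cancel]))).trans
      (isConj_iff.2 ⟨n, by group⟩)
  -- the involutions of `B ∖ E`
  have hB_trans : ∀ b ∈ B, b ∉ E → ∀ b' ∈ B, b' ∉ E → IsConj b b' := by
    have hcoset : ∀ b ∈ B, b ∉ E → ∀ l ∈ L, IsConj b (b * l) := by
      intro b hb hbE l hl
      have hbT := π.hBT hb
      let f : E →* L := MonoidHom.mk' (fun x => ⟨(x : G) * (b * x * b), by
        have hb2 := π.hB2 b hb
        have hbx : b * (x : G) * b ∈ E := by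
          have := (mem_normalizer_iff.1 (τ.hTN hbT) x).1 x.2
          rwa [inv_eq_of_mul_eq_one_right hb2] at this
        refine π.mem_L h (mul_mem x.2 hbx) hbT hbE ?_
        show (x : G) * (b * x * b) * b = b * ((x : G) * (b * x * b))
        rw [τ.loc.comm h.le5 x.2 hbx]
        calc b * (x : G) * b * x * b = (b * x * b) * (x * b) := by group
          _ = b * x * (b * (x * b)) := by group
          _ = b * ((b * x * b) * x) := by
            rw [← τ.loc.comm h.le5 x.2 hbx]; group⟩) (fun x x' => Subtype.ext (by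
          show (x : G) * x' * (b * (x * x') * b) = x * (b * x * b) * (x' * (b * x' * b))
          have hbx : b * (x : G) * b ∈ E := by
            have := (mem_normalizer_iff.1 (τ.hTN hbT) x).1 x.2
            rwa [inv_eq_of_mul_eq_one_right (π.hB2 b hb)] at this
          calc (x : G) * x' * (b * (x * x') * b) = x * x' * (b * x * (b * b) * x' * b) := by
                rw [π.hB2 b hb]; group
            _ = x * ((x' : G) * (b * x * b)) * (b * x' * b) := by group
            _ = _ := by rw [τ.loc.comm h.le5 x'.2 hbx]; group))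
      have hsurj : f.range = ⊤ := by
        refine eq_top_of_le_card _ ?_
        have h1 : Nat.card f.range * Nat.card f.ker = Nat.card E := by
          rw [← index_ker, mul_comm]
          exact f.ker.card_mul_index
        have h2 : Nat.card f.ker ≤ k := by
          rw [← π.hL]
          refine Nat.card_le_card_of_injective (fun x => (⟨((x : E) : G), ?_⟩ : ↥(E ⊓ centralizer (T : Set G))))
            fun a c he => Subtype.ext (Subtype.ext (congrArg Subtype.val he :))
          have hx : ((x : E) : G) * (b * (x : E) * b) = 1 := congrArg Subtype.val (MonoidHom.mem_ker.1 x.2)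
          refine π.mem_L h (x : E).2 hbT hbE ?_
          show ((x : E) : G) * b = b * (x : E)
          have h3 : b * ((x : E) : G) * b = (x : E) := by
            rw [← inv_eq_of_mul_eq_one_right hx, inv_eq_of_mul_eq_one_right (τ.E_sq h _ (x : E).2)]
          calc ((x : E) : G) * b = b * (x : E) * b * b := by rw [h3]
            _ = _ := by rw [mul_assoc, π.hB2 b hb, mul_one]
        rw [π.hL]
        rw [π.hEc] at h1
        refine Nat.le_of_mul_le_mul_right (c := k) ?_ (by omega)
        rw [← h1]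
        exact Nat.mul_le_mul_left _ h2
      obtain ⟨x, hx⟩ : (⟨l, hl⟩ : L) ∈ f.range := by rw [hsurj]; trivial
      have hx' : (x : G) * (b * x * b) = l := congrArg Subtype.val hx
      refine isConj_iff.2 ⟨x, ?_⟩
      have hlb : l * b = b * l := (mem_centralizer_iff.1 hl.2 b hbT).symm
      rw [inv_eq_of_mul_eq_one_right (τ.E_sq h _ x.2), ← hlb, ← hx']
      calc (x : G) * b * x = x * b * x * (b * b) := by rw [π.hB2 b hb, mul_one]
        _ = _ := by group
    rcases τ.kcases with h3 | ⟨h3, ⟨y, hyo, hyE, hyT⟩, -⟩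
    · intro b hb hbE b' hb' hb'E
      have hk' : k = 2 := by
        rw [π.hTc, π.hEc] at h3
        exact Nat.eq_of_mul_eq_mul_right (by positivity) h3
      have hrel : b⁻¹ * b' ∈ L := by
        have hLB : Nat.card ↥(L.subgroupOf B) = 2 := by
          rw [Nat.card_congr (subgroupOfEquivOfLe π.L_le_B).toEquiv, π.hL, hk']
        have hidx : (L.subgroupOf B).index = 2 := by
          have h1 := (L.subgroupOf B).card_mul_index
          rw [hLB, π.hBc, hk'] at h1
          omega
        have h1 := (mul_mem_iff_of_index_two hidx (a := (⟨b, hb⟩ : B)⁻¹) (b := ⟨b', hb'⟩)).2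
          (iff_of_false (fun hh => hbE (by
            have := mem_subgroupOf.1 (inv_mem_iff.1 hh)
            exact this.1)) (fun hh => hb'E (mem_subgroupOf.1 hh).1))
        exact mem_subgroupOf.1 h1
      simpa using hcoset b hb hbE _ hrel
    · have hk' : k = 4 := by
        rw [π.hTc, π.hEc] at h3
        exact Nat.eq_of_mul_eq_mul_right (by positivity) h3
      have hyB : ∀ b ∈ B, b ∉ E → y * b * y⁻¹ ∈ B ∧ y * b * y⁻¹ ∉ E := fun b hb hbE => by
        have h1 : y * b * y⁻¹ ∉ E := fun e1 => hbE ((mem_normalizer_iff.1 hyE b).2 e1)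
        refine ⟨(π.invol h ((mem_normalizer_iff.1 hyT b).1 (π.hBT hb)) ?_).resolve_left h1, h1⟩
        rw [show y * b * y⁻¹ * (y * b * y⁻¹) = y * (b * b) * y⁻¹ by group, π.hB2 b hb]; group
      have hLn : L ≤ B := π.L_le_B
      intro b hb hbE b' hb' hb'E
      haveI : IsMulCommutative B := ⟨⟨fun a c => Subtype.ext (comm_of_sq π.hB2 a.2 c.2)⟩⟩
      haveI : (L.subgroupOf B).Normal := ⟨fun x hx g => by rwa [mul_comm' g x, mul_inv_cancel_right]⟩
      obtain ⟨hb1, hb1E⟩ := hyB b hb hbE
      obtain ⟨hb2, hb2E⟩ := hyB _ hb1 hb1E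
      have hne : ∀ c ∈ B, c ∉ E → c⁻¹ * (y * c * y⁻¹) ∉ L := by
        intro c hc hcE hmem
        have hyL : y ∈ normalizer (L : Set G) := by
          rw [← conjMap_eq_self_iff]
          refine eq_of_le_of_card_ge (fun w hw => ?_) (card_conjMap _ _).ge
          obtain ⟨hw1, hw2⟩ := mem_conjMap.1 hw
          refine ⟨(mem_normalizer_iff''.1 hyE w).2 hw1, mem_centralizer_iff.2 fun t ht => ?_⟩
          have h1 := mem_centralizer_iff.1 hw2 _ ((mem_normalizer_iff''.1 hyT t).1 ht)
          calc t * w = y * (y⁻¹ * t * y * (y⁻¹ * w * y)) * y⁻¹ := by group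
            _ = y * (y⁻¹ * w * y * (y⁻¹ * t * y)) * y⁻¹ := by rw [h1]
            _ = _ := by group
        obtain ⟨d, hd, hcd⟩ := fixed_coset (W := L) (a := y) (y := c)
          (by rw [hyo, π.hL, hk']; norm_num) hyL (by simpa [mul_assoc] using hmem)
        exact not_commute_pe h.le5 Nat.prime_two Nat.prime_three (by norm_num)
          (pe_of_mem τ.hT (mul_mem (π.hBT hc) (τ.hET hd.1)))
          (fun e1 => hcE (by rw [eq_inv_of_mul_eq_one_left e1]; exact inv_mem hd.1))
          (pe_of_prime hyo) (fun e' => by rw [e', orderOf_one] at hyo; omega) hcd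
      let q : B → B ⧸ L.subgroupOf B := QuotientGroup.mk
      have hcardQ : Nat.card (B ⧸ L.subgroupOf B) = 4 := by
        have h1 := (L.subgroupOf B).card_mul_index
        rw [Nat.card_congr (subgroupOfEquivOfLe π.L_le_B).toEquiv, π.hL, π.hBc, hk', index_eq_card] at h1
        omega
      let f : Fin 4 → B ⧸ L.subgroupOf B := fun i => match i with
        | 0 => q 1 | 1 => q ⟨b, hb⟩ | 2 => q ⟨_, hb1⟩ | 3 => q ⟨_, hb2⟩
      have hq : ∀ c d : B, q c = q d → (c : G)⁻¹ * d ∈ L := fun c d he => mem_subgroupOf.1 (QuotientGroup.eq.1 he)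
      have hEL : ∀ c : G, c ∉ E → ∀ d : G, d⁻¹ * c ∈ L → d ∉ E := fun c hc d hd hdE =>
        hc (by simpa using mul_mem hdE hd.1)
      have n13 : ¬ (b⁻¹ * (y * (y * b * y⁻¹) * y⁻¹) ∈ L) := by
        intro hm
        refine hne _ hb2 hb2E ?_
        have h3' : y * (y * (y * b * y⁻¹) * y⁻¹) * y⁻¹ = b := by
          rw [show y * (y * (y * b * y⁻¹) * y⁻¹) * y⁻¹ = y ^ 3 * b * (y ^ 3)⁻¹ by
              simp only [pow_succ, pow_zero, one_mul, mul_inv_rev, mul_assoc],
            show y ^ 3 = 1 from hyo ▸ pow_orderOf_eq_one y]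
          group
        rw [h3']
        simpa using inv_mem hm
      have hf : Function.Injective f := by
        intro i j hij
        fin_cases i <;> fin_cases j <;>
          simp only [f, Fin.zero_eta, Fin.mk_one, Fin.reduceFinMk] at hij ⊢ <;>
          first
            | rfl
            | exact absurd ((by simpa using hq _ _ hij : _ ∈ L)).1 hbE
            | exact absurd ((by simpa using hq _ _ hij.symm : _ ∈ L)).1 hbE
            | exact absurd ((by simpa using hq _ _ hij : _ ∈ L)).1 hb1E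
            | exact absurd ((by simpa using hq _ _ hij.symm : _ ∈ L)).1 hb1E
            | exact absurd ((by simpa using hq _ _ hij : _ ∈ L)).1 hb2E
            | exact absurd ((by simpa using hq _ _ hij.symm : _ ∈ L)).1 hb2E
            | exact absurd (hq _ _ hij) (hne b hb hbE)
            | exact absurd (hq _ _ hij.symm) (hne b hb hbE)
            | exact absurd (hq _ _ hij) (hne _ hb1 hb1E)
            | exact absurd (hq _ _ hij.symm) (hne _ hb1 hb1E)
            | exact absurd (hq _ _ hij) n13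
            | exact absurd (hq _ _ hij.symm) n13
      have hbij : Function.Bijective f :=
        (Nat.bijective_iff_injective_and_card f).2 ⟨hf, by rw [Nat.card_fin, hcardQ]⟩
      obtain ⟨i, hi⟩ := hbij.2 (q ⟨b', hb'⟩)
      fin_cases i
      · exact absurd ((by simpa using hq _ _ hi : _ ∈ L)).1 hb'E
      · simpa using hcoset b hb hbE _ (hq _ _ hi)
      · have h1 := hcoset (y * b * y⁻¹) hb1 hb1E ((y * b * y⁻¹)⁻¹ * b') (hq _ _ hi)
        rw [mul_inv_cancel_left] at h1
        exact (isConj_iff.2 ⟨y, rfl⟩).trans h1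
      · have h1 := hcoset (y * (y * b * y⁻¹) * y⁻¹) hb2 hb2E ((y * (y * b * y⁻¹) * y⁻¹)⁻¹ * b') (hq _ _ hi)
        rw [mul_inv_cancel_left] at h1
        exact ((isConj_iff.2 ⟨y, rfl⟩).trans (isConj_iff.2 ⟨y, rfl⟩)).trans h1
  obtain ⟨P, hP⟩ := π.exists_sylow h
  obtain ⟨b, hb, hbE⟩ : ∃ b ∈ B, b ∉ E := by
    by_contra hall
    push Not at hall
    exact π.hBne (eq_of_le_of_card_ge hall (by rw [π.hBc, π.hEc]))
  have hbconj : IsConj z0 b := by
    by_contra hn
    have hnB : ∀ w ∈ B, w ∉ E → ¬ IsConj z0 w := fun w hw hwE hc => hn (hc.trans (hB_trans w hw hwE b hb hbE))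
    have hCb : ∀ w ∈ B, w ∉ E → ∀ g : G, Commute g w → g ∈ B := by
      intro w hw hwE g hg
      set V := centralizer ({w} : Set G) with hV
      have hV2 : IsPGroup 2 V := centralizer_pgroup h.le5 (pe_of_mem τ.hT (π.hBT hw)) fun e1 => hwE (e1 ▸ one_mem E)
      have hBV : B ≤ V := fun v hv => mem_centralizer_singleton_iff.2 (comm_of_sq π.hB2 hv hw)
      by_contra hgB
      obtain ⟨c, hcV, hcB, hcn⟩ := exists_normalizing hV2
        (lt_of_le_of_ne hBV fun e1 => hgB (e1.symm ▸ mem_centralizer_singleton_iff.2 hg.eq))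
      obtain ⟨a, ha⟩ := τ.exists_conj_ge hP hV2
      have h1 : conjMap a⁻¹ B ≤ T := by
        rw [← conjMap_inv_conjMap a T]; exact conjMap_mono (hBV.trans ha)
      have hw' : a⁻¹ * w * a ∈ conjMap a⁻¹ B := mem_conjMap.2 (by simpa [mul_assoc] using hw)
      have hw1 : a⁻¹ * w * a ≠ 1 := fun e1 => hwE (by
        rw [show w = a * (a⁻¹ * w * a) * a⁻¹ by group, e1, mul_one, mul_inv_cancel]; exact one_mem E)
      have hback : IsConj (a⁻¹ * w * a) w := isConj_iff.2 ⟨a, by group⟩
      rcases π.two h h1 (conjMap_sq π.hB2 _) (by rw [card_conjMap, π.hBc]) with e1 | e1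
      · exact hnB w hw hwE ((hE_class _ (e1 ▸ hw') hw1).trans hback)
      · by_cases hwE' : a⁻¹ * w * a ∈ E
        · exact hnB w hw hwE ((hE_class _ hwE' hw1).trans hback)
        · have h2 : a⁻¹ * c * a ∈ B := π.mem_B_of_commute h (e1 ▸ hw') hwE' (mem_conjMap.1 (ha hcV)) (by
            show a⁻¹ * c * a * (a⁻¹ * w * a) = a⁻¹ * w * a * (a⁻¹ * c * a)
            calc a⁻¹ * c * a * (a⁻¹ * w * a) = a⁻¹ * (c * w) * a := by group
              _ = a⁻¹ * (w * c) * a := by rw [mem_centralizer_singleton_iff.1 hcV]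
              _ = _ := by group)
          rw [← e1, mem_conjMap] at h2
          exact hcB (by simpa [mul_assoc] using h2)
    have hbo : orderOf b = 2 := orderOf_eq_prime (by rw [sq]; exact π.hB2 b hb) fun e1 => hbE (e1 ▸ one_mem E)
    refine h.class_not_in hz01 τ.loc.hp fun c => ?_
    set z' := c * z0 * c⁻¹ with hz'
    have hzo : orderOf z' = 2 := by
      rw [hz', show c * z0 * c⁻¹ = MulAut.conj c z0 from rfl, MulEquiv.orderOf_eq]
      exact orderOf_eq_prime (by rw [sq]; exact τ.E_sq h z0 hz0.1) hz01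
    have hzz : z' * z' = 1 := by rw [← sq, ← hzo, pow_orderOf_eq_one]
    have hzE : z' ∈ T → z' ∈ E := fun hT' =>
      (π.invol h hT' hzz).elim id fun hzB => by_contra fun hnE => hnB z' hzB hnE (isConj_iff.2 ⟨c, rfl⟩)
    rcases Nat.even_or_odd (orderOf (b * z')) with hev | hodd
    · obtain ⟨hwo, hwb, hwz⟩ := Cfsg.Lib.InvolCalc.central_spec hbo hzo hev
      set w := (b * z') ^ (orderOf (b * z') / 2) with hw
      have hwB := hCb b hb hbE w hwb
      by_cases hwE : w ∈ E
      · refine hzE ?_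
        rw [← π.cent_L h (π.inf ▸ mem_inf.2 ⟨hwE, hwB⟩) (fun e1 => by rw [e1, orderOf_one] at hwo; omega)]
        exact mem_centralizer_singleton_iff.2 hwz.eq.symm
      · exact hzE (π.hBT (hCb w hwB hwE z' hwz.symm))
    · exfalso
      obtain ⟨v, hvo, hv, -⟩ := Cfsg.Lib.StrongEmb.midpoint hbo hzo hodd
      have hvi : v⁻¹ = v := inv_eq_of_mul_eq_one_right (by rw [← sq, ← hvo, pow_orderOf_eq_one])
      refine hn ?_
      have h1 : IsConj b z' := isConj_iff.2 ⟨v, by rw [hvi, hv]⟩
      exact (isConj_iff.2 ⟨c, rfl⟩ : IsConj z0 z').trans h1.symm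
  intro i hii hi1
  have hi2 : IsPGroup 2 (zpowers i) := IsPGroup.of_card (n := 1)
    (by rw [Nat.card_zpowers, pow_one]; exact orderOf_eq_prime (by rw [sq]; exact hii) hi1)
  obtain ⟨a, ha⟩ := τ.exists_conj_ge hP hi2
  have haT : a⁻¹ * i * a ∈ T := mem_conjMap.1 (ha (mem_zpowers i))
  have hne : a⁻¹ * i * a ≠ 1 := fun e1 => hi1 (by
    rw [show i = a * (a⁻¹ * i * a) * a⁻¹ by group, e1, mul_one, mul_inv_cancel])
  have hback : IsConj (a⁻¹ * i * a) i := isConj_iff.2 ⟨a, by group⟩
  refine IsConj.trans ?_ hback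
  rcases π.invol h haT (by
    calc a⁻¹ * i * a * (a⁻¹ * i * a) = a⁻¹ * (i * i) * a := by group
      _ = 1 := by rw [hii]; group) with h1 | h1
  · exact hE_class _ h1 hne
  · by_cases hE' : a⁻¹ * i * a ∈ E
    · exact hE_class _ hE' hne
    · exact hbconj.trans (hB_trans b hb hbE _ h1 hE')

end Pair

end Cfsg.Lib.SpecFive
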