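import Cfsg.Agent.SpecFive.Local
import Cfsg.Agent.Coprime.SolvableBasics
import Cfsg.Agent.InvolCalc.Dihedral

/-!
The Sylow 2-subgroup of `N(E)`.
-/

set_option autoImplicit false
set_option linter.unusedSectionVars false

namespace Cfsg.Lib.SpecFive

open Subgroup Cfsg.Lib.Coprime
open scoped Pointwise

universe u

variable {G : Type u} [Group G] [Finite G]

/-- `T` is a Sylow 2-subgroup of `N(E)`. -/
structure Top (E T : Subgroup G) : Prop where
  loc : Loc E
  hET : E ≤ T
  hTN : T ≤ normalizer (E : Set G)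
  hT : IsPGroup 2 T
  hmax : ∀ V : Subgroup G, IsPGroup 2 V → T ≤ V → V ≤ normalizer (E : Set G) → V = T
  kcases : Nat.card T = 2 * Nat.card E ∨ (Nat.card T = 4 * Nat.card E ∧
    (∃ y, orderOf y = 3 ∧ y ∈ normalizer (E : Set G) ∧ y ∈ normalizer (T : Set G)) ∧
    60 * Nat.card E ∣ Nat.card (normalizer (E : Set G)) ∧
    ∃ t g : G, t ≠ 1 ∧ t * t = 1 ∧ orderOf g = 5 ∧ t * g * t = g⁻¹)

theorem exists_top' (h : Hyp G) : ∃ E T : Subgroup G, Top E T := by
  obtain ⟨E, L⟩ := exists_loc h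
  obtain ⟨T, h1, h2, h3, h4, h5⟩ := L.exists_top h.le5
  exact ⟨E, T, L, h1, h2, h3, h4, h5⟩

/-- The conjugates of an involution do not lie in one 2-subgroup. -/
theorem Hyp.class_not_in (h : Hyp G) {z : G} (hz1 : z ≠ 1) {V : Subgroup G} (hV : IsPGroup 2 V) :
    ¬ ∀ g : G, g * z * g⁻¹ ∈ V := by
  intro hall
  haveI : Fact (Nat.Prime 2) := ⟨Nat.prime_two⟩
  have hle : normalClosure ({z} : Set G) ≤ V := (closure_le _).2 fun y hy => by
    obtain ⟨a, ha, hc⟩ := Group.mem_conjugatesOfSet_iff.1 hy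
    obtain ⟨c, rfl⟩ := isConj_iff.1 hc
    rw [Set.mem_singleton_iff] at ha
    subst ha
    exact hall c
  have h1 := h.normal_pgroup (normalClosure ({z} : Set G)) inferInstance (hV.to_le hle)
  have h2 : z ∈ normalClosure ({z} : Set G) := subset_normalClosure rfl
  rw [h1, mem_bot] at h2
  exact hz1 h2

theorem conjMap_sq {A : Subgroup G} (hA : ∀ a ∈ A, a * a = 1) (g : G) : ∀ a ∈ conjMap g A, a * a = 1 := by
  intro a ha
  have h1 := hA _ (mem_conjMap.1 ha)
  have h2 := congrArg (g * · * g⁻¹) h1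
  simpa [mul_assoc] using h2

theorem comm_of_sq {A : Subgroup G} (hA : ∀ a ∈ A, a * a = 1) {a b : G} (ha : a ∈ A) (hb : b ∈ A) :
    a * b = b * a := by
  calc a * b = (a * b)⁻¹ := (inv_eq_of_mul_eq_one_right (hA _ (mul_mem ha hb))).symm
    _ = _ := by rw [mul_inv_rev, inv_eq_of_mul_eq_one_right (hA a ha), inv_eq_of_mul_eq_one_right (hA b hb)]

namespace Top

variable {E T : Subgroup G}

theorem conj_into (τ : Top E T) {V : Subgroup G} (hV : IsPGroup 2 V) (hVN : V ≤ normalizer (E : Set G)) :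
    ∃ n ∈ normalizer (E : Set G), ∀ v ∈ V, n⁻¹ * v * n ∈ T := by
  haveI : Fact (Nat.Prime 2) := ⟨Nat.prime_two⟩
  set N := normalizer (E : Set G) with hN
  let S : Sylow 2 N := ⟨T.subgroupOf N, τ.hT.of_equiv (subgroupOfEquivOfLe τ.hTN).symm, fun {Q} hQ hle => by
    have h1 := τ.hmax (Q.map N.subtype) (hQ.map _) (fun t ht => ⟨⟨t, τ.hTN ht⟩, hle ht, rfl⟩) (map_subtype_le _)
    ext x
    rw [mem_subgroupOf, ← h1]
    exact (mem_map_iff_mem N.subtype_injective).symm⟩
  obtain ⟨S', hS'⟩ := (hV.of_equiv (subgroupOfEquivOfLe hVN).symm).exists_le_sylow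
  obtain ⟨n, hn⟩ := MulAction.exists_smul_eq N S S'
  refine ⟨n, n.2, fun v hv => ?_⟩
  have h1 : (⟨v, hVN hv⟩ : N) ∈ ((n • S : Sylow 2 N) : Subgroup N) := by
    rw [hn]; exact hS' (mem_subgroupOf.2 hv)
  rw [Sylow.coe_subgroup_smul, conj_smul_eq, mem_conjMap] at h1
  exact mem_subgroupOf.1 h1

theorem E_sq (τ : Top E T) (h : Hyp G) : ∀ a ∈ E, a * a = 1 := τ.loc.elem h.le5

theorem sq_mem' (τ : Top E T) (h : Hyp G) {t : G} (ht : t ∈ T) : t * t ∈ E :=
  haveI : Fact (Nat.Prime 2) := ⟨Nat.prime_two⟩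
  τ.loc.sq_mem h.le5 (τ.hTN ht) (pe_of_mem τ.hT ht)

theorem exists_outer (τ : Top E T) : ∃ s ∈ T, s ∉ E := by
  by_contra hall
  push Not at hall
  have h1 : T = E := le_antisymm hall τ.hET
  have h2 := Nat.card_pos (α := E)
  rcases τ.kcases with h3 | ⟨h3, -⟩ <;> rw [h1] at h3 <;> omega

theorem card_k (τ : Top E T) : ∃ k, (k = 2 ∨ k = 4) ∧ Nat.card T = k * Nat.card E := by
  rcases τ.kcases with h3 | ⟨h3, -⟩
  · exact ⟨2, Or.inl rfl, h3⟩
  · exact ⟨4, Or.inr rfl, h3⟩

theorem cent_card (τ : Top E T) (h : Hyp G) {s : G} (hs : s ∈ normalizer (E : Set G)) (hsE : s ∉ E)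
    (hss : s * s ∈ E) : Nat.card ↥(E ⊓ centralizer ({s} : Set G)) ^ 2 = Nat.card E :=
  (τ.loc.elem_cent h.le5 hs hsE hss).2

/-- The basic numbers. -/
theorem numbers (τ : Top E T) (h : Hyp G) :
    ∃ k e, (k = 2 ∨ k = 4) ∧ Nat.card T = k * Nat.card E ∧ Nat.card E = e * e ∧ k ≤ e ∧
      (∀ s ∈ normalizer (E : Set G), s ∉ E → s * s ∈ E → Nat.card ↥(E ⊓ centralizer ({s} : Set G)) = e) ∧
      (k = e → Nat.card ↥(E ⊓ centralizer (T : Set G)) = e) := by
  classical
  haveI : Fact (Nat.Prime 2) := ⟨Nat.prime_two⟩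
  obtain ⟨s, hsT, hsE⟩ := τ.exists_outer
  set L := E ⊓ centralizer ({s} : Set G) with hL
  set e := Nat.card L with he
  have hee : Nat.card E = e * e := by
    rw [← sq, he, τ.cent_card h (τ.hTN hsT) hsE (τ.sq_mem' h hsT)]
  have hall : ∀ s' ∈ normalizer (E : Set G), s' ∉ E → s' * s' ∈ E →
      Nat.card ↥(E ⊓ centralizer ({s'} : Set G)) = e := fun s' h1 h2 h3 =>
    Nat.pow_left_injective (by norm_num : (2 : ℕ) ≠ 0)
      (by show _ ^ 2 = e ^ 2; rw [τ.cent_card h h1 h2 h3, sq, hee])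
  have he2 : 2 ≤ e := by
    by_contra hlt
    interval_cases he' : e
    · exact Nat.card_pos.ne' hee
    · exact τ.loc.ne (card_eq_one.1 (by simpa using hee))
  set L0 := E ⊓ centralizer (T : Set G) with hL0
  have hL0L : L0 ≤ L := inf_le_inf_left _ (centralizer_le (Set.singleton_subset_iff.2 hsT))
  obtain ⟨k, hk, hTk⟩ := τ.card_k
  rcases τ.kcases with h3 | ⟨h3, ⟨y, hyo, hyE, hyT⟩, -, -⟩
  · refine ⟨2, e, Or.inl rfl, h3, hee, he2, hall, fun _ => ?_⟩
    refine le_antisymm (Nat.le_of_dvd Nat.card_pos (card_dvd_of_le hL0L)) (Nat.le_of_dvd Nat.card_pos ?_)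
    refine card_dvd_of_le (le_inf inf_le_left fun v hv => ?_)
    rw [mem_centralizer_iff]
    intro t ht
    set K := centralizer ({v} : Set G) ⊓ T with hK
    have hEK : E ≤ K := le_inf (fun a ha => mem_centralizer_singleton_iff.2
      (τ.loc.comm h.le5 ha hv.1)) τ.hET
    have hsK : s ∈ K := ⟨mem_centralizer_singleton_iff.2 (mem_centralizer_singleton_iff.1 hv.2).symm, hsT⟩
    have hKT : K = T := by
      refine eq_of_le_of_card_ge inf_le_right ?_
      obtain ⟨c, hc⟩ := card_dvd_of_le hEK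
      have hlt : Nat.card E < Nat.card K := by
        by_contra hge
        exact hsE ((eq_of_le_of_card_ge hEK (not_lt.1 hge)).symm ▸ hsK)
      rw [h3]
      rcases c with _ | _ | c
      · rw [hc] at hlt; simp at hlt
      · rw [hc] at hlt; simp at hlt
      · rw [hc, mul_comm 2]; exact Nat.mul_le_mul_left _ (by omega)
    have ht' : t ∈ K := by rw [hKT]; exact ht
    exact mem_centralizer_singleton_iff.1 ht'.1
  · have hL0ne : L0 ≠ ⊥ := by
      haveI := τ.hT.isNilpotent
      haveI : (E.subgroupOf T).Normal := (normal_subgroupOf_iff_le_normalizer τ.hET).2 τ.hTN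
      obtain ⟨v, hv, hv1⟩ := (bot_or_exists_ne_one _).resolve_left
        (inf_center_ne_bot (E.subgroupOf T) fun e1 => τ.loc.ne (by
          rw [subgroupOf_eq_bot, disjoint_iff, inf_eq_left.2 τ.hET] at e1; exact e1))
      intro e1
      have hvL : (v : G) ∈ L0 := ⟨mem_subgroupOf.1 hv.1, mem_centralizer_iff.2 fun t ht =>
        congrArg Subtype.val (mem_center_iff.1 hv.2 ⟨t, ht⟩)⟩
      rw [e1, mem_bot] at hvL
      exact hv1 (Subtype.ext hvL)
    obtain ⟨v, hv, hv1⟩ := (bot_or_exists_ne_one L0).resolve_left hL0ne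
    have hyv : y * v * y⁻¹ ∈ L0 := by
      refine ⟨(mem_normalizer_iff.1 hyE v).1 hv.1, mem_centralizer_iff.2 fun t ht => ?_⟩
      have h1 := mem_centralizer_iff.1 hv.2 _ ((mem_normalizer_iff''.1 hyT t).1 ht)
      calc t * (y * v * y⁻¹) = y * (y⁻¹ * t * y * v) * y⁻¹ := by group
        _ = y * (v * (y⁻¹ * t * y)) * y⁻¹ := by rw [h1]
        _ = _ := by group
    have hyne : y * v * y⁻¹ ≠ v := fun e1 =>
      not_commute_pe h.le5 Nat.prime_three Nat.prime_two (by norm_num) (pe_of_prime hyo)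
        (fun e' => by rw [e', orderOf_one] at hyo; omega) (pe_of_mem τ.loc.hp hv.1) hv1
        (mul_inv_eq_iff_eq_mul.1 e1)
    have h3le : 3 ≤ Nat.card L0 := by
      have hf : Function.Injective (fun i : Fin 3 => match i with
          | 0 => (1 : L0) | 1 => ⟨v, hv⟩ | 2 => ⟨_, hyv⟩) := by
        intro i j hij
        fin_cases i <;> fin_cases j <;>
          simp only [Fin.zero_eta, Fin.mk_one, Fin.reduceFinMk, Subtype.ext_iff, OneMemClass.coe_one] at hij ⊢ <;>
          first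
            | rfl
            | exact absurd hij.symm hv1
            | exact absurd hij hv1
            | exact absurd hij hyne
            | exact absurd hij.symm hyne
            | exact absurd (conj_eq_one_iff.1 hij) hv1
            | exact absurd (conj_eq_one_iff.1 hij.symm) hv1
      simpa using Nat.card_le_card_of_injective _ hf
    obtain ⟨i, hi⟩ := IsPGroup.iff_card.1 (τ.loc.hp.to_le (inf_le_left : L0 ≤ E))
    have h4 : 4 ≤ Nat.card L0 := by
      rw [hi] at h3le ⊢
      rcases i with _ | _ | i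
      · simp at h3le
      · simp at h3le
      · calc 4 = 2 ^ 2 := rfl
          _ ≤ _ := Nat.pow_le_pow_right (by norm_num) (by omega)
    have hle := Nat.le_of_dvd Nat.card_pos (card_dvd_of_le hL0L)
    refine ⟨4, e, Or.inr rfl, h3, hee, h4.trans hle, hall, fun hke => ?_⟩
    exact le_antisymm hle (hke ▸ h4)

/-- Elementary subgroups outside `E` are small. -/
theorem bound (τ : Top E T) (h : Hyp G) {A : Subgroup G} (hAT : A ≤ T) (hA : ∀ a ∈ A, a * a = 1)
    {a : G} (ha : a ∈ A) (haE : a ∉ E) :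
    E ⊓ A ≤ E ⊓ centralizer ({a} : Set G) ∧
      Nat.card ↥(E ⊔ A) * Nat.card ↥(E ⊓ A) = Nat.card E * Nat.card A ∧ Nat.card ↥(E ⊔ A) ≤ Nat.card T :=
  ⟨fun v hv => ⟨hv.1, mem_centralizer_singleton_iff.2 (comm_of_sq hA hv.2 ha)⟩,
    card_sup_mul_card_inf (hAT.trans τ.hTN), Nat.le_of_dvd Nat.card_pos (card_dvd_of_le (sup_le τ.hET hAT))⟩

/-- `T` is a Sylow 2-subgroup of `G` if its normaliser has no 2-element outside `N(E)`. -/
theorem exists_sylow (τ : Top E T)
    (hy : ∀ g ∈ normalizer (T : Set G), PE 2 g → g ∈ normalizer (E : Set G)) :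
    ∃ P : Sylow 2 G, (P : Subgroup G) = T := by
  haveI : Fact (Nat.Prime 2) := ⟨Nat.prime_two⟩
  obtain ⟨P, hP⟩ := τ.hT.exists_le_sylow
  refine ⟨P, ?_⟩
  by_contra hne
  obtain ⟨g, hgP, hgT, hgn⟩ := exists_normalizing P.2 (lt_of_le_of_ne hP (Ne.symm hne))
  have hgp := pe_of_mem P.2 hgP
  have h1 : IsPGroup 2 (T ⊔ zpowers g : Subgroup G) := P.2.to_le (sup_le hP (zpowers_le.2 hgP))
  have h2 := τ.hmax _ h1 le_sup_left (sup_le τ.hTN (zpowers_le.2 (hy g hgn hgp)))
  exact hgT (h2 ▸ mem_sup_right (mem_zpowers g))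

theorem exists_conj_ge (τ : Top E T) {P : Sylow 2 G} (hP : (P : Subgroup G) = T) {V : Subgroup G}
    (hV : IsPGroup 2 V) : ∃ g : G, V ≤ conjMap g T := by
  haveI : Fact (Nat.Prime 2) := ⟨Nat.prime_two⟩
  obtain ⟨Q, hQ⟩ := hV.exists_le_sylow
  obtain ⟨g, hg⟩ := MulAction.exists_smul_eq G P Q
  refine ⟨g, ?_⟩
  rw [← hP, ← conj_smul_eq, ← Sylow.coe_subgroup_smul, hg]
  exact hQ

/-- `E` is not the only elementary subgroup of its order in `T`. -/
theorem exists_other (τ : Top E T) (h : Hyp G) :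
    ∃ A : Subgroup G, A ≤ T ∧ (∀ a ∈ A, a * a = 1) ∧ Nat.card E ≤ Nat.card A ∧ A ≠ E := by
  classical
  haveI : Fact (Nat.Prime 2) := ⟨Nat.prime_two⟩
  by_contra hU
  push Not at hU
  obtain ⟨k, e, hk, hTc, hEc, hke, hcent, hL0⟩ := τ.numbers h
  have hE2 := τ.E_sq h
  have hk2 : 2 ≤ k := by rcases hk with e1 | e1 <;> omega
  obtain ⟨P, hP⟩ := τ.exists_sylow fun g hg hgp => by
    rw [← conjMap_eq_self_iff]
    refine hU _ ?_ (conjMap_sq hE2 g) (card_conjMap _ _).ge
    rw [← conjMap_eq_self hg]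
    exact conjMap_mono τ.hET
  -- in every 2-subgroup there is at most one conjugate of `E`
  have huniq : ∀ V : Subgroup G, IsPGroup 2 V → ∀ a b : G, conjMap a E ≤ V → conjMap b E ≤ V →
      conjMap a E = conjMap b E := by
    intro V hV a b ha hb
    obtain ⟨g, hg⟩ := τ.exists_conj_ge hP hV
    have hone : ∀ c : G, conjMap c E ≤ V → conjMap c E = conjMap g E := by
      intro c hc
      have h1 : conjMap (g⁻¹ * c) E ≤ T := by
        rw [← conjMap_mul, ← conjMap_inv_conjMap g T]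
        exact conjMap_mono (hc.trans hg)
      have h2 := hU _ h1 (conjMap_sq hE2 _) (card_conjMap _ _).ge
      calc conjMap c E = conjMap g (conjMap (g⁻¹ * c) E) := by rw [conjMap_mul, mul_inv_cancel_left]
        _ = conjMap g E := by rw [h2]
    rw [hone a ha, hone b hb]
  have hTI : ∀ v g : G, v ≠ 1 → v ∈ E → v ∈ conjMap g E → conjMap g E = E := by
    intro v g hv1 hv hvg
    have hV := centralizer_pgroup h.le5 (pe_of_mem τ.loc.hp hv) hv1
    have h1 := huniq _ hV g 1 (fun w hw => mem_centralizer_singleton_iff.2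
      (comm_of_sq (conjMap_sq hE2 g) hw hvg)) (fun w hw => by
      rw [conjMap_one] at hw
      exact mem_centralizer_singleton_iff.2 (comm_of_sq hE2 hw hv))
    rwa [conjMap_one] at h1
  have hcN : ∀ v w : G, v ≠ 1 → v ∈ E → Commute w v → w ∈ normalizer (E : Set G) := by
    intro v w hv1 hv hc
    refine conjMap_eq_self_iff.1 (hTI v w hv1 hv (mem_conjMap.2 ?_))
    rw [mul_assoc, ← hc.eq, inv_mul_cancel_left]
    exact hv
  obtain ⟨s0, hs0T, hs0E⟩ := τ.exists_outer
  by_cases hii : ∃ s g : G, s ∈ normalizer (E : Set G) ∧ s ∉ E ∧ s * s = 1 ∧ g⁻¹ * s * g ∈ E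
  · -- an outer involution conjugate into `E`
    obtain ⟨s, a, hsN, hsE, hss, hsa⟩ := hii
    set F := conjMap a E with hF
    have hsF : s ∈ F := mem_conjMap.2 hsa
    have hs1 : s ≠ 1 := fun e1 => hsE (e1 ▸ one_mem E)
    have hne : F ≠ E := fun e1 => hsE (e1 ▸ hsF)
    have hV := centralizer_pgroup h.le5 (Loc.pe_of_sq hss) hs1
    obtain ⟨g, hg⟩ := τ.exists_conj_ge hP hV
    have hFC : F ≤ centralizer ({s} : Set G) := fun w hw =>
      mem_centralizer_singleton_iff.2 (comm_of_sq (conjMap_sq hE2 a) hw hsF)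
    have hFg : F = conjMap g E := huniq _ (τ.hT.map _ : IsPGroup 2 (conjMap g T)) a g (hFC.trans hg)
      (conjMap_mono τ.hET)
    set D := conjMap g⁻¹ (E ⊓ centralizer ({s} : Set G)) with hD
    have hDT : D ≤ T := by
      rw [hD, ← conjMap_inv_conjMap g T]
      exact conjMap_mono (inf_le_right.trans hg)
    have hDE : E ⊓ D = ⊥ := by
      rw [eq_bot_iff]
      rintro v ⟨hvE, hvD⟩
      rw [mem_bot]
      by_contra hv1
      have h1 : g * v * g⁻¹ ∈ E := by
        have := (mem_conjMap.1 hvD).1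
        rwa [inv_inv] at this
      have h2 : g * v * g⁻¹ ∈ conjMap g E := mem_conjMap.2 (by simpa [mul_assoc] using hvE)
      exact hne (hFg.trans (hTI _ g (fun e1 => hv1 (conj_eq_one_iff.1 e1)) h1 h2))
    have hDc : Nat.card D = e := by
      rw [hD, card_conjMap, hcent s hsN hsE (by rw [hss]; exact one_mem E)]
    have hsup := card_sup_of_inf_eq_bot (N := E) (H := D) (hDT.trans τ.hTN) hDE
    have hle : Nat.card ↥(E ⊔ D) ≤ Nat.card T := Nat.le_of_dvd Nat.card_pos (card_dvd_of_le (sup_le τ.hET hDT))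
    rw [hsup, hTc, hDc, mul_comm k] at hle
    have hek : k = e := le_antisymm hke (Nat.le_of_mul_le_mul_left hle Nat.card_pos)
    set L0 := E ⊓ centralizer (T : Set G) with hL0d
    have hcomm : ∀ x ∈ L0, ∀ d ∈ D, d * x = x * d := fun x hx d hd =>
      mem_centralizer_iff.1 hx.2 d (hDT hd)
    have hDn : D ≤ normalizer (L0 : Set G) := fun d hd => by
      rw [← conjMap_eq_self_iff]
      refine eq_of_le_of_card_ge (fun w hw => ?_) (card_conjMap _ _).ge
      have h1 : d⁻¹ * w * d ∈ L0 := mem_conjMap.1 hw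
      have h2 := hcomm _ h1 d hd
      rw [show d * (d⁻¹ * w * d) = w * d by group] at h2
      rwa [mul_right_cancel h2]
    have hinf : L0 ⊓ D = ⊥ := eq_bot_iff.2 ((inf_le_inf_right D inf_le_left).trans hDE.le)
    have hD2 : ∀ d ∈ D, d * d = 1 := fun d hd =>
      conjMap_sq (A := E ⊓ centralizer ({s} : Set G)) (fun w hw => hE2 w hw.1) g⁻¹ d hd
    have h2 := hU (L0 ⊔ D) (sup_le (inf_le_left.trans τ.hET) hDT) (fun w hw => by
      obtain ⟨x, hx, d, hd, rfl⟩ := (mem_sup_of_le_normalizer hDn).1 hw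
      calc x * d * (x * d) = x * (d * x) * d := by group
        _ = x * x * (d * d) := by rw [hcomm x hx d hd]; group
        _ = 1 := by rw [hE2 x hx.1, hD2 d hd, one_mul])
      (by rw [card_sup_of_inf_eq_bot hDn hinf, hEc, hDc, hL0 hek])
    have hDbot : D = ⊥ := by
      rw [← hDE, eq_comm, inf_eq_right]
      exact h2 ▸ le_sup_right
    rw [hDbot, card_bot] at hDc
    omega
  · -- no outer involution is conjugate into `E`
    push Not at hii
    have hcs : ∀ s : G, s ∈ normalizer (E : Set G) → s ∉ E → s * s = 1 →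
        ∀ w : G, Commute w s → w ∈ normalizer (E : Set G) := by
      intro s hsN hsE hss w hw
      obtain ⟨g, hg⟩ := τ.exists_conj_ge hP
        (centralizer_pgroup h.le5 (Loc.pe_of_sq hss) fun e1 => hsE (e1 ▸ one_mem E))
      have hc := hcent s hsN hsE (by rw [hss]; exact one_mem E)
      obtain ⟨v, hv, hv1⟩ := (bot_or_exists_ne_one (E ⊓ centralizer ({s} : Set G))).resolve_left fun e1 => by
        rw [e1, card_bot] at hc; omega
      have hvT : g⁻¹ * v * g ∈ T := mem_conjMap.1 (hg hv.2)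
      have hvE : g⁻¹ * v * g ∈ E := by
        by_contra hnE
        refine hii _ g⁻¹ (τ.hTN hvT) hnE ?_ (by simpa [mul_assoc] using hv.1)
        have := hE2 v hv.1
        calc g⁻¹ * v * g * (g⁻¹ * v * g) = g⁻¹ * (v * v) * g := by group
          _ = 1 := by rw [this]; group
      have h1 := hTI v g hv1 hv.1 (mem_conjMap.2 hvE)
      have h2 : conjMap g T ≤ normalizer (E : Set G) := by
        rw [← h1, normalizer_conjMap]
        exact conjMap_mono τ.hTN
      exact h2 (hg (mem_centralizer_singleton_iff.2 hw.eq))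
    obtain ⟨t, g5, p, hp, hp2, hts, htt, -, hgo, htg⟩ :=
      τ.loc.inv_lift h.le5 (τ.hTN hs0T) hs0E (τ.sq_mem' h hs0T)
    have htE : t ∉ E := fun hte => hs0E (by
      have := mul_mem (inv_mem hts) hte
      rwa [mul_inv_rev, inv_inv, inv_mul_cancel_right] at this)
    have htN : t ∈ normalizer (E : Set G) := by
      have := mul_mem (le_normalizer hts) (τ.hTN hs0T)
      rwa [inv_mul_cancel_right] at this
    have hto : orderOf t = 2 := orderOf_eq_prime (by rw [sq]; exact htt) fun e1 => htE (e1 ▸ one_mem E)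
    obtain ⟨z, hz, hz1⟩ := (bot_or_exists_ne_one E).resolve_left τ.loc.ne
    refine h.class_not_in hz1 τ.loc.hp fun c => ?_
    set z' := c * z * c⁻¹ with hz'
    have hzo : orderOf z' = 2 := by
      rw [hz', show c * z * c⁻¹ = MulAut.conj c z from rfl, MulEquiv.orderOf_eq]
      exact orderOf_eq_prime (by rw [sq]; exact hE2 z hz) hz1
    have hzz : z' * z' = 1 := by rw [← sq, ← hzo, pow_orderOf_eq_one]
    have hnotouter : z' ∈ normalizer (E : Set G) → z' ∈ E := fun hN => by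
      by_contra hnE
      exact hii z' c hN hnE hzz (by rw [hz', show c⁻¹ * (c * z * c⁻¹) * c = z by group]; exact hz)
    rcases Nat.even_or_odd (orderOf (t * z')) with hev | hodd
    · obtain ⟨hwo, hwt, hwz⟩ := Cfsg.Lib.InvolCalc.central_spec hto hzo hev
      set w := (t * z') ^ (orderOf (t * z') / 2) with hw
      have hwN := hcs t htN htE htt w hwt
      by_cases hwE : w ∈ E
      · exact hnotouter (hcN w z' (fun e1 => by rw [e1, orderOf_one] at hwo; omega) hwE hwz.symm)
      · exact hnotouter (hcs w hwN hwE (by rw [← sq, ← hwo, pow_orderOf_eq_one]) z' hwz.symm)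
    · exfalso
      obtain ⟨v, hvo, hv, -⟩ := Cfsg.Lib.StrongEmb.midpoint hto hzo hodd
      have hvi : v⁻¹ = v := inv_eq_of_mul_eq_one_right (by rw [← sq, ← hvo, pow_orderOf_eq_one])
      refine hii t (v * c) htN htE htt ?_
      rw [show (v * c)⁻¹ * t * (v * c) = c⁻¹ * (v⁻¹ * t * v) * c by group, hvi, hv, hz',
        show c⁻¹ * (c * z * c⁻¹) * c = z by group]
      exact hz

end Top

end Cfsg.Lib.SpecFive
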