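import Cfsg.Agent.SpecFive.Odd
import Cfsg.Agent.Frobenius.Kernel
import Cfsg.Agent.S1224
import Cfsg.Agent.S1225

/-!
In a simple group with element orders at most five and all three primes the Sylow 2-subgroups are not TI.
-/

set_option autoImplicit false
set_option linter.unusedSectionVars false

namespace Cfsg.Lib.SpecFive

open Subgroup Cfsg.Lib.Coprime
open scoped Pointwise

universe u

variable {G : Type u} [Group G] [Finite G]

/-- The hypotheses on the simple group. -/
structure Hyp (G : Type u) [Group G] : Prop where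
  le5 : Le5 G
  simple : ∀ N : Subgroup G, N.Normal → N = ⊥ ∨ N = ⊤
  h2 : 2 ∣ Nat.card G
  h3 : 3 ∣ Nat.card G
  h5 : 5 ∣ Nat.card G
  nine : ∀ R : Sylow 3 G, 9 ≤ Nat.card R

theorem Hyp.not_pgroup (h : Hyp G) {p : ℕ} [hp : Fact p.Prime] : ¬ IsPGroup p G := by
  intro hG
  obtain ⟨n, hn⟩ := IsPGroup.iff_card.1 hG
  have h2 : 2 ∣ p ^ n := hn ▸ h.h2
  have h3 : 3 ∣ p ^ n := hn ▸ h.h3
  have e2 := (Nat.prime_dvd_prime_iff_eq Nat.prime_two hp.out).1 (Nat.prime_two.dvd_of_dvd_pow h2)
  have e3 := (Nat.prime_dvd_prime_iff_eq Nat.prime_three hp.out).1 (Nat.prime_three.dvd_of_dvd_pow h3)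
  omega

theorem Hyp.normal_pgroup (h : Hyp G) {p : ℕ} [Fact p.Prime] (N : Subgroup G) (hn : N.Normal)
    (hN : IsPGroup p N) : N = ⊥ :=
  (h.simple N hn).resolve_right fun e => h.not_pgroup (p := p) ((e ▸ hN).of_equiv topEquiv)

theorem Hyp.no_frobenius (h : Hyp G) {H : Subgroup G} (hH : Cfsg.IsFrobeniusComplement H) : False := by
  obtain ⟨N, -, hNn, hc⟩ := Cfsg.Lib.Frobenius.exists_kernel hH
  rcases h.simple N hNn with e | e
  · exact hH.2.1 (by simpa [e] using hc.sup_eq_top)
  · exact hH.1 (by simpa [e] using hc.disjoint)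

theorem not_pe_two_odd {t : G} {p : ℕ} (hp : p.Prime) (hp2 : p ≠ 2) (ht : orderOf t = 2) : ¬ PE p t := by
  rintro ⟨k, hk⟩
  rw [ht] at hk
  exact hp2 ((Nat.prime_dvd_prime_iff_eq Nat.prime_two hp).1
    (Nat.prime_two.dvd_of_dvd_pow (n := k) (by rw [← hk]))).symm

/-- An odd subgroup whose Sylow subgroups have order at most `p` has order 1, 3 or 5. -/
theorem card_odd_small (h : Le5 G) {D : Subgroup G} (hodd : Odd (Nat.card D))
    (hb : ∀ (p : ℕ) [Fact p.Prime], p ≠ 2 → ∀ P : Subgroup G, IsPGroup p P → P ≤ D → Nat.card P ∣ p) :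
    Nat.card D = 1 ∨ Nat.card D = 3 ∨ Nat.card D = 5 := by
  haveI : Fact (Nat.Prime 2) := ⟨Nat.prime_two⟩
  have hdvd : Nat.card D ∣ 15 := by
    rw [Nat.dvd_iff_prime_pow_dvd_dvd]
    intro p k hp hk
    haveI := Fact.mk hp
    rcases k with _ | k
    · simp
    have hpd : p ∣ Nat.card D := (dvd_pow_self p (Nat.succ_ne_zero k)).trans hk
    have hp2 : p ≠ 2 := by
      rintro rfl
      exact (Nat.not_even_iff_odd.2 hodd) (even_iff_two_dvd.2 hpd)
    obtain ⟨P⟩ : Nonempty (Sylow p D) := inferInstance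
    have h1 := hb p hp2 _ (P.2.map D.subtype) (map_subtype_le _)
    rw [card_map_of_injective D.subtype_injective] at h1
    refine ((P.pow_dvd_card_of_pow_dvd_card hk).trans h1).trans ?_
    rcases primes (h.subgroup D) hp hpd with rfl | rfl | rfl
    · exact absurd rfl hp2
    · norm_num
    · norm_num
  have hne : Nat.card D ≠ 15 := by
    intro e
    haveI : Fact (Nat.Prime 3) := ⟨Nat.prime_three⟩
    haveI : Fact (Nat.Prime 5) := ⟨by norm_num⟩
    obtain ⟨P⟩ : Nonempty (Sylow 5 D) := inferInstance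
    have hPc : Nat.card P = 5 := by
      have h1 := P.card_eq_multiplicity
      rw [e] at h1
      rw [h1, show (15 : ℕ) = 3 * 5 by rfl, Nat.factorization_mul (by norm_num) (by norm_num),
        Nat.Prime.factorization (by norm_num : Nat.Prime 5), Nat.Prime.factorization Nat.prime_three]
      simp
    have hidx : (P : Subgroup D).index = 3 := by
      have h1 := (P : Subgroup D).card_mul_index
      rw [show Nat.card (P : Subgroup D) = 5 from hPc, e] at h1
      omega
    haveI : (P : Subgroup D).Normal :=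
      normal_of_index_eq_minFac_card (by rw [hidx, e]; norm_num)
    obtain ⟨y, hy⟩ := exists_prime_orderOf_dvd_card' (G := D) 3 (by rw [e]; norm_num)
    obtain ⟨v, hv, hv1⟩ := (bot_or_exists_ne_one (P : Subgroup D)).resolve_left fun hb => by
      rw [hb, card_bot] at hPc; omega
    exact not_commute_pe (h.subgroup D) Nat.prime_three (by norm_num : Nat.Prime 5) (by norm_num)
      (pe_of_prime hy) (fun hh => by rw [hh, orderOf_one] at hy; omega) (pe_of_mem P.2 hv) hv1
      (commute_of_cyclic (p := 3) hPc (by rw [hy]) (by rw [normalizer_eq_top]; trivial) (by decide) v hv)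
  have hd := Nat.mem_divisors.2 ⟨hdvd, by norm_num⟩
  rw [show Nat.divisors 15 = {1, 3, 5, 15} by decide] at hd
  simp only [Finset.mem_insert, Finset.mem_singleton] at hd
  omega

/-- An odd subgroup normalising a nontrivial 2-group has order 1, 3 or 5. -/
theorem card_odd_normalizing (h : Le5 G) {D V : Subgroup G} (hodd : Odd (Nat.card D)) (hV : IsPGroup 2 V)
    (hV1 : V ≠ ⊥) (hn : D ≤ normalizer (V : Set G)) :
    Nat.card D = 1 ∨ Nat.card D = 3 ∨ Nat.card D = 5 :=
  haveI : Fact (Nat.Prime 2) := ⟨Nat.prime_two⟩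
  card_odd_small h hodd fun _ _ hp2 _ hP hle => card_dvd_of_normalizes h hp2 hp2 hP hV hV1 (hle.trans hn)

/-- The centraliser of an element of order three has order at least nine. -/
theorem card_centralizer_three (h : Hyp G) {x : G} (hx : orderOf x = 3) :
    9 ≤ Nat.card (centralizer ({x} : Set G)) := by
  haveI : Fact (Nat.Prime 3) := ⟨Nat.prime_three⟩
  obtain ⟨R, hR⟩ := (IsPGroup.of_card (n := 1) (by rw [Nat.card_zpowers, hx, pow_one]) :
    IsPGroup 3 (zpowers x)).exists_le_sylow
  have hxR : x ∈ (R : Subgroup G) := hR (mem_zpowers x)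
  obtain ⟨n, hn⟩ := IsPGroup.iff_card.1 R.2
  have h9 := h.nine R
  haveI : Nontrivial R := Finite.one_lt_card_iff_nontrivial.1 (lt_of_lt_of_le (by norm_num) h9)
  have hz := R.2.center_nontrivial
  obtain ⟨⟨⟨w, hwR⟩, hwc⟩, hw1⟩ := exists_ne (1 : center R)
  have hwc' : ∀ g ∈ (R : Subgroup G), g * w = w * g := fun g hg =>
    congrArg Subtype.val (mem_center_iff.1 hwc ⟨g, hg⟩)
  have hw1' : w ≠ 1 := fun e => hw1 (Subtype.ext (Subtype.ext e))
  by_cases hw : w ∈ zpowers x
  · -- then `x` is central in `R`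
    obtain ⟨i, hi⟩ := mem_zpowers_iff.1 hw
    have hxw : x ∈ zpowers w := by
      have h1 : zpowers w ≤ zpowers x := zpowers_le.2 hw
      have h2 : Nat.card (zpowers w) = 3 := by
        have := card_dvd_of_le h1
        rw [Nat.card_zpowers, Nat.card_zpowers, hx] at this
        rw [Nat.card_zpowers]
        exact ((Nat.dvd_prime Nat.prime_three).1 this).resolve_left fun e => hw1' (orderOf_eq_one_iff.1 e)
      rw [eq_of_le_of_card_ge h1 (by rw [h2, Nat.card_zpowers, hx])]
      exact mem_zpowers x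
    obtain ⟨j, hj⟩ := mem_zpowers_iff.1 hxw
    refine h9.trans (Nat.le_of_dvd Nat.card_pos (card_dvd_of_le fun g hg => ?_))
    rw [mem_centralizer_singleton_iff, ← hj]
    exact (Commute.zpow_right (hwc' g hg) j).eq
  · have hle : zpowers x ⊔ zpowers w ≤ centralizer ({x} : Set G) := by
      refine sup_le (zpowers_le.2 (mem_centralizer_singleton_iff.2 rfl)) (zpowers_le.2 ?_)
      exact mem_centralizer_singleton_iff.2 (hwc' x hxR).symm
    refine le_trans ?_ (Nat.le_of_dvd Nat.card_pos (card_dvd_of_le hle))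
    have hp : IsPGroup 3 (zpowers x ⊔ zpowers w : Subgroup G) :=
      R.2.to_le (sup_le hR (zpowers_le.2 hwR))
    obtain ⟨k, hk⟩ := IsPGroup.iff_card.1 hp
    have hlt : zpowers x < zpowers x ⊔ zpowers w :=
      left_lt_sup.2 fun hle' => hw (hle' (mem_zpowers w))
    have h3 : 3 < Nat.card (zpowers x ⊔ zpowers w : Subgroup G) := by
      have h4 : Nat.card (zpowers x) < Nat.card (zpowers x ⊔ zpowers w : Subgroup G) := by
        by_contra hge
        exact hlt.ne (eq_of_le_of_card_ge hlt.le (not_lt.1 hge))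
      rwa [Nat.card_zpowers, hx] at h4
    rw [hk] at h3 ⊢
    rcases k with _ | _ | k
    · simp at h3
    · simp at h3
    · calc 9 = 3 ^ 2 := rfl
        _ ≤ 3 ^ (k + 1 + 1) := Nat.pow_le_pow_right (by norm_num) (by omega)

/-- The Sylow 2-subgroups are not TI. -/
theorem not_ti_two (h : Hyp G) : ¬ IsTI 2 G := by
  classical
  intro hti
  haveI : Fact (Nat.Prime 2) := ⟨Nat.prime_two⟩
  obtain ⟨T⟩ : Nonempty (Sylow 2 G) := inferInstance
  set H := normalizer ((T : Subgroup G) : Set G) with hH
  have hT1 : (T : Subgroup G) ≠ ⊥ := T.ne_bot_of_dvd_card h.h2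
  have hTH : (T : Subgroup G) ≤ H := le_normalizer
  have hinv_mem : ∀ t ∈ H, orderOf t = 2 → t ∈ (T : Subgroup G) := fun t ht hto =>
    mem_of_mem_normalizer T ht (pe_of_prime hto)
  have hmem : ∀ (t g : G), orderOf t = 2 → t ∈ H → g⁻¹ * t * g ∈ H → g ∈ H := by
    intro t g hto ht hgt
    have ho : orderOf (g⁻¹ * t * g) = 2 := by
      rw [show g⁻¹ * t * g = MulAut.conj g⁻¹ t by simp, MulEquiv.orderOf_eq, hto]
    have h1 := hti.mem_normalizer T (x := g⁻¹ * t * g) (g := g)
      (fun e => by rw [e, orderOf_one] at ho; omega) (hinv_mem _ hgt ho)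
      (by rw [show g * (g⁻¹ * t * g) * g⁻¹ = t by group]; exact hinv_mem t ht hto)
    exact h1
  have hHtop : H ≠ ⊤ := fun e => hT1 (h.normal_pgroup _ (normalizer_eq_top_iff.1 e) T.2)
  have hHev : Even (Nat.card H) := even_iff_two_dvd.2
    ((T.dvd_card_of_dvd_card h.h2).trans (card_dvd_of_le hTH))
  have hSE : Cfsg.IsStronglyEmbedded H := by
    refine ⟨hHtop, hHev, fun g hg => ?_⟩
    rw [← Nat.not_even_iff_odd]
    intro he
    obtain ⟨t, ht, hto⟩ := Cfsg.Lib.StrongEmb.exists_involution_of_even he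
    exact hg (hmem t g hto ht.1 (Cfsg.Lib.StrongEmb.mem_conj_iff.1 ht.2))
  obtain ⟨u, huH, hu⟩ : ∃ u, u ∉ H ∧ orderOf u = 2 := by
    by_contra hall
    push Not at hall
    obtain ⟨t, ht⟩ := exists_prime_orderOf_dvd_card' (G := G) 2 h.h2
    have hsub : ∀ g : G, g * t * g⁻¹ ∈ (T : Subgroup G) := fun g => by
      have ho : orderOf (g * t * g⁻¹) = 2 := by
        rw [show g * t * g⁻¹ = MulAut.conj g t from rfl, MulEquiv.orderOf_eq, ht]
      exact hinv_mem _ (by_contra fun hn => hall _ hn ho) ho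
    have hle : normalClosure ({t} : Set G) ≤ (T : Subgroup G) :=
      (closure_le _).2 fun y hy => by
        obtain ⟨a, ha, hc⟩ := Group.mem_conjugatesOfSet_iff.1 hy
        obtain ⟨c, rfl⟩ := isConj_iff.1 hc
        rw [Set.mem_singleton_iff] at ha
        subst ha
        exact hsub c
    have := h.normal_pgroup (normalClosure ({t} : Set G)) inferInstance (T.2.to_le hle)
    have htm : t ∈ normalClosure ({t} : Set G) := subset_normalClosure rfl
    rw [this, mem_bot] at htm
    rw [htm, orderOf_one] at ht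
    omega
  set D := H ⊓ H.map (MulAut.conj u).toMonoidHom with hD
  have hDodd : Odd (Nat.card D) := hSE.2.2 u huH
  have hDH : D ≤ H := inf_le_left
  obtain ⟨s, hs⟩ := exists_prime_orderOf_dvd_card' (G := (T : Subgroup G)) 2 (T.dvd_card_of_dvd_card h.h2)
  have hso : orderOf (s : G) = 2 := by rw [Subgroup.orderOf_coe, hs]
  let Inv := {t : G // orderOf t = 2 ∧ t ∈ H}
  let f : D → Inv := fun d => ⟨d * s * (d : G)⁻¹, by
    rw [show (d : G) * s * (d : G)⁻¹ = MulAut.conj (d : G) (s : G) from rfl, MulEquiv.orderOf_eq, hso],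
    mul_mem (mul_mem (hDH d.2) (hTH s.2)) (inv_mem (hDH d.2))⟩
  have hfree : ∀ d ∈ D, ∀ t : G, orderOf t = 2 → Commute d t → d = 1 := by
    intro d hd t ht hc
    by_contra hd1
    obtain ⟨q, hq, hqd⟩ := Nat.exists_prime_and_dvd (fun e => hd1 (orderOf_eq_one_iff.1 e))
    have hq2 : q ≠ 2 := by
      rintro rfl
      have h1 : 2 ∣ Nat.card D := hqd.trans (orderOf_dvd_natCard D hd)
      exact (Nat.not_even_iff_odd.2 hDodd) (even_iff_two_dvd.2 h1)
    exact not_commute h.le5 hc hq Nat.prime_two hq2 hqd (by rw [ht])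
  have hf : Function.Bijective f := by
    refine ⟨fun d d' he => ?_, fun t => ?_⟩
    · have he' : (d : G) * s * (d : G)⁻¹ = d' * s * (d' : G)⁻¹ := congrArg Subtype.val he
      have hc : Commute ((d' : G)⁻¹ * d) (s : G) := by
        show (d' : G)⁻¹ * d * s = s * ((d' : G)⁻¹ * d)
        calc (d' : G)⁻¹ * d * s = (d' : G)⁻¹ * (d * s * (d : G)⁻¹) * d := by group
          _ = (d' : G)⁻¹ * (d' * s * (d' : G)⁻¹) * d := by rw [he']
          _ = _ := by group
      exact Subtype.ext (inv_mul_eq_one.1 (hfree _ (mul_mem (inv_mem d'.2) d.2) _ hso hc)).symm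
    · obtain ⟨⟨d, hd, hdt⟩, -⟩ := Cfsg.Agent.S1225.result H hSE u hu huH (s : G) t hso (hTH s.2) t.2.1 t.2.2
      exact ⟨⟨d, hd⟩, Subtype.ext hdt⟩
  have hm : Nat.card Inv = Nat.card D := (Nat.card_congr (Equiv.ofBijective f hf)).symm
  rcases card_odd_normalizing h.le5 hDodd T.2 hT1 hDH with h1 | h1 | h1
  · -- one involution
    rw [h1] at hm
    haveI : Subsingleton Inv := (Nat.card_eq_one_iff_unique.1 hm).1
    have hone : ∀ g ∈ H, PE 2 g := fun g hg => by
      have hcg : Commute (s : G) g := by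
        have h2 : (⟨g * s * g⁻¹, by
            rw [show g * (s : G) * g⁻¹ = MulAut.conj g (s : G) from rfl, MulEquiv.orderOf_eq, hso],
            mul_mem (mul_mem hg (hTH s.2)) (inv_mem hg)⟩ : Inv) = ⟨s, hso, hTH s.2⟩ := Subsingleton.elim _ _
        exact (mul_inv_eq_iff_eq_mul.1 (congrArg Subtype.val h2)).symm
      exact pe_of_commute h.le5 Nat.prime_two (pe_of_prime hso)
        (fun e => by rw [e, orderOf_one] at hso; omega) hcg
    have hHT : ∀ g ∈ H, g ∈ (T : Subgroup G) := fun g hg => mem_of_mem_normalizer T hg (hone g hg)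
    refine h.no_frobenius (H := H) ⟨fun e => hT1 (eq_bot_iff.2 (e ▸ hTH)), hHtop, fun g hg => ?_⟩
    rw [eq_bot_iff]
    rintro v ⟨hv1, hv2⟩
    rw [mem_bot]
    by_contra hne
    replace hv2 : g⁻¹ * v * g ∈ H := mem_conjMap.1 hv2
    exact hg (hti.mem_normalizer T (x := g⁻¹ * v * g) (g := g)
      (fun e => hne (by rw [show v = g * (g⁻¹ * v * g) * g⁻¹ by group, e, mul_one, mul_inv_cancel]))
      (hHT _ hv2) (by rw [show g * (g⁻¹ * v * g) * g⁻¹ = v by group]; exact hHT _ hv1))
  · -- three involutions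
    rw [h1] at hm
    haveI : Fact (Nat.Prime 3) := ⟨Nat.prime_three⟩
    obtain ⟨x0, hx0⟩ := exists_prime_orderOf_dvd_card' (G := D) 3 (by rw [h1])
    set x : G := (x0 : G) with hx
    have hxo : orderOf x = 3 := by rw [hx, Subgroup.orderOf_coe, hx0]
    have hxD : zpowers x = D := eq_of_le_of_card_ge (zpowers_le.2 x0.2) (by rw [Nat.card_zpowers, hxo, h1])
    have huu : u * u = 1 := by rw [← sq, ← hu, pow_orderOf_eq_one]
    have hui : u⁻¹ = u := inv_eq_of_mul_eq_one_right huu
    have hinv : ∀ i : G, orderOf i = 2 → (∀ v ∈ zpowers x, i * v * i ∈ zpowers x) → i * x * i = x⁻¹ := by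
      intro i hi hn
      have hii : i * i = 1 := by rw [← sq, ← hi, pow_orderOf_eq_one]
      refine inverts_of_fpf hii hn (fun v hv hfix => ?_) x (mem_zpowers x)
      exact hfree v (hxD ▸ hv) i hi ((commute_iff_conj hii).1 hfix).symm
    have huD : ∀ v ∈ D, u * v * u ∈ D := by
      rintro v ⟨hv1, hv2⟩
      have hv2' : u⁻¹ * v * u ∈ H := Cfsg.Lib.StrongEmb.mem_conj_iff.1 hv2
      rw [hui] at hv2'
      refine ⟨hv2', Cfsg.Lib.StrongEmb.mem_conj_iff.2 ?_⟩
      rwa [hui, show u * (u * v * u) * u = u * u * v * (u * u) by group, huu, one_mul, mul_one]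
    have hux : u * x * u = x⁻¹ := hinv u hu (hxD ▸ huD)
    set C := centralizer ({x} : Set G) with hC
    have hc9 := card_centralizer_three h hxo
    have hxC : zpowers x ≤ C := zpowers_le.2 (mem_centralizer_singleton_iff.2 rfl)
    have huC : ∀ c ∈ C, u * c * u ∈ C := by
      intro c hc
      have hc' : c * x * c⁻¹ = x := mul_inv_eq_iff_eq_mul.2 (mem_centralizer_singleton_iff.1 hc)
      rw [mem_centralizer_singleton_iff]
      have h2 : u * c * u * x * (u * c * u)⁻¹ = x := by
        calc u * c * u * x * (u * c * u)⁻¹ = u * (c * (u * x * u⁻¹) * c⁻¹) * u⁻¹ := by group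
          _ = u * (c * x * c⁻¹)⁻¹ * u⁻¹ := by rw [hui, hux]; group
          _ = (u * x * u)⁻¹ := by rw [hc', hui, mul_inv_rev, mul_inv_rev, hui, mul_assoc]
          _ = x := by rw [hux, inv_inv]
      exact mul_inv_eq_iff_eq_mul.1 h2
    haveI : Fact (Nat.Prime 3) := ⟨Nat.prime_three⟩
    have hC3 : IsPGroup 3 C := centralizer_pgroup h.le5 (pe_of_prime hxo)
      fun e => by rw [e, orderOf_one] at hxo; omega
    have hCi : ∀ c ∈ C, u * c * u = c⁻¹ := inverts_of_fpf huu huC fun c hc hfix => by
      by_contra hc1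
      exact not_commute_pe h.le5 Nat.prime_three Nat.prime_two (by norm_num) (pe_of_mem hC3 hc) hc1
        (pe_of_prime hu) (fun e => by rw [e, orderOf_one] at hu; omega) ((commute_iff_conj huu).1 hfix).symm
    let pt : G → G ⧸ H := fun g => QuotientGroup.mk g
    let F := {q : G ⧸ H // x • q = q}
    have hfixN : ∀ g : G, (g * x * g⁻¹ = x ∨ g * x * g⁻¹ = x⁻¹) → x • pt g = pt g := by
      intro g hg
      show ((x * g : G) : G ⧸ H) = (g : G ⧸ H)
      rw [QuotientGroup.eq]
      have hgx : g⁻¹ * x * g = x ∨ g⁻¹ * x * g = x⁻¹ := by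
        rcases hg with e | e
        · left
          calc g⁻¹ * x * g = g⁻¹ * (g * x * g⁻¹) * g := by rw [e]
            _ = x := by group
        · right
          calc g⁻¹ * x * g = g⁻¹ * (g * x * g⁻¹)⁻¹ * g := by rw [e, inv_inv]
            _ = x⁻¹ := by group
      have hmemH : g⁻¹ * x * g ∈ H := by
        rcases hgx with e | e <;> rw [e]
        · exact hDH x0.2
        · exact inv_mem (hDH x0.2)
      rw [show (x * g)⁻¹ * g = (g⁻¹ * x * g)⁻¹ by group]
      exact inv_mem hmemH
    have hcfix : ∀ c ∈ C, x • pt c = pt c := fun c hc =>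
      hfixN c (Or.inl (mul_inv_eq_iff_eq_mul.2 (mem_centralizer_singleton_iff.1 hc)))
    have hucfix : ∀ c ∈ C, x • pt (u * c) = pt (u * c) := fun c hc => hfixN (u * c) (Or.inr (by
      calc u * c * x * (u * c)⁻¹ = u * (c * x * c⁻¹) * u⁻¹ := by group
        _ = _ := by rw [mul_inv_eq_iff_eq_mul.2 (mem_centralizer_singleton_iff.1 hc), hui, hux]))
    -- two elements of the same fibre differ by an element of `zpowers x`
    have hinH : ∀ c ∈ C, c ∈ H → c ∈ zpowers x := by
      intro c hc hcH
      have h3p : IsPGroup 3 (C ⊓ H : Subgroup G) := hC3.to_le inf_le_left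
      have h5 : Odd (Nat.card (C ⊓ H : Subgroup G)) := by
        obtain ⟨k, hk⟩ := IsPGroup.iff_card.1 h3p
        rw [hk]
        exact (by decide : Odd 3).pow
      have hle : zpowers x ≤ C ⊓ H := le_inf hxC (zpowers_le.2 (hDH x0.2))
      rw [eq_of_le_of_card_ge hle ?_]
      · exact ⟨hc, hcH⟩
      · rw [Nat.card_zpowers, hxo]
        rcases card_odd_normalizing h.le5 h5 T.2 hT1 inf_le_right with e | e | e
        · omega
        · omega
        · obtain ⟨k, hk⟩ := IsPGroup.iff_card.1 h3p
          rw [e] at hk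
          have : 3 ∣ 5 ∨ k = 0 := by
            rcases k with _ | k
            · exact Or.inr rfl
            · exact Or.inl (hk ▸ dvd_pow_self 3 (Nat.succ_ne_zero k))
          rcases this with h6 | h6
          · norm_num at h6
          · subst h6; omega
    have hnouH : ∀ c ∈ C, u * c ∉ H := by
      intro c hc hH'
      have hio : orderOf (u * c) = 2 := orderOf_eq_prime (by
        rw [sq, show u * c * (u * c) = u * c * u * c by group, hCi c hc, inv_mul_cancel]) (by
        intro e
        have h2 : c * u = 1 := mul_eq_one_comm.1 e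
        exact not_pe_two_odd Nat.prime_three (by norm_num) hu
          (pe_of_mem hC3 (by rw [eq_inv_of_mul_eq_one_left e]; exact inv_mem hc)))
      have hiT := hinv_mem _ hH' hio
      have h2 : x⁻¹ * (u * c) * x * (u * c)⁻¹ ∈ (T : Subgroup G) := by
        refine mul_mem ?_ (inv_mem hiT)
        have h7 := (mem_normalizer_iff''.1 (hDH x0.2) (u * c)).1 hiT
        exact h7
      have hx2 : u * c * x = x⁻¹ * (u * c) := by
        rw [mul_assoc, mem_centralizer_singleton_iff.1 hc, ← mul_assoc, ← mul_assoc]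
        congr 1
        rw [← hux, mul_assoc, huu, mul_one]
      rw [show x⁻¹ * (u * c) * x * (u * c)⁻¹ = x⁻¹ * (u * c * x) * (u * c)⁻¹ by group, hx2,
        show x⁻¹ * (x⁻¹ * (u * c)) * (u * c)⁻¹ = (x ^ 2)⁻¹ by group, inv_mem_iff] at h2
      have h3 : x ∈ (T : Subgroup G) := by
        have := mul_mem h2 h2
        rwa [← pow_add, show (2 + 2 : ℕ) = 3 + 1 by rfl, pow_succ, ← hxo, pow_orderOf_eq_one, one_mul] at this
      obtain ⟨k, hk⟩ := pe_of_mem T.2 h3
      rw [hxo] at hk
      have : 3 ∣ 2 := Nat.prime_three.dvd_of_dvd_pow (n := k) (by rw [← hk])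
      omega
    -- the image of the involutions inverting `x`
    have hsurj : ∀ q : F, q.1 ≠ pt 1 → ∃ c ∈ C, pt (u * c) = q.1 := by
      intro q hq
      obtain ⟨g, hg⟩ := QuotientGroup.mk_surjective q.1
      have hgH : g ∉ H := fun e => hq (by
        rw [← hg]; exact QuotientGroup.eq.2 (by rw [mul_one]; exact inv_mem e))
      have hne : pt 1 ≠ q.1 := hq.symm
      have hcard := Cfsg.Agent.S1224.result H hSE (pt 1) q.1 hne
      rw [hm] at hcard
      obtain ⟨⟨i, hio, hiq⟩, -⟩ : ∃ _i : {i : G // orderOf i = 2 ∧ i • pt 1 = q.1}, True := by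
        obtain ⟨w⟩ := (Nat.card_pos_iff.1 (by rw [hcard]; norm_num)).1
        exact ⟨w, trivial⟩
      have hiq' : pt i = q.1 := by rw [← hiq]; show pt i = ((i * 1 : G) : G ⧸ H); rw [mul_one]
      have hii : i * i = 1 := by rw [← sq, ← hio, pow_orderOf_eq_one]
      have hiv : i⁻¹ = i := inv_eq_of_mul_eq_one_right hii
      have hiH : i ∉ H := fun e => hq (by
        rw [← hiq']; exact QuotientGroup.eq.2 (by rw [mul_one]; exact inv_mem e))
      set D' := H ⊓ H.map (MulAut.conj i).toMonoidHom with hD'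
      have hxD' : x ∈ D' := by
        refine ⟨hDH x0.2, Cfsg.Lib.StrongEmb.mem_conj_iff.2 ?_⟩
        have h2 : x • pt i = pt i := by rw [hiq']; exact q.2
        have h3 : ((x * i : G) : G ⧸ H) = (i : G ⧸ H) := h2
        rw [QuotientGroup.eq] at h3
        rw [show i⁻¹ * x * i = ((x * i)⁻¹ * i)⁻¹ by group]
        exact inv_mem h3
      have hD'x : D' = zpowers x := by
        refine (eq_of_le_of_card_ge (zpowers_le.2 hxD') ?_).symm
        rw [Nat.card_zpowers, hxo]
        have h4 : 3 ∣ Nat.card D' := by rw [← hxo]; exact orderOf_dvd_natCard D' hxD'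
        rcases card_odd_normalizing h.le5 (hSE.2.2 i hiH) T.2 hT1 inf_le_left with e | e | e <;>
          rw [e] at h4 ⊢ <;> omega
      have hix : i * x * i = x⁻¹ := hinv i hio fun v hv => by
        rw [← hD'x] at hv ⊢
        obtain ⟨hv1, hv2⟩ := hv
        have hv2' : i⁻¹ * v * i ∈ H := Cfsg.Lib.StrongEmb.mem_conj_iff.1 hv2
        rw [hiv] at hv2'
        refine ⟨hv2', Cfsg.Lib.StrongEmb.mem_conj_iff.2 ?_⟩
        rwa [hiv, show i * (i * v * i) * i = i * i * v * (i * i) by group, hii, one_mul, mul_one]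
      refine ⟨u * i, ?_, by rw [← mul_assoc, huu, one_mul, hiq']⟩
      rw [mem_centralizer_singleton_iff]
      have h5 : u * i * x * (u * i)⁻¹ = x := by
        calc u * i * x * (u * i)⁻¹ = u * (i * x * i⁻¹) * u⁻¹ := by group
          _ = (u * x * u)⁻¹ := by rw [hiv, hix, hui, mul_inv_rev, mul_inv_rev, hui, mul_assoc]
          _ = x := by rw [hux, inv_inv]
      exact mul_inv_eq_iff_eq_mul.1 h5
    let q1 : F := ⟨pt 1, hfixN 1 (Or.inl (by group))⟩
    -- lower bound
    have hch : ∀ q : {q : F // q ≠ q1}, ∃ c ∈ C, pt (u * c) = q.1.1 :=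
      fun q => hsurj q.1 fun e => q.2 (Subtype.ext e)
    choose r hrC hr using hch
    have hupper : Nat.card ({q : F // q ≠ q1} × zpowers x) ≤ Nat.card C := by
      refine Nat.card_le_card_of_injective (fun p => (⟨r p.1 * p.2, mul_mem (hrC p.1) (hxC p.2.2)⟩ : C)) ?_
      rintro ⟨q, y⟩ ⟨q', y'⟩ he
      have he' : r q * (y : G) = r q' * y' := congrArg Subtype.val he
      have hq : q = q' := by
        refine Subtype.ext (Subtype.ext ?_)
        rw [← hr q, ← hr q']
        refine QuotientGroup.eq.2 ?_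
        rw [show (u * r q)⁻¹ * (u * r q') = (r q)⁻¹ * r q' by group,
          show (r q)⁻¹ * r q' = (y : G) * ((r q * y)⁻¹ * (r q' * y')) * (y' : G)⁻¹ by group, he',
          inv_mul_cancel, mul_one]
        exact mul_mem (hDH (hxD ▸ y.2)) (inv_mem (hDH (hxD ▸ y'.2)))
      subst hq
      exact Prod.ext rfl (Subtype.ext (mul_left_cancel he'))
    let P : C ⊕ C → F := Sum.elim (fun c => ⟨pt c, hcfix c c.2⟩) (fun c => ⟨pt (u * c), hucfix c c.2⟩)
    let val : C ⊕ C → G := Sum.elim (fun c => (c : G)) (fun c => u * c)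
    have hkey : ∀ a b, P a = P b → (val a)⁻¹ * val b ∈ zpowers x := by
      intro a b he
      have he' : (val a)⁻¹ * val b ∈ H := by
        have := congrArg Subtype.val he
        rcases a with a | a <;> rcases b with b | b <;> exact QuotientGroup.eq.1 this
      rcases a with a | a <;> rcases b with b | b <;> simp only [val, Sum.elim_inl, Sum.elim_inr] at he' ⊢
      · exact hinH _ (mul_mem (inv_mem a.2) b.2) he'
      · exfalso
        refine hnouH _ (mul_mem a.2 b.2) ?_
        have : u * ((a : G) * b) = (a : G)⁻¹ * (u * b) := by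
          rw [← hCi a a.2, show u * (a : G) * u * (u * b) = u * a * (u * u) * b by group, huu]; group
        rwa [this]
      · exfalso
        refine hnouH _ (mul_mem a.2 b.2) ?_
        have : u * ((a : G) * b) = (u * a)⁻¹ * b := by
          rw [mul_inv_rev, hui, ← hCi a a.2, show u * (a : G) * u * u * b = u * a * (u * u) * b by group, huu]
          group
        rwa [this]
      · rw [show (u * (a : G))⁻¹ * (u * b) = (a : G)⁻¹ * b by group] at he' ⊢
        exact hinH _ (mul_mem (inv_mem a.2) b.2) he'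
    have hlower : Nat.card (C ⊕ C) ≤ Nat.card (F × zpowers x) := by
      let sec : F → C ⊕ C := Function.invFun P
      have hsec : ∀ a, P (sec (P a)) = P a := fun a => Function.invFun_eq (f := P) ⟨a, rfl⟩
      refine Nat.card_le_card_of_injective
        (fun a => (P a, (⟨(val (sec (P a)))⁻¹ * val a, hkey _ _ (hsec a)⟩ : zpowers x))) ?_
      intro a b he
      obtain ⟨he1, he2⟩ := Prod.ext_iff.1 he
      have he2' := congrArg Subtype.val he2
      dsimp only at he1 he2'
      rw [he1] at he2'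
      have hv := mul_left_cancel he2'
      rcases a with a | a <;> rcases b with b | b <;> simp only [val, Sum.elim_inl, Sum.elim_inr] at hv
      · rw [Subtype.ext hv]
      · exact absurd (by rw [eq_mul_inv_of_mul_eq hv.symm]; exact mul_mem a.2 (inv_mem b.2) : u ∈ C)
          fun hh => not_pe_two_odd Nat.prime_three (by norm_num) hu (pe_of_mem hC3 hh)
      · exact absurd (by rw [eq_mul_inv_of_mul_eq hv]; exact mul_mem b.2 (inv_mem a.2) : u ∈ C)
          fun hh => not_pe_two_odd Nat.prime_three (by norm_num) hu (pe_of_mem hC3 hh)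
      · rw [Subtype.ext (mul_left_cancel hv)]
    rw [Nat.card_sum, Nat.card_prod, Nat.card_zpowers, hxo] at hlower
    rw [Nat.card_prod, Nat.card_zpowers, hxo] at hupper
    have hF1 : Nat.card {q : F // q ≠ q1} + 1 = Nat.card F := by
      rw [← Nat.card_congr (Equiv.sumCompl (fun q : F => q ≠ q1)), Nat.card_sum]
      congr 1
      have : Unique {q : F // ¬ q ≠ q1} := ⟨⟨⟨q1, fun e => e rfl⟩⟩, fun q => Subtype.ext (not_not.1 q.2)⟩
      rw [Nat.card_unique]
    change 9 ≤ Nat.card C at hc9
    omega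
  · -- five involutions
    rw [h1] at hm
    haveI : Nontrivial (T : Subgroup G) := (nontrivial_iff_ne_bot _).2 hT1
    have hz := T.2.center_nontrivial
    obtain ⟨z, hz'⟩ := exists_prime_orderOf_dvd_card' (G := center (T : Subgroup G)) 2 (by
      obtain ⟨j, hj⟩ := IsPGroup.iff_card.1 (T.2.to_subgroup (center (T : Subgroup G)))
      rw [hj]
      refine dvd_pow_self 2 fun hj0 => ?_
      rw [hj0, pow_zero] at hj
      exact (Finite.one_lt_card (α := center (T : Subgroup G))).ne' hj)
    set z' : G := ((z : (T : Subgroup G)) : G) with hz''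
    have hzo : orderOf z' = 2 := by rw [hz'', Subgroup.orderOf_coe, Subgroup.orderOf_coe, hz']
    have hzT : z' ∈ (T : Subgroup G) := (z : (T : Subgroup G)).2
    have hzc : ∀ g ∈ (T : Subgroup G), g * z' = z' * g := fun g hg =>
      congrArg Subtype.val (mem_center_iff.1 z.2 ⟨g, hg⟩)
    have hall : ∀ t : Inv, ∀ g ∈ (T : Subgroup G), g * (t : G) = t * g := by
      intro t g hg
      obtain ⟨⟨d, hd, hdt⟩, -⟩ := Cfsg.Agent.S1225.result H hSE u hu huH z' t hzo (hTH hzT) t.2.1 t.2.2
      have hg' : d⁻¹ * g * d ∈ (T : Subgroup G) := (mem_normalizer_iff''.1 (hDH hd) g).1 hg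
      have := hzc _ hg'
      rw [← hdt]
      calc g * (d * z' * d⁻¹) = d * (d⁻¹ * g * d * z') * d⁻¹ := by group
        _ = d * (z' * (d⁻¹ * g * d)) * d⁻¹ := by rw [this]
        _ = _ := by group
    let Ω : Subgroup G :=
      { carrier := {g | g ∈ (T : Subgroup G) ∧ g * g = 1}
        one_mem' := ⟨one_mem _, one_mul 1⟩
        mul_mem' := fun {a b} ha hb => ⟨mul_mem ha.1 hb.1, by
          rcases eq_or_ne a 1 with rfl | ha1
          · simpa using hb.2
          have hat : orderOf a = 2 := orderOf_eq_prime (by rw [sq]; exact ha.2) ha1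
          have hc := hall ⟨a, hat, hTH ha.1⟩ b hb.1
          calc a * b * (a * b) = a * (b * a) * b := by group
            _ = a * a * (b * b) := by rw [show b * a = a * b from hc]; group
            _ = 1 := by rw [ha.2, hb.2, one_mul]⟩
        inv_mem' := fun {a} ha => ⟨inv_mem ha.1, by rw [← mul_inv_rev, ha.2, inv_one]⟩ }
    have hΩ : Nat.card Ω = 6 := by
      let e : Ω ≃ Option Inv :=
        { toFun := fun g => if hg : (g : G) = 1 then none else
            some ⟨g, orderOf_eq_prime (by rw [sq]; exact g.2.2) hg, hTH g.2.1⟩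
          invFun := fun o => o.elim ⟨1, one_mem _⟩ fun t => ⟨t, hinv_mem _ t.2.2 t.2.1, by
            rw [← sq]; exact orderOf_dvd_iff_pow_eq_one.1 (by rw [t.2.1])⟩
          left_inv := fun g => by
            dsimp only
            split_ifs with hg
            · exact Subtype.ext hg.symm
            · rfl
          right_inv := fun o => by
            rcases o with _ | t
            · simp
            · have ht1 : (t : G) ≠ 1 := fun e => by
                have := t.2.1
                rw [e, orderOf_one] at this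
                omega
              simp [ht1] }
      rw [Nat.card_congr e, Finite.card_option, hm]
    obtain ⟨k, hk⟩ := IsPGroup.iff_card.1 (T.2.to_le (show Ω ≤ (T : Subgroup G) from fun g hg => hg.1))
    rw [hΩ] at hk
    have : 3 ∣ 2 := Nat.prime_three.dvd_of_dvd_pow (n := k) (by rw [← hk]; norm_num)
    omega

end Cfsg.Lib.SpecFive
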